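import Mathlib.GroupTheory.FixedPointFree
import Cfsg.Agent.H90.Extraspecial

/-!
"Pre-large" extraspecial 2-subgroups: centralizer equal to the centre, normal in the centralizer of the centre.
-/
set_option autoImplicit false

namespace Cfsg.Agent.H90

open Cfsg
open scoped commutatorElement

/-- `Q` is extraspecial(-like) with centre `⟨z⟩`, `C_G(Q) = ⟨z⟩` and `Q ⊴ C_G(z)`. -/
structure PL {G : Type*} [Group G] (Q : Subgroup G) (z : G) : Prop extends XS Q z where
  cent : ∀ g : G, (∀ q ∈ Q, g * q = q * g) → g = 1 ∨ g = z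
  norm : ∀ g : G, g * z = z * g → ∀ q ∈ Q, g * q * g⁻¹ ∈ Q

/-- An element of order a power of 2 in a subgroup of odd order is trivial. -/
theorem eq_one_of_mem_odd_of_pow {G : Type*} [Group G] {K : Subgroup G} (hK : Odd (Nat.card K))
    {x : G} (hx : x ∈ K) {n : ℕ} (hn : x ^ (2 ^ n) = 1) : x = 1 := by
  have h1 : orderOf x ∣ 2 ^ n := orderOf_dvd_of_pow_eq_one hn
  have h2 : orderOf x ∣ Nat.card K := by
    have := orderOf_dvd_natCard (⟨x, hx⟩ : K)
    rwa [← Subgroup.orderOf_coe] at this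
  have h3 : Nat.Coprime (2 ^ n) (Nat.card K) := Nat.Coprime.pow_left _ (Nat.coprime_two_left.mpr hK)
  have h4 : orderOf x ∣ 1 := by
    rw [← h3]; exact Nat.dvd_gcd h1 h2
  rw [← orderOf_eq_one_iff]
  exact Nat.dvd_one.mp h4

/-- A fixed-point-free involution inverts. -/
theorem inverts_of_fpf {G : Type*} [Group G] (K : Subgroup G) [Finite K] (t : G) (ht : t * t = 1)
    (hK : ∀ k ∈ K, t * k * t⁻¹ ∈ K) (hC : ∀ k ∈ K, t * k = k * t → k = 1) :
    ∀ k ∈ K, t * k * t⁻¹ = k⁻¹ := by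
  let φ : K →* K :=
    { toFun := fun k => ⟨t * k * t⁻¹, hK k k.2⟩
      map_one' := by ext; simp
      map_mul' := fun a b => by
        ext
        simp only [Subgroup.coe_mul]
        group }
  have h1 : MonoidHom.FixedPointFree φ := by
    intro k hk
    have : t * (k : G) * t⁻¹ = k := congrArg Subtype.val hk
    ext
    apply hC k k.2
    rwa [mul_inv_eq_iff_eq_mul] at this
  have hti : t⁻¹ = t := inv_eq_of_mul_eq_one_left ht
  have h2 : φ^[2] = _root_.id := by
    funext k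
    ext
    change t * (t * (k : G) * t⁻¹) * t⁻¹ = k
    rw [hti]
    calc t * (t * (k : G) * t) * t = (t * t) * k * (t * t) := by group
      _ = k := by rw [ht]; simp
  have h3 := h1.coe_eq_inv_of_sq_eq_one h2
  intro k hk
  exact congrArg Subtype.val (congrFun h3 ⟨k, hk⟩)

namespace PL

variable {G : Type*} [Group G] {Q : Subgroup G} {z : G}

theorem of_isExtraspecial (hL1 : IsExtraspecial 2 ↥Q)
    (hL2 : Subgroup.centralizer (Q : Set G) = (Subgroup.center ↥Q).map Q.subtype)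
    (hL3 : Subgroup.centralizer (((Subgroup.center ↥Q).map Q.subtype : Subgroup G) : Set G) ≤
      Subgroup.normalizer (Q : Set G)) :
    ∃ z : G, PL Q z ∧ (Subgroup.center ↥Q).map Q.subtype = Subgroup.zpowers z := by
  obtain ⟨z, hz, hz'⟩ := XS.of_isExtraspecial hL1
  refine ⟨z, ⟨hz, fun g hg => ?_, fun g hg q hq => ?_⟩, hz'⟩
  · have h1 : g ∈ Subgroup.centralizer (Q : Set G) := by
      rw [Subgroup.mem_centralizer_iff]
      intro q hq
      exact (hg q hq).symm
    rw [hL2] at h1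
    obtain ⟨y, hy, rfl⟩ := h1
    exact (hz.mem_center_iff y).mp hy
  · have h1 : g ∈ Subgroup.centralizer (((Subgroup.center ↥Q).map Q.subtype : Subgroup G) : Set G) := by
      rw [Subgroup.mem_centralizer_iff]
      rintro _ ⟨y, hy, rfl⟩
      simp only [Subgroup.coe_subtype]
      rcases (hz.mem_center_iff y).mp hy with h2 | h2 <;> rw [h2]
      · simp
      · exact hg.symm
    exact (Subgroup.mem_normalizer_iff.mp (hL3 h1) q).mp hq

theorem centralizer_eq (h : PL Q z) :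
    Subgroup.centralizer (Q : Set G) = (Subgroup.center ↥Q).map Q.subtype := by
  rw [h.center_eq]
  apply le_antisymm
  · intro g hg
    rw [Subgroup.mem_centralizer_iff] at hg
    rcases h.cent g (fun q hq => (hg q hq).symm) with h1 | h1
    · rw [h1]; exact Subgroup.one_mem _
    · rw [h1]; exact Subgroup.mem_zpowers z
  · rw [Subgroup.zpowers_le, Subgroup.mem_centralizer_iff]
    intro q hq
    exact h.central q hq

theorem le_normalizer (h : PL Q z) :
    Subgroup.centralizer (((Subgroup.center ↥Q).map Q.subtype : Subgroup G) : Set G) ≤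
      Subgroup.normalizer (Q : Set G) := by
  rw [h.center_eq]
  intro g hg
  have hgz : g * z = z * g := ((Subgroup.mem_centralizer_iff.mp hg) z (Subgroup.mem_zpowers z)).symm
  have hgz' : g⁻¹ * z = z * g⁻¹ := by
    rw [inv_mul_eq_iff_eq_mul, ← mul_assoc, hgz]; group
  rw [Subgroup.mem_normalizer_iff]
  intro q
  constructor
  · exact fun hq => h.norm g hgz q hq
  · intro hq
    have := h.norm g⁻¹ hgz' _ hq
    simpa [mul_assoc] using this

/-- For an odd-order `Q`-invariant subgroup `K` we have `C_K(z) = 1`. -/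
theorem inf_centralizer_eq_one (h : PL Q z) (K : Subgroup G) (hK : Odd (Nat.card K))
    (hQK : ∀ q ∈ Q, ∀ k ∈ K, q * k * q⁻¹ ∈ K) : ∀ k ∈ K, k * z = z * k → k = 1 := by
  intro k hk hkz
  have h1 : ∀ q ∈ Q, k * q = q * k := by
    intro q hq
    have h2 : k * q * k⁻¹ * q⁻¹ ∈ Q := Q.mul_mem (h.norm k hkz q hq) (Q.inv_mem hq)
    have h3 : k * q * k⁻¹ * q⁻¹ ∈ K := by
      have : k * (q * k⁻¹ * q⁻¹) ∈ K := K.mul_mem hk (hQK q hq _ (K.inv_mem hk))
      convert this using 1; group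
    have h4 : k * q * k⁻¹ * q⁻¹ = 1 :=
      eq_one_of_mem_odd_of_pow hK h3 (n := 2) (h.pow_four h2)
    rw [mul_inv_eq_one, mul_inv_eq_iff_eq_mul] at h4
    exact h4
  rcases h.cent k h1 with h2 | h2
  · exact h2
  · exact eq_one_of_mem_odd_of_pow hK hk (n := 1) (by rw [h2, pow_one, pow_two, h.sq])

/-- Largeness follows as soon as every odd-order `Q`-invariant subgroup is trivial. -/
theorem isLarge (h : PL Q z) (hQ : IsExtraspecial 2 ↥Q)
    (hodd : ∀ K : Subgroup G, Odd (Nat.card K) → (∀ q ∈ Q, ∀ k ∈ K, q * k * q⁻¹ ∈ K) →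
      ∀ k ∈ K, k = 1) : IsLargeExtraspecial Q := by
  refine ⟨hQ, h.centralizer_eq, h.le_normalizer, fun K hK hQK => ?_⟩
  rw [eq_bot_iff]
  intro k hk
  rw [Subgroup.mem_bot]
  apply hodd K hK _ k hk
  intro q hq k hk
  exact (Subgroup.mem_normalizer_iff.mp (hQK hq) k).mp hk

/-- the data of a large extraspecial subgroup -/
theorem of_isLarge (hQ : IsLargeExtraspecial Q) :
    ∃ z : G, PL Q z ∧ (Subgroup.center ↥Q).map Q.subtype = Subgroup.zpowers z :=
  of_isExtraspecial hQ.1 hQ.2.1 hQ.2.2.1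

theorem of_isLarge' (hQ : IsLargeExtraspecial Q) {z : G}
    (hz : (Subgroup.center ↥Q).map Q.subtype = Subgroup.zpowers z) : PL Q z := by
  obtain ⟨z', h', hz'⟩ := of_isLarge hQ
  have h1 := XS.of_isExtraspecial' hQ.1 hz
  have h2 : z' ∈ Subgroup.zpowers z := by
    rw [← hz, hz']; exact Subgroup.mem_zpowers z'
  have h3 : z' = z := by
    rcases h1.nondeg z' h'.mem (fun y hy => (h'.central y hy).symm) with h4 | h4
    · exact absurd h4 h'.ne_one
    · exact h4
  rw [← h3]; exact h'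

theorem odd_bot (hQ : IsLargeExtraspecial Q) (K : Subgroup G)
    (hK : Odd (Nat.card K)) (hQK : ∀ q ∈ Q, ∀ k ∈ K, q * k * q⁻¹ ∈ K) : K = ⊥ := by
  apply hQ.2.2.2 K hK
  intro q hq
  rw [Subgroup.mem_normalizer_iff]
  intro k
  refine ⟨fun hk => hQK q hq k hk, fun hk => ?_⟩
  have := hQK q⁻¹ (Q.inv_mem hq) _ hk
  simpa [mul_assoc] using this

/-- If an involution `s ∈ Q`, `s ≠ z`, acts without fixed points on the odd-order `Q`-invariant `K` then `K = 1`. -/
theorem odd_trivial_of_fpf (h : PL Q z) {s : G} (hsQ : s ∈ Q) (hs2 : s * s = 1) (hs1 : s ≠ 1)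
    (hsz : s ≠ z) (K : Subgroup G) [Finite K] (hK : Odd (Nat.card K))
    (hQK : ∀ q ∈ Q, ∀ k ∈ K, q * k * q⁻¹ ∈ K) (hCs : ∀ k ∈ K, k * s = s * k → k = 1) :
    ∀ k ∈ K, k = 1 := by
  have hCz := h.inf_centralizer_eq_one K hK hQK
  have hib := inverts_of_fpf K s hs2 (hQK s hsQ) (fun k hk h1 => hCs k hk h1.symm)
  have hiz := inverts_of_fpf K z h.sq (hQK z h.mem) (fun k hk h1 => hCz k hk h1.symm)
  obtain ⟨q, hq, hqb⟩ := h.exists_conj hsQ hs1 hsz
  intro k hk
  have hbi : s⁻¹ = s := inv_eq_of_mul_eq_one_left hs2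
  have h1 : (s * z) * k * (s * z)⁻¹ = k := by
    calc (s * z) * k * (s * z)⁻¹ = s * (z * k * z⁻¹) * s⁻¹ := by group
      _ = s * k⁻¹ * s⁻¹ := by rw [hiz k hk]
      _ = k := by rw [hib _ (K.inv_mem hk), inv_inv]
  rw [← hqb] at h1
  have h2 : q⁻¹ * k * q ∈ K := by
    have := hQK q⁻¹ (Q.inv_mem hq) k hk
    simpa using this
  have h3 : q⁻¹ * k * q = 1 := by
    apply hCs _ h2
    have h4 : q⁻¹ * (q * s * q⁻¹ * k * (q * s * q⁻¹)⁻¹) * q * s = q⁻¹ * k * q * s := by rw [h1]
    rw [← h4]; group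
  have h5 : q * (q⁻¹ * k * q) * q⁻¹ = 1 := by rw [h3]; simp
  have h6 : q * (q⁻¹ * k * q) * q⁻¹ = k := by group
  rw [← h6, h5]

end PL

/-- The `p`-core is a `p`-group. -/
theorem isPGroup_pCore (p : ℕ) (G : Type*) [Group G] : IsPGroup p (pCore p G) := by
  unfold pCore
  exact Sylow.sSup_of_normal _ (fun H hH => hH.2) (fun H hH => hH.1)

end Cfsg.Agent.H90
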