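import Mathlib

/-!
# Automorphisms of permutation groups induced by permutations (owner: helper90)
-/

set_option autoImplicit false

namespace Cfsg.Agent.H90

open MulAction

/-- The stabilizer of a point in a permutation group, as a subgroup of the group. -/
def ptStab {Ω : Type*} (G : Subgroup (Equiv.Perm Ω)) (p : Ω) : Subgroup G where
  carrier := {g | g.1 p = p}
  one_mem' := rfl
  mul_mem' := by
    intro a b ha hb
    show a.1 (b.1 p) = p
    rw [show b.1 p = p from hb]; exact ha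
  inv_mem' := by
    intro a ha
    exact Equiv.Perm.inv_eq_iff_eq.2 (show p = a.1 p from ha.symm)

theorem mem_ptStab {Ω : Type*} {G : Subgroup (Equiv.Perm Ω)} {p : Ω} {g : G} : g ∈ ptStab G p ↔ g.1 p = p :=
  Iff.rfl

/-- If every subgroup of the order of a point stabilizer fixes a point, every automorphism is induced by a
permutation. -/
theorem exists_perm_of_aut {Ω : Type*} [Finite Ω] (G : Subgroup (Equiv.Perm Ω)) (F : Set Ω)
    (h1 : ∀ g ∈ G, ∀ p ∈ F, g p = p)
    (h2 : ∀ p ∉ F, ∀ q ∉ F, ∃ g ∈ G, g p = q)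
    (h3 : ∀ p ∉ F, ∀ q ∉ F, q ≠ p → ∃ g ∈ G, g p = p ∧ g q ≠ q)
    (h4 : ∀ K : Subgroup G, (∀ p ∉ F, Nat.card K = Nat.card (ptStab G p)) → ∃ q ∉ F, K ≤ ptStab G q)
    (α : MulAut G) : ∃ π : Equiv.Perm Ω, (∀ p ∈ F, π p = p) ∧
      ∀ g : G, ((α g : G) : Equiv.Perm Ω) = π * g * π⁻¹ := by
  classical
  have hfin : Finite G := inferInstance
  -- all stabilizers have the same order
  have hcard : ∀ p ∉ F, ∀ q ∉ F, Nat.card (ptStab G p) = Nat.card (ptStab G q) := by
    intro p hp q hq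
    obtain ⟨g, hg, hgp⟩ := h2 p hp q hq
    apply Nat.card_congr
    refine (Equiv.subtypeEquiv (MulAut.conj (⟨g, hg⟩ : G)).toEquiv ?_)
    intro a
    show a.1 p = p ↔ (g * a.1 * g⁻¹) q = q
    have h5 : g⁻¹ q = p := Equiv.Perm.inv_eq_iff_eq.2 hgp.symm
    show a.1 p = p ↔ g (a.1 (g⁻¹ q)) = q
    rw [h5, ← hgp]
    exact (g.injective.eq_iff).symm
  have key : ∀ p ∉ F, ∃ q ∉ F, ∀ g : G, (α g).1 q = q ↔ g.1 p = p := by
    intro p hp
    obtain ⟨q, hq, hK⟩ := h4 ((ptStab G p).map α.toMonoidHom) (by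
      intro p' hp'
      rw [Nat.card_congr ((ptStab G p).equivMapOfInjective α.toMonoidHom α.injective).toEquiv.symm]
      exact hcard p hp p' hp')
    refine ⟨q, hq, ?_⟩
    have heq : (ptStab G p).map α.toMonoidHom = ptStab G q := by
      apply Subgroup.eq_of_le_of_card_ge hK
      rw [Nat.card_congr ((ptStab G p).equivMapOfInjective α.toMonoidHom α.injective).toEquiv.symm]
      exact (hcard q hq p hp).le
    intro g
    rw [← mem_ptStab, ← heq]
    constructor
    · rintro ⟨a, ha, hag⟩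
      have : a = g := α.injective hag
      rw [← this]; exact ha
    · intro h; exact ⟨g, h, rfl⟩
  choose! π0 hπ0F hπ0 using key
  let π1 : Ω → Ω := fun p => if p ∈ F then p else π0 p
  have e1 : ∀ p ∈ F, π1 p = p := fun p hp => if_pos hp
  have e2 : ∀ p ∉ F, π1 p = π0 p := fun p hp => if_neg hp
  have hF : ∀ g ∈ G, ∀ p, g p ∈ F ↔ p ∈ F := by
    intro g hg p
    constructor
    · intro h
      have h5 := h1 g hg (g p) h
      have h6 := g.injective h5
      rw [← h6]; exact h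
    · intro h; rw [h1 g hg p h]; exact h
  have sep : ∀ p ∉ F, ∀ q ∉ F, (∀ g : G, g.1 p = p ↔ g.1 q = q) → p = q := by
    intro p hp q hq h
    by_contra hne
    obtain ⟨g, hg, h5, h6⟩ := h3 p hp q hq (Ne.symm hne)
    exact h6 ((h ⟨g, hg⟩).1 h5)
  have hinj : Function.Injective π1 := by
    intro p q hpq
    by_cases hp : p ∈ F
    · by_cases hq : q ∈ F
      · rw [e1 p hp, e1 q hq] at hpq; exact hpq
      · rw [e1 p hp, e2 q hq] at hpq
        exact absurd (hpq ▸ hp) (hπ0F q hq)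
    · by_cases hq : q ∈ F
      · rw [e2 p hp, e1 q hq] at hpq
        exact absurd (hpq ▸ hq) (hπ0F p hp)
      · rw [e2 p hp, e2 q hq] at hpq
        apply sep p hp q hq
        intro g
        rw [← hπ0 p hp g, ← hπ0 q hq g, hpq]
  let π : Equiv.Perm Ω := Equiv.ofBijective π1 (Finite.injective_iff_bijective.1 hinj)
  have hπ : ∀ p, π p = π1 p := fun p => rfl
  have equi : ∀ (g : G) p, π (g.1 p) = (α g).1 (π p) := by
    intro g p
    rw [hπ, hπ]
    by_cases hp : p ∈ F
    · rw [h1 g.1 g.2 p hp, e1 p hp, h1 _ (α g).2 p hp]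
    · have hgp : g.1 p ∉ F := fun h => hp ((hF g.1 g.2 p).1 h)
      rw [e2 p hp, e2 _ hgp]
      apply sep _ (hπ0F _ hgp) _ (fun h => hπ0F p hp ((hF _ (α g).2 _).1 h))
      intro h
      obtain ⟨k, rfl⟩ := α.surjective h
      rw [hπ0 _ hgp k]
      have h7 := hπ0 p hp (g⁻¹ * k * g)
      rw [map_mul, map_mul, map_inv] at h7
      have h8 : ((g⁻¹ * k * g : G) : Equiv.Perm Ω) p = p ↔ (k.1 (g.1 p)) = g.1 p := by
        show g.1⁻¹ (k.1 (g.1 p)) = p ↔ _
        exact Equiv.Perm.inv_eq_iff_eq.trans eq_comm |>.trans eq_comm |>.trans (by constructor <;> exact fun h => h)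
      have h9 : (((α g)⁻¹ * α k * α g : G) : Equiv.Perm Ω) (π0 p) = π0 p ↔
          (α k).1 ((α g).1 (π0 p)) = (α g).1 (π0 p) := by
        show (α g).1⁻¹ ((α k).1 ((α g).1 (π0 p))) = π0 p ↔ _
        exact Equiv.Perm.inv_eq_iff_eq.trans eq_comm |>.trans eq_comm |>.trans (by constructor <;> exact fun h => h)
      rw [← h8, ← h7, h9]
  refine ⟨π, fun p hp => e1 p hp, fun g => ?_⟩
  ext1 x
  show (α g).1 x = π (g.1 (π⁻¹ x))
  rw [equi g]
  exact congrArg _ (π.apply_symm_apply x).symm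

end Cfsg.Agent.H90
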