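import Cfsg.Agent.H90.AutPerm

/-!
# Automorphisms of permutation groups induced by permutations, intransitive case (owner: helper90)
-/

set_option autoImplicit false

namespace Cfsg.Agent.H90

/-- If an automorphism maps point stabilizers to point stabilizers, it is induced by a permutation. -/
theorem perm_of_key {Ω : Type*} [Finite Ω] (G : Subgroup (Equiv.Perm Ω)) (F : Set Ω)
    (h1 : ∀ g ∈ G, ∀ p ∈ F, g p = p) (α : MulAut G) (R : Ω → Ω → Prop)
    (key : ∀ p ∉ F, ∃ q ∉ F, R p q ∧ ∀ g : G, (α g).1 q = q ↔ g.1 p = p)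
    (sep' : ∀ p ∉ F, ∀ q ∉ F, (∀ g : G, g.1 p = p ↔ g.1 q = q) → p = q) :
    ∃ π : Equiv.Perm Ω, (∀ p ∈ F, π p = p) ∧ (∀ p ∉ F, R p (π p)) ∧
      ∀ g : G, ((α g : G) : Equiv.Perm Ω) = π * g * π⁻¹ := by
  classical
  choose! π0 hπ0F hπ0R hπ0 using key
  let π1 : Ω → Ω := fun p => if p ∈ F then p else π0 p
  have e1 : ∀ p ∈ F, π1 p = p := fun p hp => if_pos hp
  have e2 : ∀ p ∉ F, π1 p = π0 p := fun p hp => if_neg hp
  have hF : ∀ g ∈ G, ∀ p, g p ∈ F ↔ p ∈ F := by
    intro g hg p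
    constructor
    · intro h
      have h5 := h1 g hg (g p) h
      have h6 := g.injective h5
      rw [← h6]; exact h
    · intro h; rw [h1 g hg p h]; exact h
  have hinj : Function.Injective π1 := by
    intro p q hpq
    by_cases hp : p ∈ F
    · by_cases hq : q ∈ F
      · rw [e1 p hp, e1 q hq] at hpq; exact hpq
      · rw [e1 p hp, e2 q hq] at hpq
        exact absurd (hpq ▸ hp) (hπ0F q hq)
    · by_cases hq : q ∈ F
      · rw [e2 p hp, e1 q hq] at hpq
        exact absurd (hpq ▸ hq) (hπ0F p hp)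
      · rw [e2 p hp, e2 q hq] at hpq
        apply sep' p hp q hq
        intro g
        rw [← hπ0 p hp g, ← hπ0 q hq g, hpq]
  let π : Equiv.Perm Ω := Equiv.ofBijective π1 (Finite.injective_iff_bijective.1 hinj)
  have hπ : ∀ p, π p = π1 p := fun p => rfl
  have equi : ∀ (g : G) p, π (g.1 p) = (α g).1 (π p) := by
    intro g p
    rw [hπ, hπ]
    by_cases hp : p ∈ F
    · rw [h1 g.1 g.2 p hp, e1 p hp, h1 _ (α g).2 p hp]
    · have hgp : g.1 p ∉ F := fun h => hp ((hF g.1 g.2 p).1 h)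
      rw [e2 p hp, e2 _ hgp]
      apply sep' _ (hπ0F _ hgp) _ (fun h => hπ0F p hp ((hF _ (α g).2 _).1 h))
      intro h
      obtain ⟨k, rfl⟩ := α.surjective h
      rw [hπ0 _ hgp k]
      have h7 := hπ0 p hp (g⁻¹ * k * g)
      rw [map_mul, map_mul, map_inv] at h7
      have h8 : ((g⁻¹ * k * g : G) : Equiv.Perm Ω) p = p ↔ (k.1 (g.1 p)) = g.1 p := by
        show g.1⁻¹ (k.1 (g.1 p)) = p ↔ _
        exact Equiv.Perm.inv_eq_iff_eq.trans eq_comm |>.trans eq_comm |>.trans (by constructor <;> exact fun h => h)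
      have h9 : (((α g)⁻¹ * α k * α g : G) : Equiv.Perm Ω) (π0 p) = π0 p ↔
          (α k).1 ((α g).1 (π0 p)) = (α g).1 (π0 p) := by
        show (α g).1⁻¹ ((α k).1 ((α g).1 (π0 p))) = π0 p ↔ _
        exact Equiv.Perm.inv_eq_iff_eq.trans eq_comm |>.trans eq_comm |>.trans (by constructor <;> exact fun h => h)
      rw [← h8, ← h7, h9]
  refine ⟨π, fun p hp => e1 p hp, fun p hp => ?_, fun g => ?_⟩
  · rw [hπ, e2 p hp]; exact hπ0R p hp
  · ext1 x
    show (α g).1 x = π (g.1 (π⁻¹ x))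
    rw [equi g]
    exact congrArg _ (π.apply_symm_apply x).symm

end Cfsg.Agent.H90
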