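import Cfsg.Agent.Golay.OrbInv
import Cfsg.Agent.Golay.Octad
import Cfsg.Agent.Golay.Simple

/-!
# Fixed points of elements of `M24` (owner: helper90)
-/

set_option autoImplicit false

namespace Cfsg.Agent.H90

open Cfsg Cfsg.Agent.Golay Cfsg.Agent.Golay.Orb
open scoped Pointwise

/-- the fixed points of a permutation -/
def fixS (x : Equiv.Perm GolayPt) : Finset GolayPt := Finset.univ.filter (fun p => x p = p)

theorem mem_fixS {x : Equiv.Perm GolayPt} {p : GolayPt} : p ∈ fixS x ↔ x p = p := by simp [fixS]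

theorem fixS_conj (g s : Equiv.Perm GolayPt) : fixS (g * s * g⁻¹) = g • fixS s := by
  ext p
  rw [mem_fixS, Finset.mem_smul_finset]
  constructor
  · intro h
    refine ⟨g⁻¹ p, ?_, g.apply_symm_apply p⟩
    rw [mem_fixS]
    apply g.injective
    exact h.trans (g.apply_symm_apply p).symm
  · rintro ⟨q, hq, rfl⟩
    rw [mem_fixS] at hq
    show g (s (g⁻¹ (g q))) = g q
    rw [show g⁻¹ (g q) = q from g.symm_apply_apply q, hq]

theorem fixS_tab8 {σ : Equiv.Perm GolayPt} (h : IsTable tab8 σ) : fixS σ = ofMask 416040 := by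
  ext p
  rw [mem_fixS, mem_ofMask, ← idx_injective.eq_iff, h]
  revert p; decide +kernel

theorem octad_tab8 : ofMask 416040 ∈ octads := by
  rw [ofMask_mem_octads_iff (by norm_num)]; decide +kernel

/-- An involution of `M24` with a fixed point fixes exactly the points of an octad. -/
theorem inv_fix_octad {s : Equiv.Perm GolayPt} (hs : s ∈ M24) (h2 : s * s = 1) (hne : s ≠ 1)
    {p : GolayPt} (hp : s p = p) : fixS s ∈ octads := by
  have ho : orderOf s = 2 := orderOf_eq_prime (by rw [pow_two, h2]) hne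
  obtain ⟨g, hg, h⟩ := inv_fix8 hs ho (by
    intro h
    have : p ∈ Finset.univ.filter fun p => s p = p := by simp [hp]
    rw [Finset.card_eq_zero] at h
    rw [h] at this
    exact absurd this (Finset.notMem_empty _))
  have h1 := fixS_tab8 h
  rw [fixS_conj] at h1
  rw [← smul_mem_octads hg, h1]
  exact octad_tab8

theorem inv_fix_card {s : Equiv.Perm GolayPt} (hs : s ∈ M24) (h2 : s * s = 1) (hne : s ≠ 1) :
    (fixS s).card = 8 ∨ (fixS s).card = 0 := by
  by_cases h : ∃ p, s p = p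
  · obtain ⟨p, hp⟩ := h
    exact Or.inl (card_octad (inv_fix_octad hs h2 hne hp))
  · right
    rw [Finset.card_eq_zero, Finset.eq_empty_iff_forall_notMem]
    intro p hp
    exact h ⟨p, mem_fixS.1 hp⟩

/-- counting fixed points in an invariant set modulo a prime -/
theorem fix_in_mod {x : Equiv.Perm GolayPt} {p : ℕ} (hp : p.Prime) (hx : x ^ p = 1) (O : Finset GolayPt)
    (hO : ∀ a ∈ O, x a ∈ O) : O.card ≡ (O ∩ fixS x).card [MOD p] := by
  have : Fact p.Prime := ⟨hp⟩
  let f : Function.End O := fun a => ⟨x a, hO a a.2⟩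
  have hf : ∀ n : ℕ, ∀ a : O, (((f ^ n) a : O) : GolayPt) = (x ^ n) a := by
    intro n
    induction n with
    | zero => intro a; rfl
    | succ n ih =>
      intro a
      rw [pow_succ, pow_succ]
      show (((f ^ n) (f a) : O) : GolayPt) = (x ^ n) (x a)
      rw [ih]
  have hfp : f ^ p ^ 1 = 1 := by
    funext a
    apply Subtype.ext
    rw [hf, pow_one, hx]; rfl
  have h := Equiv.Perm.card_fixedPoints_modEq hfp
  rw [Fintype.card_coe] at h
  convert h using 1
  rw [← Fintype.card_coe]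
  apply Fintype.card_congr
  refine ⟨fun a => ⟨⟨a.1, (Finset.mem_inter.1 a.2).1⟩, ?_⟩, fun a => ⟨a.1.1, Finset.mem_inter.2 ⟨a.1.2, ?_⟩⟩, fun a => rfl,
    fun a => rfl⟩
  · apply Subtype.ext
    exact mem_fixS.1 (Finset.mem_inter.1 a.2).2
  · exact mem_fixS.2 (congrArg Subtype.val a.2)

theorem fixS_mod {x : Equiv.Perm GolayPt} {p : ℕ} (hp : p.Prime) (hx : x ^ p = 1) :
    24 ≡ (fixS x).card [MOD p] := by
  have h := fix_in_mod hp hx Finset.univ (fun _ _ => Finset.mem_univ _)
  rwa [Finset.card_univ, card_golayPt, Finset.univ_inter] at h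

/-- Subgroups of `M24` fixing five points have order dividing 48. -/
theorem card_dvd_of_fix_five (N : Subgroup (Equiv.Perm GolayPt)) (hN : N ≤ M24) (s : Finset GolayPt)
    (hs : 5 ≤ s.card) (hfix : ∀ n ∈ N, ∀ p ∈ s, n p = p) : Nat.card N ∣ 48 := by
  obtain ⟨t, hts, ht⟩ := Finset.exists_subset_card_eq hs
  let x : Fin 5 → GolayPt := fun i => (t.equivFin.symm (Fin.cast ht.symm i)).1
  have hx : Function.Injective x := by
    intro i j h
    have h1 := t.equivFin.symm.injective (Subtype.ext h)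
    exact Fin.cast_injective _ h1
  have hb : Function.Injective (fun i : Fin 5 => basePt i) := by decide
  obtain ⟨σ, hσ, hσx⟩ := M24_exists_map (fun i : Fin 5 => basePt i) x hb hx
  have hle : N.map (MulAut.conj σ⁻¹).toMonoidHom ≤ stabChain 5 := by
    rintro _ ⟨n, hn, rfl⟩
    rw [mem_stabChain]
    refine ⟨M24.mul_mem (M24.mul_mem (M24.inv_mem hσ) (hN hn)) (M24.inv_mem (M24.inv_mem hσ)), ?_⟩
    intro j hj
    show (σ⁻¹ * n * σ⁻¹⁻¹) (basePt j) = basePt j
    rw [inv_inv]
    show σ⁻¹ (n (σ (basePt j))) = basePt j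
    have h1 := hσx ⟨j, hj⟩
    have h2 : σ (basePt j) = x ⟨j, hj⟩ := h1
    rw [h2, hfix n hn (x ⟨j, hj⟩) (hts (t.equivFin.symm _).2), ← h2]
    exact σ.symm_apply_apply _
  have h1 := Subgroup.card_dvd_of_le hle
  rw [stabChain_five] at h1
  rwa [Nat.card_congr (N.equivMapOfInjective _ (MulAut.conj σ⁻¹).injective).toEquiv.symm] at h1

theorem order_dvd_of_fix_five {x : Equiv.Perm GolayPt} (hx : x ∈ M24) (h : 5 ≤ (fixS x).card) :
    orderOf x ∣ 48 := by
  rw [← Nat.card_zpowers]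
  apply card_dvd_of_fix_five _ (by rwa [Subgroup.zpowers_le]) (fixS x) h
  rintro n ⟨k, rfl⟩ p hp
  exact Equiv.Perm.zpow_apply_eq_self_of_apply_eq_self (mem_fixS.1 hp) k

theorem fix_le_four {x : Equiv.Perm GolayPt} (hx : x ∈ M24) {p : ℕ} (h : orderOf x = p) (hp : ¬ p ∣ 48) :
    (fixS x).card ≤ 4 := by
  by_contra hlt
  apply hp
  rw [← h]
  exact order_dvd_of_fix_five hx (by omega)

theorem fix_order5 {x : Equiv.Perm GolayPt} (hx : x ∈ M24) (h : orderOf x = 5) : (fixS x).card = 4 := by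
  have h1 := fix_le_four hx h (by norm_num)
  have h2 := fixS_mod (p := 5) (by norm_num) (by rw [← h]; exact pow_orderOf_eq_one x)
  unfold Nat.ModEq at h2; omega

theorem fix_order7 {x : Equiv.Perm GolayPt} (hx : x ∈ M24) (h : orderOf x = 7) : (fixS x).card = 3 := by
  have h1 := fix_le_four hx h (by norm_num)
  have h2 := fixS_mod (p := 7) (by norm_num) (by rw [← h]; exact pow_orderOf_eq_one x)
  unfold Nat.ModEq at h2; omega

theorem fix_order11 {x : Equiv.Perm GolayPt} (hx : x ∈ M24) (h : orderOf x = 11) : (fixS x).card = 2 := by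
  have h1 := fix_le_four hx h (by norm_num)
  have h2 := fixS_mod (p := 11) (by norm_num) (by rw [← h]; exact pow_orderOf_eq_one x)
  unfold Nat.ModEq at h2; omega

theorem fix_order23 {x : Equiv.Perm GolayPt} (hx : x ∈ M24) (h : orderOf x = 23) : (fixS x).card = 1 := by
  have h1 := fix_le_four hx h (by norm_num)
  have h2 := fixS_mod (p := 23) (by norm_num) (by rw [← h]; exact pow_orderOf_eq_one x)
  unfold Nat.ModEq at h2; omega

theorem fix_order3_mod {x : Equiv.Perm GolayPt} (h : orderOf x = 3) : 3 ∣ (fixS x).card := by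
  have h2 := fixS_mod (p := 3) (by norm_num) (by rw [← h]; exact pow_orderOf_eq_one x)
  unfold Nat.ModEq at h2; omega

/-! ### orbits of subgroups -/

/-- the orbit of a point as a finset -/
noncomputable def orbF (K : Subgroup (Equiv.Perm GolayPt)) (q : GolayPt) : Finset GolayPt :=
  (Set.toFinite (MulAction.orbit K q)).toFinset

theorem mem_orbF {K : Subgroup (Equiv.Perm GolayPt)} {q a : GolayPt} : a ∈ orbF K q ↔ ∃ g ∈ K, g q = a := by
  unfold orbF
  rw [Set.Finite.mem_toFinset]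
  constructor
  · rintro ⟨g, rfl⟩; exact ⟨g.1, g.2, rfl⟩
  · rintro ⟨g, hg, rfl⟩; exact ⟨⟨g, hg⟩, rfl⟩

theorem self_mem_orbF (K : Subgroup (Equiv.Perm GolayPt)) (q : GolayPt) : q ∈ orbF K q :=
  mem_orbF.2 ⟨1, K.one_mem, rfl⟩

theorem orbF_inv {K : Subgroup (Equiv.Perm GolayPt)} {q : GolayPt} {g : Equiv.Perm GolayPt} (hg : g ∈ K) :
    ∀ a ∈ orbF K q, g a ∈ orbF K q := by
  intro a ha
  obtain ⟨h, hh, rfl⟩ := mem_orbF.1 ha
  exact mem_orbF.2 ⟨g * h, K.mul_mem hg hh, rfl⟩

theorem card_orbF_mul (K : Subgroup (Equiv.Perm GolayPt)) (q : GolayPt) :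
    (orbF K q).card * Nat.card (K ⊓ MulAction.stabilizer (Equiv.Perm GolayPt) q : Subgroup _) = Nat.card K := by
  have h1 : Nat.card (MulAction.stabilizer K q) =
      Nat.card (K ⊓ MulAction.stabilizer (Equiv.Perm GolayPt) q : Subgroup _) := by
    apply Nat.card_congr
    exact ⟨fun g => ⟨g.1.1, g.1.2, g.2⟩, fun g => ⟨⟨g.1, g.2.1⟩, g.2.2⟩, fun _ => rfl, fun _ => rfl⟩
  rw [← h1, ← (MulAction.stabilizer K q).card_mul_index, MulAction.index_stabilizer, mul_comm]
  congr 1
  rw [Set.ncard_eq_toFinset_card _ (Set.toFinite _)]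
  rfl

theorem card_orbF_dvd (K : Subgroup (Equiv.Perm GolayPt)) (q : GolayPt) : (orbF K q).card ∣ Nat.card K :=
  ⟨_, (card_orbF_mul K q).symm⟩

theorem exists_order {K : Subgroup (Equiv.Perm GolayPt)} {p : ℕ} (hp : p.Prime) (h : p ∣ Nat.card K) :
    ∃ x ∈ K, orderOf x = p := by
  have : Fact p.Prime := ⟨hp⟩
  obtain ⟨x, hx⟩ := exists_prime_orderOf_dvd_card' p h
  exact ⟨x.1, x.2, by rw [← hx]; exact (Subgroup.orderOf_coe x)⟩

theorem card_le24 (s : Finset GolayPt) : s.card ≤ 24 := by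
  have h := Finset.card_le_univ s
  rwa [card_golayPt] at h

end Cfsg.Agent.H90
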