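import Cfsg.Agent.H90.CoM23
import Cfsg.Agent.H90.M24Fix
import Cfsg.Agent.Golay.Octad

/-!
# The centraliser of an element of order 5 in `M22` (owner: helper90)
-/

set_option autoImplicit false

namespace Cfsg.Agent.H90.Co

open Cfsg Cfsg.Agent.Golay Cfsg.Agent.H90
open scoped Pointwise

theorem fixS_u : fixS uPerm = ofMask 12583425 := by
  ext p
  rw [mem_fixS, mem_ofMask, ← idx_injective.eq_iff, u_table]
  revert p; decide +kernel

theorem mask_u : ofMask 12583425 = ({none, some 0, some 9, some 22} : Finset GolayPt) := by decide +kernel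

/-- the octads containing the 5-cycles of `u` -/
def octU (i : ℕ) : ℕ := octadList.find? (fun m => m.testBit i && (Nat.beq (pop (Nat.land m 12583425)) 3) &&
  (m.testBit (papp uTab i) && (m.testBit (papp uTab (papp uTab i)) && m.testBit (papp uTab (papp uTab (papp uTab i)))))) |>.getD 0

def octChk (i j : ℕ) : Bool := !(Nat.testBit (octU i) j) || (Nat.testBit 12583425 j || (Nat.beq j i || (Nat.beq j (papp uTab i) ||
  (Nat.beq j (papp uTab (papp uTab i)) || (Nat.beq j (papp uTab (papp uTab (papp uTab i))) ||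
    Nat.beq j (papp uTab (papp uTab (papp uTab (papp uTab i)))))))))

theorem octU_chk : ((List.range 24).all fun i => Nat.testBit 12583425 i || (octadList.any (fun m => Nat.beq m (octU i)) &&
    (List.range 24).all (octChk i))) = true := by decide +kernel

theorem octU_spec : ∀ i < 24, Nat.testBit 12583425 i = false → octU i ∈ octadList ∧
    ∀ j < 24, (octU i).testBit j = true → Nat.testBit 12583425 j = true ∨ j = i ∨ j = papp uTab i ∨
      j = papp uTab (papp uTab i) ∨ j = papp uTab (papp uTab (papp uTab i)) ∨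
      j = papp uTab (papp uTab (papp uTab (papp uTab i))) := by
  intro i hi h0
  have h1 := List.all_eq_true.1 octU_chk i (List.mem_range.2 hi)
  rw [h0, Bool.false_or, Bool.and_eq_true] at h1
  obtain ⟨h2, h3⟩ := h1
  constructor
  · obtain ⟨m, hm, hm2⟩ := List.any_eq_true.1 h2
    rw [← Nat.eq_of_beq_eq_true hm2]; exact hm
  · intro j hj hj2
    have h4 := List.all_eq_true.1 h3 j (List.mem_range.2 hj)
    unfold octChk at h4
    rw [hj2, Bool.not_true, Bool.false_or] at h4
    simp only [Bool.or_eq_true, Nat.beq_eq] at h4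
    exact h4

/-- the centraliser of `u` in `M22` -/
def CU : Subgroup (Equiv.Perm GolayPt) where
  carrier := {σ | σ ∈ M24 ∧ σ none = none ∧ σ (some 0) = some 0 ∧ σ * uPerm = uPerm * σ}
  one_mem' := ⟨M24.one_mem, rfl, rfl, by rw [one_mul, mul_one]⟩
  mul_mem' := by
    rintro a b ⟨a1, a2, a3, a4⟩ ⟨b1, b2, b3, b4⟩
    refine ⟨M24.mul_mem a1 b1, ?_, ?_, ?_⟩
    · show a (b none) = none; rw [b2, a2]
    · show a (b (some 0)) = some 0; rw [b3, a3]
    · rw [mul_assoc, b4, ← mul_assoc, a4, mul_assoc]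
  inv_mem' := by
    rintro a ⟨a1, a2, a3, a4⟩
    refine ⟨M24.inv_mem a1, ?_, ?_, ?_⟩
    · rw [Equiv.Perm.inv_eq_iff_eq, a2]
    · rw [Equiv.Perm.inv_eq_iff_eq, a3]
    · rw [inv_mul_eq_iff_eq_mul, ← mul_assoc, a4, mul_inv_cancel_right]

theorem u_mem_CU : uPerm ∈ CU := ⟨u_mem, u_none, u_zero, rfl⟩

theorem CU_fix_inv {σ : Equiv.Perm GolayPt} (hσ : σ ∈ CU) {p : GolayPt} (hp : p ∈ fixS σ) : uPerm p ∈ fixS σ := by
  rw [mem_fixS] at hp ⊢
  have h := Equiv.Perm.congr_fun hσ.2.2.2 p
  change σ (uPerm p) = uPerm (σ p) at h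
  rw [h, hp]

theorem CU_map {σ : Equiv.Perm GolayPt} (hσ : σ ∈ CU) {p : GolayPt} (hp : p ∈ fixS uPerm) : σ p ∈ fixS uPerm := by
  rw [mem_fixS] at hp ⊢
  have h := Equiv.Perm.congr_fun hσ.2.2.2 p
  change σ (uPerm p) = uPerm (σ p) at h
  rw [← h, hp]

theorem CU_nine {σ : Equiv.Perm GolayPt} (hσ : σ ∈ CU) : (σ (some 9) = some 9 ∧ σ (some 22) = some 22) ∨
    (σ (some 9) = some 22 ∧ σ (some 22) = some 9) := by
  have h9 : σ (some 9) ∈ ({none, some 0, some 9, some 22} : Finset GolayPt) := by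
    rw [← mask_u, ← fixS_u]; apply CU_map hσ; rw [fixS_u, mask_u]; decide
  have h22 : σ (some 22) ∈ ({none, some 0, some 9, some 22} : Finset GolayPt) := by
    rw [← mask_u, ← fixS_u]; apply CU_map hσ; rw [fixS_u, mask_u]; decide
  obtain ⟨-, h1, h2, -⟩ := hσ
  have hne : ∀ {p q : GolayPt}, p ≠ q → σ p ≠ σ q := fun h h' => h (σ.injective h')
  have n1 := hne (show (some 9 : GolayPt) ≠ none by decide)
  have n2 := hne (show (some 9 : GolayPt) ≠ some 0 by decide)
  have n3 := hne (show (some 22 : GolayPt) ≠ none by decide)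
  have n4 := hne (show (some 22 : GolayPt) ≠ some 0 by decide)
  have n5 := hne (show (some 9 : GolayPt) ≠ some 22 by decide)
  rw [h1] at n1 n3
  rw [h2] at n2 n4
  simp only [Finset.mem_insert, Finset.mem_singleton] at h9 h22
  rcases h9 with h | h | h | h
  · exact absurd h n1
  · exact absurd h n2
  · left
    refine ⟨h, ?_⟩
    rcases h22 with h' | h' | h' | h'
    · exact absurd h' n3
    · exact absurd h' n4
    · exact absurd (h.trans h'.symm) n5
    · exact h'
  · right
    refine ⟨h, ?_⟩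
    rcases h22 with h' | h' | h' | h'
    · exact absurd h' n3
    · exact absurd h' n4
    · exact h'
    · exact absurd (h.trans h'.symm) n5

theorem CU_mod {σ : Equiv.Perm GolayPt} (hσ : σ ∈ CU) :
    (fixS σ).card % 5 = (fixS σ ∩ fixS uPerm).card % 5 :=
  fix_in_mod (by norm_num) u_pow_five (fixS σ) (fun _ ha => CU_fix_inv hσ ha)

theorem CU_inter {σ : Equiv.Perm GolayPt} (hσ : σ ∈ CU) :
    (fixS σ ∩ fixS uPerm).card = if σ (some 9) = some 9 then 4 else 2 := by
  have h1 : fixS σ ∩ fixS uPerm = ({none, some 0, some 9, some 22} : Finset GolayPt).filter (fun p => σ p = p) := by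
    rw [fixS_u, mask_u]
    ext p
    rw [Finset.mem_inter, Finset.mem_filter, mem_fixS, and_comm]
  rw [h1]
  obtain ⟨-, e1, e2, -⟩ := id hσ
  rcases CU_nine hσ with ⟨e3, e4⟩ | ⟨e3, e4⟩
  · rw [if_pos e3, Finset.filter_true_of_mem]
    · decide
    · intro p hp
      simp only [Finset.mem_insert, Finset.mem_singleton] at hp
      rcases hp with rfl | rfl | rfl | rfl <;> assumption
  · rw [if_neg (by rw [e3]; decide)]
    have : ({none, some 0, some 9, some 22} : Finset GolayPt).filter (fun p => σ p = p) = {none, some 0} := by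
      ext p
      simp only [Finset.mem_filter, Finset.mem_insert, Finset.mem_singleton]
      constructor
      · rintro ⟨rfl | rfl | rfl | rfl, h⟩
        · left; rfl
        · right; rfl
        · rw [e3] at h; exact absurd h (by decide)
        · rw [e4] at h; exact absurd h (by decide)
      · rintro (rfl | rfl)
        · exact ⟨Or.inl rfl, e1⟩
        · exact ⟨Or.inr (Or.inl rfl), e2⟩
    rw [this]; decide

/-- no involutions -/
theorem CU_inv {σ : Equiv.Perm GolayPt} (hσ : σ ∈ CU) (h2 : σ * σ = 1) : σ = 1 := by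
  by_contra hne
  have h1 := CU_mod hσ
  rw [CU_inter hσ] at h1
  have h3 : none ∈ fixS σ := mem_fixS.2 hσ.2.1
  rcases inv_fix_card hσ.1 h2 hne with h4 | h4
  · rw [h4] at h1
    split_ifs at h1 <;> omega
  · rw [Finset.card_eq_zero] at h4
    rw [h4] at h3
    exact absurd h3 (Finset.notMem_empty _)

/-- fixed points of an element -/
theorem CU_fix {σ : Equiv.Perm GolayPt} (hσ : σ ∈ CU) (h9 : σ (some 9) = some 9) {p : GolayPt} (hp : p ∈ fixS σ)
    (hpu : p ∉ fixS uPerm) : σ = 1 := by
  apply CU_inv hσ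
  rw [fixS_u, mem_ofMask, Bool.not_eq_true] at hpu
  obtain ⟨h1, h2⟩ := octU_spec (idx p) (idx_lt p) hpu
  have ho : ofMask (octU (idx p)) ∈ octads := (ofMask_mem_octads_iff (lt_of_mem_octadList h1)).2 h1
  apply fixM24_octad_square ho
  rw [mem_fixM24]
  refine ⟨hσ.1, fun q hq => ?_⟩
  rw [mem_ofMask] at hq
  have hu := u_table
  have k1 := CU_fix_inv hσ hp
  have k2 := CU_fix_inv hσ k1
  have k3 := CU_fix_inv hσ k2
  have k4 := CU_fix_inv hσ k3
  have key : ∀ r : GolayPt, r ∈ fixS σ → idx q = idx r → σ q = q := by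
    intro r hr h
    rw [idx_injective h]
    exact mem_fixS.1 hr
  rcases h2 (idx q) (idx_lt q) hq with h | h | h | h | h | h
  · have h3 : q ∈ fixS uPerm := by rw [fixS_u, mem_ofMask]; exact h
    rw [fixS_u, mask_u] at h3
    simp only [Finset.mem_insert, Finset.mem_singleton] at h3
    rcases CU_nine hσ with ⟨e3, e4⟩ | ⟨e3, e4⟩
    · rcases h3 with rfl | rfl | rfl | rfl
      · exact hσ.2.1
      · exact hσ.2.2.1
      · exact e3
      · exact e4
    · rw [e3] at h9; exact absurd h9 (by decide)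
  · exact key p hp h
  · exact key _ k1 (by rw [h, hu])
  · exact key _ k2 (by rw [h, hu, hu])
  · exact key _ k3 (by rw [h, hu, hu, hu])
  · exact key _ k4 (by rw [h, hu, hu, hu, hu])

theorem CU_nine_odd {σ : Equiv.Perm GolayPt} (hσ : σ ∈ CU) {n : ℕ} (hn : n % 2 = 1) (h : σ ^ n = 1) :
    σ (some 9) = some 9 := by
  rcases CU_nine hσ with ⟨e3, -⟩ | ⟨e3, e4⟩
  · exact e3
  · exfalso
    have h1 : (σ * σ) (some 9) = some 9 := by show σ (σ (some 9)) = _; rw [e3, e4]
    have h2 : ∀ k : ℕ, ((σ * σ) ^ k) (some 9) = some 9 := by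
      intro k
      induction k with
      | zero => rfl
      | succ k ih => rw [pow_succ]; show ((σ * σ) ^ k) ((σ * σ) (some 9)) = _; rw [h1, ih]
    have h3 : σ ^ n = σ * (σ * σ) ^ (n / 2) := by
      rw [← pow_two, ← pow_mul, ← pow_succ']
      congr 1; omega
    rw [h3] at h
    have h4 : (σ * (σ * σ) ^ (n / 2)) (some 9) = some 22 := by
      show σ (((σ * σ) ^ (n / 2)) (some 9)) = _
      rw [h2, e3]
    rw [h] at h4
    exact absurd h4 (by decide)

theorem CU_four {σ : Equiv.Perm GolayPt} (hσ : σ ∈ CU) (h9 : σ (some 9) = some 9) : 4 ≤ (fixS σ).card := by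
  have h := CU_inter hσ
  rw [if_pos h9] at h
  rw [← h]
  exact Finset.card_le_card Finset.inter_subset_left

/-- the only prime dividing the order of the centraliser is 5 -/
theorem CU_prime {p : ℕ} (hp : p.Prime) (h : p ∣ Nat.card CU) : p = 5 := by
  obtain ⟨x, hx, ho⟩ := exists_order hp h
  have hpow : x ^ p = 1 := by rw [← ho]; exact pow_orderOf_eq_one x
  have hd : p ∣ 244823040 := by
    rw [← card_M24]
    have : CU ≤ M24 := fun _ h => h.1
    exact h.trans (Subgroup.card_dvd_of_le this)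
  have h0 : (244823040 : ℕ) = 2 ^ 10 * (3 ^ 3 * (5 * (7 * (11 * 23)))) := by norm_num
  rw [h0] at hd
  have hne : x ≠ 1 := by
    intro h1
    rw [h1, orderOf_one] at ho
    exact hp.one_lt.ne ho
  rcases (Nat.Prime.dvd_mul hp).1 hd with h | hd
  · have h2 : p = 2 := (Nat.prime_dvd_prime_iff_eq hp Nat.prime_two).1 (hp.dvd_of_dvd_pow h)
    exfalso
    rw [h2, pow_two] at hpow
    exact hne (CU_inv hx hpow)
  rcases (Nat.Prime.dvd_mul hp).1 hd with h | hd
  · have h2 : p = 3 := (Nat.prime_dvd_prime_iff_eq hp Nat.prime_three).1 (hp.dvd_of_dvd_pow h)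
    exfalso
    subst h2
    have h9 := CU_nine_odd hx (n := 3) (by norm_num) hpow
    have h3 := fix_order3_mod ho
    have h4 := CU_mod hx
    rw [CU_inter hx, if_pos h9] at h4
    have h5 := CU_four hx h9
    have h6 : fixS uPerm ⊂ fixS x := by
      have h7 : (fixS uPerm).card = 4 := by rw [fixS_u, mask_u]; decide
      have h8 := CU_inter hx
      rw [if_pos h9] at h8
      have h10 : fixS x ∩ fixS uPerm = fixS uPerm :=
        Finset.eq_of_subset_of_card_le Finset.inter_subset_right (by rw [h7, h8])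
      refine Finset.ssubset_iff_subset_ne.2 ⟨?_, ?_⟩
      · rw [← h10]; exact Finset.inter_subset_left
      · intro h11
        rw [← h11, h7] at h3
        omega
    obtain ⟨q, hq1, hq2⟩ := Finset.exists_of_ssubset h6
    exact hne (CU_fix hx h9 hq1 hq2)
  rcases (Nat.Prime.dvd_mul hp).1 hd with h | hd
  · exact (Nat.prime_dvd_prime_iff_eq hp (by norm_num)).1 h
  exfalso
  rcases (Nat.Prime.dvd_mul hp).1 hd with h | hd
  · have h2 : p = 7 := (Nat.prime_dvd_prime_iff_eq hp (by norm_num)).1 h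
    subst h2
    have h9 := CU_nine_odd hx (n := 7) (by norm_num) hpow
    have := CU_four hx h9
    rw [fix_order7 hx.1 ho] at this
    omega
  rcases (Nat.Prime.dvd_mul hp).1 hd with h | h
  · have h2 : p = 11 := (Nat.prime_dvd_prime_iff_eq hp (by norm_num)).1 h
    subst h2
    have h9 := CU_nine_odd hx (n := 11) (by norm_num) hpow
    have := CU_four hx h9
    rw [fix_order11 hx.1 ho] at this
    omega
  · have h2 : p = 23 := (Nat.prime_dvd_prime_iff_eq hp (by norm_num)).1 h
    subst h2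
    have h9 := CU_nine_odd hx (n := 23) (by norm_num) hpow
    have := CU_four hx h9
    rw [fix_order23 hx.1 ho] at this
    omega

theorem u_ne_one : uPerm ≠ 1 := by
  intro h
  have h1 := fixS_u
  rw [h] at h1
  have h2 : (some 1 : GolayPt) ∈ fixS (1 : Equiv.Perm GolayPt) := mem_fixS.2 rfl
  rw [h1, mask_u] at h2
  exact absurd h2 (by decide)

theorem u_order : orderOf uPerm = 5 := by
  have : Fact (Nat.Prime 5) := ⟨by norm_num⟩
  exact orderOf_eq_prime u_pow_five u_ne_one

/-- **The centraliser of `u` in `M22` is `⟨u⟩`.** -/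
theorem cent_u {σ : Equiv.Perm GolayPt} (h1 : σ ∈ M24) (h2 : σ none = none) (h3 : σ (some 0) = some 0)
    (h4 : σ * uPerm = uPerm * σ) : ∃ j < 5, σ = uPerm ^ j := by
  have hσ : σ ∈ CU := ⟨h1, h2, h3, h4⟩
  have hc : Nat.card CU = 5 ^ (Nat.card CU).primeFactorsList.length :=
    Nat.eq_prime_pow_of_unique_prime_dvd Nat.card_pos.ne' (fun {d} hd hdc => CU_prime hd hdc)
  have hdvd : Nat.card CU ∣ 244823040 := by
    rw [← card_M24]
    have : CU ≤ M24 := fun _ h => h.1
    exact Subgroup.card_dvd_of_le this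
  have hle : (Nat.card CU).primeFactorsList.length ≤ 1 := by
    by_contra hlt
    have : 5 ^ 2 ∣ Nat.card CU := by rw [hc]; exact pow_dvd_pow _ (by omega)
    have := this.trans hdvd
    norm_num at this
  have hz : Subgroup.zpowers uPerm = CU := by
    apply Subgroup.eq_of_le_of_card_ge ((Subgroup.zpowers_le).2 u_mem_CU)
    rw [Nat.card_zpowers, u_order, hc]
    exact (Nat.pow_le_pow_right (by norm_num) hle).trans (by norm_num)
  rw [← hz] at hσ
  obtain ⟨k, hk⟩ := hσ
  have hk' : uPerm ^ k = σ := hk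
  refine ⟨(k % 5).toNat, by omega, ?_⟩
  rw [← hk', ← zpow_natCast, Int.toNat_of_nonneg (by omega)]
  have h5 : uPerm ^ (5 : ℤ) = 1 := by
    have := u_pow_five
    exact_mod_cast this
  conv_lhs => rw [← Int.mul_ediv_add_emod k 5, zpow_add, zpow_mul, h5, one_zpow, one_mul]

end Cfsg.Agent.H90.Co
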