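import Cfsg.Agent.H90.CoLoc3
import Cfsg.Agent.H90.CoRigid
import Cfsg.Prelude.Def_KGroupFacts

/-!
# A relation in `M23`, and counting lemmas (owner: helper90)
-/

set_option autoImplicit false

namespace Cfsg.Agent.H90.Co

open Cfsg Cfsg.Agent.Golay Cfsg.Agent.LeechSimple Cfsg.Agent.Leech MulAction
open scoped Pointwise

/-- the word `u y^i` -/
def wui (i : ℕ) : List ℕ := List.replicate i 1 ++ [2]
/-- the word `x^m (u y^i)^2` -/
def wr (m i : ℕ) : List ℕ := (wui i ++ wui i) ++ List.replicate m 0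
/-- the word `(x^m (u y^i)^2)^4` -/
def wr4 (m i : ℕ) : List ℕ := (wr m i ++ wr m i) ++ (wr m i ++ wr m i)

theorem wd_wr4 (m i : ℕ) : wd gs (wr4 m i) = (x23 ^ m * (u5 * x11 ^ i) ^ 2) ^ 4 := by
  have h1 : wd gs (wui i) = u5 * x11 ^ i := by
    unfold wui
    rw [wd_append, wd_replicate]
    show (wd gs [] * gs 2) * gs 1 ^ i = _
    rw [wd_nil, one_mul]; rfl
  have h2 : wd gs (wr m i) = x23 ^ m * (u5 * x11 ^ i) ^ 2 := by
    unfold wr
    rw [wd_append, wd_append, wd_replicate, h1, pow_two]; rfl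
  unfold wr4
  rw [wd_append, wd_append, h2, ← pow_two, ← pow_two, ← pow_mul]

theorem rel_one : (x23 ^ 8 * u5 ^ 2) ^ 4 = 1 := by
  have h := eq_wd (wr4 8 0) [] (by decide) (by decide) (by decide +kernel)
  rw [wd_wr4, pow_zero, mul_one] at h
  exact h

theorem rel_ne1 {i : ℕ} (hi : i < 11) (h0 : i ≠ 0) : (x23 ^ 8 * (u5 * x11 ^ i) ^ 2) ^ 4 ≠ 1 := by
  have h : ∀ i < 11, i ≠ 0 → okW (wr4 8 i) = true ∧ neW qs (wr4 8 i) c0 = true := by decide +kernel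
  rw [← wd_wr4]
  exact ne_wd _ (h i hi h0).1 (h i hi h0).2

theorem rel_ne2 {i : ℕ} (hi : i < 11) : (x23 ^ 15 * (u5 * x11 ^ i) ^ 2) ^ 4 ≠ 1 := by
  have h : ∀ i < 11, okW (wr4 15 i) = true ∧ neW qs (wr4 15 i) c0 = true := by decide +kernel
  rw [← wd_wr4]
  exact ne_wd _ (h i hi).1 (h i hi).2

theorem x23_pow_23 : x23 ^ 23 = 1 := by rw [← orderOf_x23]; exact pow_orderOf_eq_one _

/-- The relation in terms of `m` and `i`. -/
theorem rel_cases {m i : ℕ} (hm : m = 1 ∨ m = 22) (hi : i < 11) (h : ((x23 ^ m) ^ 8 * (u5 * x11 ^ i) ^ 2) ^ 4 = 1) :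
    m = 1 ∧ i = 0 := by
  rcases hm with rfl | rfl
  · refine ⟨rfl, ?_⟩
    by_contra h0
    rw [pow_one] at h
    exact rel_ne1 hi h0 h
  · exfalso
    have h1 : (x23 ^ 22) ^ 8 = x23 ^ 15 := by
      rw [← pow_mul]
      have : 22 * 8 = 23 * 7 + 15 := by norm_num
      rw [this, pow_add, pow_mul, x23_pow_23, one_pow, one_mul]
    rw [h1] at h
    exact rel_ne2 hi h

/-! ### Fixing generators -/

theorem mem_inn_of_fix {G : Type*} [Group G] {S : Set G} (hS : Subgroup.closure S = ⊤) {α : MulAut G} {g : G}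
    (h : ∀ s ∈ S, (MulAut.conj g * α) s = s) : α ∈ Inn G := by
  have h1 : MulAut.conj g * α = 1 := by
    have h2 : Subgroup.closure S ≤ (MulAut.conj g * α).toMonoidHom.eqLocus (MonoidHom.id G) := by
      rw [Subgroup.closure_le]
      intro s hs
      exact h s hs
    rw [hS] at h2
    ext x
    exact h2 (Subgroup.mem_top x)
  refine ⟨g⁻¹, ?_⟩
  rw [map_inv, inv_eq_iff_mul_eq_one]
  exact h1

theorem dvd_two {n a b : ℕ} (h : n ∣ a * b) : ∃ k l, k ∣ a ∧ l ∣ b ∧ n = k * l := by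
  obtain ⟨k, l, hk, hl, e⟩ := (Nat.dvd_mul).1 h
  exact ⟨k, l, hk, hl, e.symm⟩

/-- divisors of `2^a 3^b 5^c 7^d` -/
theorem dvd_four {n a b c d : ℕ} (h : n ∣ 2 ^ a * (3 ^ b * (5 ^ c * 7 ^ d))) :
    ∃ i < a + 1, ∃ j < b + 1, ∃ k < c + 1, ∃ l < d + 1, n = 2 ^ i * (3 ^ j * (5 ^ k * 7 ^ l)) := by
  obtain ⟨n1, m1, h1, h1', rfl⟩ := dvd_two h
  obtain ⟨n2, m2, h2, h2', rfl⟩ := dvd_two h1'
  obtain ⟨n3, m3, h3, h3', rfl⟩ := dvd_two h2'
  obtain ⟨i, hi, rfl⟩ := (Nat.dvd_prime_pow (by norm_num)).1 h1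
  obtain ⟨j, hj, rfl⟩ := (Nat.dvd_prime_pow (by norm_num)).1 h2
  obtain ⟨k, hk, rfl⟩ := (Nat.dvd_prime_pow (by norm_num)).1 h3
  obtain ⟨l, hl, rfl⟩ := (Nat.dvd_prime_pow (by norm_num)).1 h3'
  exact ⟨i, by omega, j, by omega, k, by omega, l, by omega, rfl⟩

/-- the divisors of `2^A 3^B 5^C 7^D` that are 1 mod `m` -/
def idxChk (A B C D m : ℕ) : Bool := (List.range (A + 1)).all fun a => (List.range (B + 1)).all fun b =>
  (List.range (C + 1)).all fun c => (List.range (D + 1)).all fun d =>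
    !(Nat.beq ((2 ^ a * (3 ^ b * (5 ^ c * 7 ^ d))) % m) 1) || Nat.beq (2 ^ a * (3 ^ b * (5 ^ c * 7 ^ d))) 1

theorem eq_one_of_chk {n A B C D m : ℕ} (h : n ∣ 2 ^ A * (3 ^ B * (5 ^ C * 7 ^ D))) (hm : n % m = 1)
    (hc : idxChk A B C D m = true) : n = 1 := by
  obtain ⟨a, ha, b, hb, c, hc', d, hd, hn⟩ := dvd_four h
  have h1 := List.all_eq_true.1 (List.all_eq_true.1 (List.all_eq_true.1 (List.all_eq_true.1 hc a (List.mem_range.2 ha))
    b (List.mem_range.2 hb)) c (List.mem_range.2 hc')) d (List.mem_range.2 hd)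
  rw [← hn, hm, Bool.or_eq_true] at h1
  rcases h1 with h1 | h1
  · simp at h1
  · exact Nat.eq_of_beq_eq_true h1

end Cfsg.Agent.H90.Co
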