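import Cfsg.Agent.H90.CoRigid
import Cfsg.Agent.H90.CoRel

/-!
# Rigidity of automorphisms, II (owner: helper90)

`adj`: `G` generated by `y` of order 11 with normaliser `⟨y, u⟩` of order 55, and `v` in the centraliser of `u`.
-/

set_option autoImplicit false

namespace Cfsg.Agent.H90.Rig

open Subgroup

theorem sq_cases : ∀ k < 11, k ≠ 0 → ∃ a < 5, (4 ^ a * k) % 11 = 1 ∨ (4 ^ a * k) % 11 = 10 := by decide

theorem adj {G : Type*} [Group G] [Finite G] {y u v : G} (hy : orderOf y = 11) (h11 : ¬ 11 * 11 ∣ Nat.card G)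
    (hN : ∀ g : G, g * y * g⁻¹ ∈ zpowers y → ∃ i j : ℕ, g = y ^ i * u ^ j)
    (hu : u * y * u⁻¹ = y ^ 4) (hu5 : u ^ 5 = 1) (huv : v * u = u * v)
    (hCu : ∀ c : G, c * u = u * c → ∃ i < 5, ∃ j < 5, c = u ^ i * v ^ j)
    (k0 i0 j0 : ℕ)
    (hrel : ∀ (β : MulAut G) (k i j : ℕ), k = 1 ∨ k = 10 → i < 5 → j < 5 → β y = y ^ k → β u = u → β v = u ^ i * v ^ j →
      (k = 1 ∧ i = 0 ∧ j = 1) ∨ (k = k0 ∧ i = i0 ∧ j = j0))
    (α : MulAut G) : ∃ g : G,
      ((MulAut.conj g * α) y = y ∧ (MulAut.conj g * α) u = u ∧ (MulAut.conj g * α) v = v) ∨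
      ((MulAut.conj g * α) y = y ^ k0 ∧ (MulAut.conj g * α) u = u ∧ (MulAut.conj g * α) v = u ^ i0 * v ^ j0) := by
  have : Fact (Nat.Prime 11) := ⟨by norm_num⟩
  have hy11 : y ^ 11 = 1 := by rw [← hy]; exact pow_orderOf_eq_one y
  have hym : ∀ m : ℕ, y ^ m = y ^ (m % 11) := fun m => by rw [← hy]; exact (pow_mod_orderOf y m).symm
  have hyinj : ∀ {a b : ℕ}, y ^ a = y ^ b → a % 11 = b % 11 := by
    intro a b h
    have := (pow_inj_mod (x := y)).1 h
    rwa [hy] at this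
  have hUa : ∀ a : ℕ, u ^ a * y * (u ^ a)⁻¹ = y ^ (4 ^ a) := by
    intro a
    induction a with
    | zero => simp
    | succ a ih =>
      rw [pow_succ', mul_inv_rev]
      calc u * u ^ a * y * ((u ^ a)⁻¹ * u⁻¹) = u * (u ^ a * y * (u ^ a)⁻¹) * u⁻¹ := by group
        _ = y ^ (4 ^ (a + 1)) := by rw [ih, ← conj_pow, hu, ← pow_mul, pow_succ']
  -- step 1
  have ha : orderOf (α y) = 11 := by rw [← hy]; exact MulEquiv.orderOf_eq α y
  obtain ⟨g1, hg1⟩ := exists_conj hy ha h11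
  obtain ⟨m, hm11, hm⟩ := pow_of_mem (by norm_num) hy hg1
  set β1 : MulAut G := MulAut.conj g1 * α with hβ1
  have hβ1y : β1 y = y ^ m := hm
  have hm0 : m ≠ 0 := by
    intro h0
    rw [h0, pow_zero] at hβ1y
    have : y = 1 := β1.injective (hβ1y.trans (map_one β1).symm)
    rw [this, orderOf_one] at hy
    norm_num at hy
  obtain ⟨a, -, hak⟩ := sq_cases m hm11 hm0
  set k := (4 ^ a * m) % 11 with hk
  set β2 : MulAut G := MulAut.conj (u ^ a) * β1 with hβ2
  have hβ2y : β2 y = y ^ k := by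
    show u ^ a * β1 y * (u ^ a)⁻¹ = y ^ k
    rw [hβ1y, ← conj_pow, hUa, ← pow_mul, hym]
  -- step 2
  have hkk : (k * k) % 11 = 1 := by rcases hak with h | h <;> rw [h]
  have h3 : β2 u * y * (β2 u)⁻¹ = y ^ 4 := by
    have h4 : β2 u * β2 y * (β2 u)⁻¹ = (β2 y) ^ 4 := by rw [← map_inv, ← map_mul, ← map_mul, hu, map_pow]
    rw [hβ2y] at h4
    have h5 : β2 u * (y ^ k) ^ k * (β2 u)⁻¹ = ((y ^ k) ^ 4) ^ k := by rw [← conj_pow, h4]
    have h6 : (y ^ k) ^ k = y := by rw [← pow_mul, hym, hkk, pow_one]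
    have h7 : ((y ^ k) ^ 4) ^ k = y ^ 4 := by rw [← pow_mul, mul_comm 4 k, pow_mul, h6]
    rwa [h6, h7] at h5
  obtain ⟨i, j, hij⟩ := hN (β2 u) (by rw [h3]; exact pow_mem (mem_zpowers y) 4)
  have hj : u ^ j = u := by
    have h4 : y ^ (4 ^ j) = y ^ 4 := by
      rw [← h3, hij]
      calc y ^ (4 ^ j) = y ^ i * y ^ (4 ^ j) * (y ^ i)⁻¹ := by rw [← pow_add, add_comm, pow_add, mul_inv_cancel_right]
        _ = (y ^ i * u ^ j) * y * (y ^ i * u ^ j)⁻¹ := by rw [← hUa]; group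
    have h5 := hyinj h4
    have hper : ∀ n : ℕ, 4 ^ (5 * n) % 11 = 1 := by
      intro n
      rw [pow_mul, Nat.pow_mod]; norm_num
    have h6 : 4 ^ (j % 5) % 11 = 4 := by
      have : 4 ^ j = 4 ^ (5 * (j / 5)) * 4 ^ (j % 5) := by rw [← pow_add, Nat.div_add_mod]
      rw [this, Nat.mul_mod, hper, one_mul, Nat.mod_mod] at h5
      exact h5
    have h7 : j % 5 = 1 := by
      have hlt : j % 5 < 5 := Nat.mod_lt _ (by norm_num)
      generalize j % 5 = r at *
      interval_cases r <;> first | rfl | (exfalso; revert h6; decide)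
    rw [← Nat.div_add_mod j 5, h7, pow_succ, pow_mul, hu5, one_pow, one_mul]
  rw [hj] at hij
  -- step 3: conjugate by a power of `y`
  set l := 4 * i with hl
  set β3 : MulAut G := MulAut.conj (y ^ l) * β2 with hβ3
  have hβ3y : β3 y = y ^ k := by
    show y ^ l * β2 y * (y ^ l)⁻¹ = y ^ k
    rw [hβ2y, ← pow_add, add_comm, pow_add, mul_inv_cancel_right]
  have hβ3u : β3 u = u := by
    show y ^ l * β2 u * (y ^ l)⁻¹ = u
    have h4 : u * (y ^ l)⁻¹ = (y ^ (4 * l))⁻¹ * u := by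
      have h5 : u * y ^ l * u⁻¹ = y ^ (4 * l) := by rw [← conj_pow, hu, ← pow_mul]
      rw [← h5]; group
    rw [hij]
    have h5 : y ^ (l + i) = y ^ (4 * l) := by
      rw [hym (l + i), hym (4 * l)]
      congr 1
      omega
    calc y ^ l * (y ^ i * u) * (y ^ l)⁻¹ = y ^ (l + i) * (u * (y ^ l)⁻¹) := by rw [pow_add]; group
      _ = u := by rw [h4, h5, mul_inv_cancel_left]
  -- step 4
  have h6 : β3 v * u = u * β3 v := by
    have := congrArg β3 huv
    rwa [map_mul, map_mul, hβ3u] at this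
  obtain ⟨i', hi', j', hj', hv'⟩ := hCu _ h6
  have hβ : MulAut.conj (y ^ l * (u ^ a * g1)) * α = β3 := by
    rw [hβ3, hβ2, hβ1, map_mul, map_mul]
    simp only [mul_assoc]
  refine ⟨y ^ l * (u ^ a * g1), ?_⟩
  rw [hβ]
  rcases hrel β3 k i' j' hak hi' hj' hβ3y hβ3u hv' with ⟨h7, h8, h9⟩ | ⟨h7, h8, h9⟩
  · left
    refine ⟨by rw [hβ3y, h7, pow_one], hβ3u, by rw [hv', h8, h9, pow_zero, one_mul, pow_one]⟩
  · right
    exact ⟨by rw [hβ3y, h7], hβ3u, by rw [hv', h8, h9]⟩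

/-- Two automorphisms agreeing on generators are equal. -/
theorem aut_ext {G : Type*} [Group G] {S : Set G} (hS : closure S = ⊤) {α β : MulAut G} (h : ∀ s ∈ S, α s = β s) :
    α = β := by
  have h2 : closure S ≤ α.toMonoidHom.eqLocus β.toMonoidHom := by
    rw [closure_le]
    intro s hs
    exact h s hs
  rw [hS] at h2
  ext x
  exact h2 (mem_top x)

/-- Index two. -/
theorem out_two {G : Type*} [Group G] {y u v y' u' v' : G} (hS : closure ({y, u, v} : Set G) = ⊤)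
    (h : ∀ α : MulAut G, ∃ g : G,
      ((MulAut.conj g * α) y = y ∧ (MulAut.conj g * α) u = u ∧ (MulAut.conj g * α) v = v) ∨
      ((MulAut.conj g * α) y = y' ∧ (MulAut.conj g * α) u = u' ∧ (MulAut.conj g * α) v = v'))
    (τ : MulAut G) (hτ : τ ∉ Cfsg.Inn G) : Nat.card (Cfsg.Out G) = 2 := by
  show (Cfsg.Inn G).index = 2
  rw [index_eq_two_iff]
  have key : ∀ α : MulAut G, α ∉ Cfsg.Inn G → ∃ g : G,
      ((MulAut.conj g * α) y = y' ∧ (MulAut.conj g * α) u = u' ∧ (MulAut.conj g * α) v = v') := by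
    intro α hα
    obtain ⟨g, h1 | h1⟩ := h α
    · exfalso
      apply hα
      refine Cfsg.Agent.H90.Co.mem_inn_of_fix hS (g := g) ?_
      intro s hs
      simp only [Set.mem_insert_iff, Set.mem_singleton_iff] at hs
      rcases hs with rfl | rfl | rfl
      · exact h1.1
      · exact h1.2.1
      · exact h1.2.2
    · exact ⟨g, h1⟩
  refine ⟨τ, fun b => ?_⟩
  by_cases hb : b ∈ Cfsg.Inn G
  · right
    exact ⟨hb, fun h1 => hτ ((Subgroup.mul_mem_cancel_left _ hb).1 h1)⟩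
  · left
    refine ⟨?_, hb⟩
    have hb' : b⁻¹ ∉ Cfsg.Inn G := fun h1 => hb (by simpa using (Cfsg.Inn G).inv_mem h1)
    obtain ⟨g1, e1⟩ := key _ hb'
    obtain ⟨g2, e2⟩ := key _ hτ
    have h3 : MulAut.conj g1 * b⁻¹ = MulAut.conj g2 * τ := by
      apply aut_ext hS
      intro s hs
      simp only [Set.mem_insert_iff, Set.mem_singleton_iff] at hs
      rcases hs with rfl | rfl | rfl
      · rw [e1.1, e2.1]
      · rw [e1.2.1, e2.2.1]
      · rw [e1.2.2, e2.2.2]
    have h4 : b * τ = b * (MulAut.conj (g2⁻¹ * g1)) * b⁻¹ := by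
      have : τ = MulAut.conj g2⁻¹ * (MulAut.conj g1 * b⁻¹) := by
        rw [h3, ← mul_assoc, ← map_mul, inv_mul_cancel, map_one, one_mul]
      rw [this, map_mul]
      simp only [mul_assoc]
    rw [h4]
    exact (Cfsg.innNormal G).conj_mem _ ⟨_, rfl⟩ b

/-- A simple group with a proper subgroup of index `n` has order dividing `n!`. -/
theorem card_dvd_factorial {G : Type*} [Group G] [Finite G] [hG : IsSimpleGroup G] (H : Subgroup G) (hH : H ≠ ⊤) :
    Nat.card G ∣ (H.index).factorial := by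
  have h1 : (MulAction.toPermHom G (G ⧸ H)).ker = ⊥ := by
    have hn : (MulAction.toPermHom G (G ⧸ H)).ker.Normal := inferInstance
    rcases hn.eq_bot_or_eq_top with h | h
    · exact h
    · exfalso
      apply hH
      rw [eq_top_iff]
      intro g _
      have hg : g ∈ (MulAction.toPermHom G (G ⧸ H)).ker := by rw [h]; exact mem_top g
      rw [← normalCore_eq_ker] at hg
      exact normalCore_le H hg
  have h2 : Nat.card G ∣ Nat.card (Equiv.Perm (G ⧸ H)) := by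
    have := Subgroup.card_dvd_of_injective (MulAction.toPermHom G (G ⧸ H)) ((MonoidHom.ker_eq_bot_iff _).1 h1)
    exact this
  have h3 : Finite (G ⧸ H) := inferInstance
  rw [Nat.card_perm] at h2
  exact h2

end Cfsg.Agent.H90.Rig
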