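import Cfsg.Agent.H90.CoOneRel
import Cfsg.Agent.H90.CoCent
import Cfsg.Agent.H90.CoRigid2
import Cfsg.Agent.Leech.RankThm
import Cfsg.Agent.Leech.Orders

/-!
# Words with one more generator, and the centraliser of `u` in `HS` and `McL` (owner: helper90)
-/

set_option autoImplicit false

namespace Cfsg.Agent.H90.Co

open Cfsg Cfsg.Agent.Golay Cfsg.Agent.LeechSimple Cfsg.Agent.Leech MulAction
open scoped Pointwise

/-- the generators with an additional one (number 7) -/
noncomputable def gse (g : Co0) (i : ℕ) : Co0 := if i = 7 then g else gs i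

theorem act_gse {R C Q : List ℕ} {K : ℕ} (hM : matOK R C = true) (hP : packOK R Q K = true) :
    ∀ i < 8, Act (gse (matElt R C hM) i) ((qs ++ [(Q, K)]).getD i ([], 0)) := by
  intro i hi
  by_cases h : i = 7
  · subst h
    exact act_mat hM hP
  · have h1 : gse (matElt R C hM) i = gs i := if_neg h
    rw [h1]
    have h2 : (qs ++ [(Q, K)]).getD i ([], 0) = qs.getD i ([], 0) := by
      have : i < qs.length := by
        have : qs.length = 7 := rfl
        omega
      rw [List.getD_append _ _ _ _ this]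
    rw [h2]
    exact act_gs i (by omega)

/-- all letters are less than 8 -/
def okE (w : List ℕ) : Bool := w.all (fun i => Nat.blt i 8)

theorem act_of_okE {R C Q : List ℕ} {K : ℕ} (hM : matOK R C = true) (hP : packOK R Q K = true) {w : List ℕ}
    (h : okE w = true) : ∀ i ∈ w, Act (gse (matElt R C hM) i) ((qs ++ [(Q, K)]).getD i ([], 0)) := by
  intro i hi
  have := List.all_eq_true.1 h i hi
  rw [Nat.blt_eq] at this
  exact act_gse hM hP i this

theorem eq_wdE {R C Q : List ℕ} {K : ℕ} (hM : matOK R C = true) (hP : packOK R Q K = true) (w w' : List ℕ)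
    (h1 : okE w = true) (h2 : okE w' = true) (h : eqW (qs ++ [(Q, K)]) w w' = true) :
    wd (gse (matElt R C hM)) w = wd (gse (matElt R C hM)) w' :=
  eq_of_eqW (act_of_okE hM hP h1) (act_of_okE hM hP h2) h

/-- code of a test vector of norm 48 -/
def c1 : ℕ := 643258422458946674624750899412125169

theorem ne_wdE {R C Q : List ℕ} {K : ℕ} (hM : matOK R C = true) (hP : packOK R Q K = true) (w : List ℕ)
    (h1 : okE w = true) (h : neW (qs ++ [(Q, K)]) w c1 = true) : wd (gse (matElt R C hM)) w ≠ 1 :=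
  ne_of_neW (act_of_okE hM hP h1) (by decide +kernel) (by decide +kernel) (by decide +kernel) h

/-- the word of `y^k u^i v^j` -/
def wK (k i j : ℕ) : List ℕ := List.replicate j 7 ++ (List.replicate i 2 ++ List.replicate k 1)

theorem wd_wK (g : Co0) (k i j : ℕ) : wd (gse g) (wK k i j) = x11 ^ k * u5 ^ i * g ^ j := by
  unfold wK
  rw [wd_append, wd_append, wd_replicate, wd_replicate, wd_replicate]
  rfl

theorem smul_eq_of {qs : List (List ℕ × ℕ)} {gs : ℕ → Co0} {w : List ℕ} (hA : ∀ i ∈ w, Act (gs i) (qs.getD i ([], 0)))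
    {c c' : ℕ} (hc : c < 32 ^ 24) {x x' : leechLattice} (hx : (x : GolayPt → ℤ) = vecOf c)
    (hx' : (x' : GolayPt → ℤ) = vecOf c') (hn : sqNorm (x : GolayPt → ℤ) ≤ 48)
    (h : run qs w c (fun d => Nat.beq d c') = true) : wd gs w • x = x' := by
  obtain ⟨d, -, h2, h3⟩ := run_spec hA hc h
  apply Subtype.ext
  rw [h3 x hx hn, hx', Nat.eq_of_beq_eq_true h2]

theorem smul_ne_of {qs : List (List ℕ × ℕ)} {gs : ℕ → Co0} {w : List ℕ} (hA : ∀ i ∈ w, Act (gs i) (qs.getD i ([], 0)))
    {c : ℕ} (hc : c < 32 ^ 24) {x : leechLattice} (hx : (x : GolayPt → ℤ) = vecOf c)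
    (hn : sqNorm (x : GolayPt → ℤ) ≤ 48) (h : neW qs w c = true) : wd gs w • x ≠ x := by
  obtain ⟨d, hd, h2, h3⟩ := run_spec hA hc h
  intro h4
  have h5 := h3 x hx hn
  rw [h4, hx] at h5
  have h6 : c = d := vecOf_inj hc hd h5
  rw [← h6, Nat.beq_refl] at h2
  exact absurd h2 (by decide)

/-! ### Elements fixing `V`, `U`, `U'` -/

theorem x11_fix_U : x11 • Spor.leechU = Spor.leechU := by
  rw [← my_eq]
  exact fix_of myM myP (c := cU) (by decide +kernel) cU_eq (by rw [norm_leechU]; norm_num) (by decide +kernel)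
theorem x11_fix_U' : x11 • Spor.leechU' = Spor.leechU' := by
  rw [← my_eq]
  exact fix_of myM myP (c := cU') (by decide +kernel) cU'_eq (by rw [norm_leechU']; norm_num) (by decide +kernel)
theorem u5_fix_U : u5 • Spor.leechU = Spor.leechU := by
  rw [← mu_eq]
  exact fix_of muM muP (c := cU) (by decide +kernel) cU_eq (by rw [norm_leechU]; norm_num) (by decide +kernel)
theorem u5_fix_U' : u5 • Spor.leechU' = Spor.leechU' := by
  rw [← mu_eq]
  exact fix_of muM muP (c := cU') (by decide +kernel) cU'_eq (by rw [norm_leechU']; norm_num) (by decide +kernel)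

theorem e8_eq_add : e8 none = Spor.leechU + Spor.leechU' := by
  apply Subtype.ext
  funext p
  rw [AddSubgroup.coe_add, Pi.add_apply, e8_apply, cU_eq, cU'_eq]
  revert p; decide +kernel

theorem e8_eq_sub : e8 (some 0) = Spor.leechU - Spor.leechU' := by
  apply Subtype.ext
  funext p
  rw [AddSubgroup.coe_sub, Pi.sub_apply, e8_apply, cU_eq, cU'_eq]
  revert p; decide +kernel

/-- The centraliser of `u` in `M22`. -/
theorem cent_u22 {g : Co0} (hV : g • Spor.leechV = Spor.leechV) (hU : g • Spor.leechU = Spor.leechU)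
    (hU' : g • Spor.leechU' = Spor.leechU') (hc : g * u5 = u5 * g) : ∃ j < 5, g = u5 ^ j := by
  have h1 : g • e8 none = e8 none := by rw [e8_eq_add, co0_add, hU, hU']
  have h2 : g • e8 (some 0) = e8 (some 0) := by rw [e8_eq_sub, co0_sub, hU, hU']
  obtain ⟨σ, ⟨h3, h4⟩, rfl⟩ := mem_M22'_of h1 hV h2
  have h5 : (σ : Equiv.Perm GolayPt) * uPerm = uPerm * (σ : Equiv.Perm GolayPt) := by
    change piHom _ * piHom _ = piHom _ * piHom _ at hc
    rw [← map_mul, ← map_mul] at hc
    exact congrArg Subtype.val (piHom_injective hc)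
  obtain ⟨j, hj, hj2⟩ := cent_u σ.2 h3 h4 h5
  refine ⟨j, hj, ?_⟩
  show piHom σ = piHom _ ^ j
  rw [← map_pow]
  congr 1
  exact Subtype.ext hj2

/-- The centraliser of `u` in a larger group: from the fixed points of `u` in an orbit. -/
theorem cent_u_of {S : Subgroup Co0} (hS : S ≤ stabilizer Co0 Spor.leechV) {w g : Co0} {p : leechLattice}
    (hst : ∀ c ∈ S, c • p = p → c • Spor.leechU = Spor.leechU ∧ c • Spor.leechU' = Spor.leechU')
    (hg : g ∈ S) (hgu : g * u5 = u5 * g) (hu : u5 • p = p)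
    (hfix : ∀ x ∈ orbit S p, u5 • x = x → ∃ i < 5, g ^ i • p = x)
    (hw : w ∈ S) (hc : w * u5 = u5 * w) : ∃ i < 5, ∃ j < 5, w = u5 ^ i * g ^ j := by
  have h1 : u5 • (w • p) = w • p := by rw [← mul_smul, ← hc, mul_smul, hu]
  obtain ⟨j, hj, hjp⟩ := hfix (w • p) ⟨⟨w, hw⟩, rfl⟩ h1
  have hgj : Commute (g ^ j) u5 := Commute.pow_left (show Commute g u5 from hgu) j
  have hmem : (g ^ j)⁻¹ * w ∈ S := S.mul_mem (S.inv_mem (S.pow_mem hg j)) hw
  have h2 : ((g ^ j)⁻¹ * w) • p = p := by rw [mul_smul, ← hjp, inv_smul_smul]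
  obtain ⟨h3, h4⟩ := hst _ hmem h2
  have h5 : ((g ^ j)⁻¹ * w) * u5 = u5 * ((g ^ j)⁻¹ * w) := by
    rw [mul_assoc, hc, ← mul_assoc, hgj.inv_left.eq, mul_assoc]
  obtain ⟨i, hi, hi2⟩ := cent_u22 (hS hmem) h3 h4 h5
  refine ⟨i, hi, j, hj, ?_⟩
  rw [(hgj.pow_right i).eq.symm, ← hi2, mul_inv_cancel_left]

end Cfsg.Agent.H90.Co
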