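import Cfsg.Agent.H90.CoExt

/-!
# Generation of `HS` and `McL` (owner: helper90)
-/

set_option autoImplicit false

namespace Cfsg.Agent.H90.Co

open Cfsg Cfsg.Agent.Golay Cfsg.Agent.LeechSimple Cfsg.Agent.Leech MulAction
open scoped Pointwise

theorem mem_cl {a b c : Co0} : a ∈ Subgroup.closure ({a, b, c} : Set Co0) ∧ b ∈ Subgroup.closure ({a, b, c} : Set Co0) ∧
    c ∈ Subgroup.closure ({a, b, c} : Set Co0) :=
  ⟨Subgroup.subset_closure (by simp), Subgroup.subset_closure (by simp), Subgroup.subset_closure (by simp)⟩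

theorem dvd_of_order {G : Type*} [Group G] {H : Subgroup G} {g : G} (hg : g ∈ H) {n : ℕ} (hn : orderOf g = n) :
    n ∣ Nat.card H := by
  have h1 : orderOf (⟨g, hg⟩ : H) = n := by rw [Subgroup.orderOf_mk, hn]
  rw [← h1]
  exact orderOf_dvd_natCard _

theorem u5_order : orderOf u5 = 5 := by
  have : Fact (Nat.Prime 5) := ⟨by norm_num⟩
  apply orderOf_eq_prime u5_pow
  intro h
  have h1 : piHom ⟨uPerm, u_mem⟩ = piHom 1 := by rw [map_one]; exact h
  exact u_ne_one (congrArg Subtype.val (piHom_injective h1))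

theorem gen_core {S : Subgroup Co0} (hS : IsSimpleGroup S) {g : Co0} (hg : g ∈ S) (hyS : x11 ∈ S) (huS : u5 ∈ S)
    {n : ℕ} (hn0 : 0 < n) (hcard : Nat.card S = n * 443520) (h12 : ¬ Nat.card S ∣ (12).factorial)
    (h121 : ¬ 11 * 11 ∣ Nat.card S)
    (hN : ∀ c ∈ S, c * x11 * c⁻¹ ∈ Subgroup.zpowers x11 → ∃ i j : ℕ, c = x11 ^ i * u5 ^ j)
    {p : leechLattice} (hpn : sqNorm (p : GolayPt → ℤ) = 32) (hp : (orbit S p).ncard = n)
    (hge : n ≤ (orbit (Subgroup.closure ({x11, u5, g} : Set Co0)) p).ncard)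
    (hyp : x11 • p = p) (hup : u5 • p = p)
    (h3 : 3 ∣ Nat.card (stabilizer (Subgroup.closure ({x11, u5, g} : Set Co0)) p))
    (h7 : 7 ∣ Nat.card (stabilizer (Subgroup.closure ({x11, u5, g} : Set Co0)) p)) :
    Subgroup.closure ({x11, u5, g} : Set Co0) = S := by
  set H' : Subgroup Co0 := Subgroup.closure ({x11, u5, g} : Set Co0) with hH'
  obtain ⟨mY, mU, mG⟩ := mem_cl (a := x11) (b := u5) (c := g)
  rw [← hH'] at mY mU mG
  have hle : H' ≤ S := by
    rw [hH', Subgroup.closure_le]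
    rintro s hs
    simp only [Set.mem_insert_iff, Set.mem_singleton_iff] at hs
    rcases hs with rfl | rfl | rfl
    · exact hyS
    · exact huS
    · exact hg
  have hsub : orbit H' p ⊆ orbit S p := by
    rintro _ ⟨h, rfl⟩
    exact ⟨⟨h.1, hle h.2⟩, rfl⟩
  have hfin : (orbit S p).Finite := min_finite.subset (orbit_subset_min hpn)
  have horb : orbit H' p = orbit S p := Set.eq_of_subset_of_ncard_le hsub (by rw [hp]; exact hge) hfin
  have hcH : Nat.card H' = n * Nat.card (stabilizer H' p) := by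
    have h1 : Nat.card (orbit H' p) = n := by
      rw [horb, Nat.card_coe_set_eq, hp]
    rw [← h1]
    have h2 := (stabilizer H' p).card_mul_index
    rw [MulAction.index_stabilizer] at h2
    rw [← h2, mul_comm]
    congr 1
  have h5 : 5 ∣ Nat.card (stabilizer H' p) := by
    have h1 : (⟨u5, mU⟩ : H') ∈ stabilizer H' p := hup
    have h2 : orderOf (⟨u5, mU⟩ : H') = 5 := by rw [Subgroup.orderOf_mk, u5_order]
    exact dvd_of_order h1 h2
  have h11 : 11 ∣ Nat.card (stabilizer H' p) := by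
    have h1 : (⟨x11, mY⟩ : H') ∈ stabilizer H' p := hyp
    have h2 : orderOf (⟨x11, mY⟩ : H') = 11 := by rw [Subgroup.orderOf_mk, orderOf_x11]
    exact dvd_of_order h1 h2
  have hall : 1155 ∣ Nat.card (stabilizer H' p) := by
    have e : (1155 : ℕ) = 3 * (5 * (7 * 11)) := by norm_num
    rw [e]
    refine Nat.Coprime.mul_dvd_of_dvd_of_dvd (by norm_num) h3 ?_
    refine Nat.Coprime.mul_dvd_of_dvd_of_dvd (by norm_num) h5 ?_
    exact Nat.Coprime.mul_dvd_of_dvd_of_dvd (by norm_num) h7 h11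
  -- index
  set H : Subgroup S := H'.subgroupOf S with hH
  have hcH' : Nat.card H = Nat.card H' := Nat.card_congr (Subgroup.subgroupOfEquivOfLe hle).toEquiv
  have : Fact (Nat.Prime 11) := ⟨by norm_num⟩
  have oy : orderOf (⟨x11, hyS⟩ : S) = 11 := by rw [Subgroup.orderOf_mk, orderOf_x11]
  have i11 : H.index % 11 = 1 := by
    refine Rig.index_mod oy h121 H (show x11 ∈ H' from mY) fun c hc => ?_
    obtain ⟨k, hk⟩ := hc
    obtain ⟨i, j, hij⟩ := hN c c.2 ⟨k, congrArg Subtype.val hk⟩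
    show (c : Co0) ∈ H'
    rw [hij]
    exact H'.mul_mem (H'.pow_mem mY i) (H'.pow_mem mU j)
  have hmul := H.index_mul_card
  rw [hcH', hcH, hcard] at hmul
  obtain ⟨k, hk⟩ := hall
  rw [hk] at hmul
  have h384 : H.index * k = 384 := by
    have : (n * 1155) * (H.index * k) = (n * 1155) * 384 := by
      calc (n * 1155) * (H.index * k) = H.index * (n * (1155 * k)) := by ring
        _ = (n * 1155) * 384 := by rw [hmul]; ring
    exact Nat.eq_of_mul_eq_mul_left (by positivity) this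
  have hdvd : H.index ∣ 384 := ⟨k, h384.symm⟩
  have hle2 : H.index ≤ 384 := Nat.le_of_dvd (by norm_num) hdvd
  have hcase : H.index = 1 ∨ H.index = 12 := by
    have h : ∀ m ≤ 384, m ∣ 384 → m % 11 = 1 → m = 1 ∨ m = 12 := by decide +kernel
    exact h _ hle2 hdvd i11
  rcases hcase with h | h
  · have h1 : H = ⊤ := Subgroup.index_eq_one.1 h
    apply le_antisymm hle
    intro x hx
    have : (⟨x, hx⟩ : S) ∈ H := by rw [h1]; exact Subgroup.mem_top _
    exact this
  · exfalso
    have h1 : H ≠ ⊤ := by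
      intro h2
      rw [h2, Subgroup.index_top] at h
      norm_num at h
    have h2 := Rig.card_dvd_factorial H h1
    rw [h] at h2
    exact h12 h2

/-- generators in the subgroup -/
theorem gen_sub {S : Subgroup Co0} {g : Co0} (hg : g ∈ S) (hyS : x11 ∈ S) (huS : u5 ∈ S)
    (h : Subgroup.closure ({x11, u5, g} : Set Co0) = S) :
    Subgroup.closure ({⟨x11, hyS⟩, ⟨u5, huS⟩, ⟨g, hg⟩} : Set S) = ⊤ := by
  apply Subgroup.map_injective S.subtype_injective
  rw [MonoidHom.map_closure]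
  have h1 : S.subtype '' ({⟨x11, hyS⟩, ⟨u5, huS⟩, ⟨g, hg⟩} : Set S) = ({x11, u5, g} : Set Co0) := by
    rw [Set.image_insert_eq, Set.image_insert_eq, Set.image_singleton]; rfl
  rw [h1, h, ← MonoidHom.range_eq_map, Subgroup.range_subtype]

end Cfsg.Agent.H90.Co
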