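import Cfsg.Agent.H90.CoGen
import Cfsg.Agent.H90.CoData4

/-!
# The outer automorphism group of `HS` (owner: helper90)
-/

set_option autoImplicit false

namespace Cfsg.Agent.H90.Co

open Cfsg Cfsg.Agent.Golay Cfsg.Agent.LeechSimple Cfsg.Agent.Leech MulAction
open scoped Pointwise

theorem card_hs : Nat.card hsSub = 44352000 :=
  card_stab_48_16 Spor.leechV Spor.leechU' (by rw [norm_leechV]) (by rw [norm_leechU']) (by decide +kernel)

/-- an element of order 5 commuting with `u` -/
noncomputable def vh : Co0 := matElt mvhR mvhC mvhM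

theorem vh_V : vh • Spor.leechV = Spor.leechV :=
  fix_of mvhM mvhP (c := cV) (by decide +kernel) cV_eq (by rw [norm_leechV]) (by decide +kernel)
theorem vh_U' : vh • Spor.leechU' = Spor.leechU' :=
  fix_of mvhM mvhP (c := cU') (by decide +kernel) cU'_eq (by rw [norm_leechU']; norm_num) (by decide +kernel)

theorem vh_mem : vh ∈ hsSub := ⟨vh_V, vh_U'⟩
theorem y_hs : x11 ∈ hsSub := ⟨x11_fix_V, x11_fix_U'⟩
theorem u_hs : u5 ∈ hsSub := ⟨u5_fix_V, u5_fix_U'⟩

theorem vh_u : vh * u5 = u5 * vh := by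
  have h := eq_wdE mvhM mvhP [2, 7] [7, 2] (by decide) (by decide) (by decide +kernel)
  simp only [wd_cons, wd_nil, one_mul] at h
  exact h

theorem tt_U' : tt • Spor.leechU' ≠ Spor.leechU' := by
  have h := smul_ne_of (act_of_ok (w := [3]) (by decide)) (c := cU') (by decide +kernel) cU'_eq
    (by rw [norm_leechU']; norm_num) (by decide +kernel)
  rw [wd_t] at h
  exact h

/-- normaliser of `⟨y⟩` -/
theorem norm_hs {c : Co0} (hc : c ∈ hsSub) (h : c * x11 * c⁻¹ ∈ Subgroup.zpowers x11) :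
    ∃ i j : ℕ, c = x11 ^ i * u5 ^ j := by
  obtain ⟨i, j, hij | hij⟩ := norm_co3 hc.1 h
  · exact ⟨i, j, hij⟩
  · exfalso
    apply tt_U'
    have h1 : c • Spor.leechU' = Spor.leechU' := hc.2
    have h2 : (x11 ^ i * u5 ^ j) • (tt • Spor.leechU') = Spor.leechU' := by rw [← mul_smul, ← hij, h1]
    rw [← eq_inv_smul_iff] at h2
    rw [h2, inv_smul_eq_iff, mul_smul, smul_of_pow u5_fix_U', smul_of_pow x11_fix_U']

/-! ### The orbit of length 100 -/

theorem p100_eq : p100 = -Spor.leechU := by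
  apply Subtype.ext
  funext p
  rw [AddSubgroup.coe_neg, Pi.neg_apply, cU_eq]
  show vecOf 519899659641680805127698729222554124 p = _
  revert p; decide +kernel

theorem gens_hs : ∀ S : Subgroup Co0, x11 ∈ S → vh ∈ S → ∀ i < [(myQ, myK), (mvhQ, mvhK)].length,
    IsGen S ([(myQ, myK), (mvhQ, mvhK)].getD i ([], 0)) := by
  intro S hy hv i hi
  have h : i = 0 ∨ i = 1 := by
    have : [(myQ, myK), (mvhQ, mvhK)].length = 2 := rfl
    omega
  rcases h with rfl | rfl
  · apply isGen_of myM myP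
    rw [my_eq]; exact hy
  · exact isGen_of mvhM mvhP hv

theorem h100_ok : chkLoop [(myQ, myK), (mvhQ, mvhK)] h100G 100 519899659641680805127698729222554124 100
    (Nat.add M120 1) = true := by decide +kernel

theorem orb_hs : (orbit hsSub p100).ncard = 100 := by
  have h := T100_orbit
  change orbit hsSub p100 = _ at h
  rw [h]; exact T100_ncard

/-- the fixed points of `u` in the orbit -/
theorem fix100_chk : ((List.range 100).all fun j => !(fixC (muQ, muK) (cd h100G j)) ||
    (List.range 5).any fun i => run (qs ++ [(mvhQ, mvhK)]) (List.replicate i 7) 519899659641680805127698729222554124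
      (fun d => Nat.beq d (cd h100G j))) = true := by decide +kernel

theorem fix100 : ∀ x ∈ orbit hsSub p100, u5 • x = x → ∃ i < 5, vh ^ i • p100 = x := by
  intro x hx hu
  obtain ⟨j, hj, hjx⟩ := orbit_list hsSub p100 (gens := [(myQ, myK), (mvhQ, mvhK)]) (G := h100G) (N := 100)
    (c0 := 519899659641680805127698729222554124) rfl (by rw [norm_p100]; norm_num) (gens_hs hsSub y_hs vh_mem)
    h100_ok (min_finite.subset (orbit_subset_min norm_p100)) orb_hs subset_rfl x hx
  have h1 := List.all_eq_true.1 fix100_chk j (List.mem_range.2 hj)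
  have h2 : fixC (muQ, muK) (cd h100G j) = true := by
    have := app_of_eq muM muP (d := cd h100G j) (cd_lt _ _) hjx (by rw [mu_eq, hu]; exact hjx)
    exact this
  rw [h2, Bool.not_true, Bool.false_or] at h1
  obtain ⟨i, hi, h3⟩ := List.any_eq_true.1 h1
  refine ⟨i, List.mem_range.1 hi, ?_⟩
  have hok : okE (List.replicate i 7) = true := by
    unfold okE
    rw [List.all_eq_true]
    intro a ha
    rw [List.eq_of_mem_replicate ha]; rfl
  have h4 := smul_eq_of (act_of_okE mvhM mvhP hok) (x := p100) (x' := x) (by decide +kernel) rfl hjx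
    (by rw [norm_p100]; norm_num) h3
  rw [wd_replicate] at h4
  exact h4

/-- centraliser of `u` -/
theorem cent_hs {c : Co0} (hc : c ∈ hsSub) (h : c * u5 = u5 * c) : ∃ i < 5, ∃ j < 5, c = u5 ^ i * vh ^ j := by
  refine cent_u_of (S := hsSub) (fun _ h => h.1) (p := p100) ?_ vh_mem vh_u ?_ fix100 hc h
  · intro c hc hp
    refine ⟨?_, hc.2⟩
    rw [p100_eq, co0_neg] at hp
    exact neg_injective hp
  · rw [p100_eq, co0_neg, u5_fix_U]

/-! ### Relations -/

/-- `(y^k u^i v^j)^7` -/
def w7 (k i j : ℕ) : List ℕ := (List.replicate 7 (wK k i j)).flatten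

theorem rel_hs : (x11 * vh) ^ 7 = 1 := by
  have h := eq_wdE mvhM mvhP (w7 1 0 1) [] (by decide) (by decide) (by decide +kernel)
  unfold w7 at h
  rw [wd_pow, wd_wK, wd_nil, pow_one, pow_zero, mul_one, pow_one] at h
  exact h

theorem rel_hs_chk : ([1, 10].all fun k => (List.range 5).all fun i => (List.range 5).all fun j =>
    (Nat.beq k 1 && (Nat.beq i 0 && Nat.beq j 1)) || ((Nat.beq k 10 && (Nat.beq i 0 && Nat.beq j 4)) ||
      (okE (w7 k i j) && neW (qs ++ [(mvhQ, mvhK)]) (w7 k i j) c1))) = true := by decide +kernel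

theorem rel_hs_cases {k i j : ℕ} (hk : k = 1 ∨ k = 10) (hi : i < 5) (hj : j < 5) (h : (x11 ^ k * (u5 ^ i * vh ^ j)) ^ 7 = 1) :
    (k = 1 ∧ i = 0 ∧ j = 1) ∨ (k = 10 ∧ i = 0 ∧ j = 4) := by
  have h1 := List.all_eq_true.1 (List.all_eq_true.1 (List.all_eq_true.1 rel_hs_chk k (by
    simp only [List.mem_cons, List.not_mem_nil, or_false]; exact hk)) i (List.mem_range.2 hi)) j (List.mem_range.2 hj)
  simp only [Bool.or_eq_true, Bool.and_eq_true, Nat.beq_eq] at h1
  rcases h1 with h1 | h1 | ⟨h1, h2⟩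
  · exact Or.inl h1
  · exact Or.inr h1
  · exfalso
    have h3 := ne_wdE mvhM mvhP (w7 k i j) h1 h2
    apply h3
    unfold w7
    rw [wd_pow, wd_wK, mul_assoc]
    exact h

/-! ### Generation -/

theorem ord7_hs : orderOf (x11 * vh) = 7 := by
  have : Fact (Nat.Prime 7) := ⟨by norm_num⟩
  apply orderOf_eq_prime rel_hs
  intro h
  have h2 := ne_wdE mvhM mvhP (wK 1 0 1) (by decide) (by decide +kernel)
  apply h2
  rw [wd_wK, pow_one, pow_zero, mul_one, pow_one]
  exact h

/-- `(y u^4 v)^4` -/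
def w3h : List ℕ := (List.replicate 4 (wK 1 4 1)).flatten

theorem wd_w3h : wd (gse vh) w3h = (x11 ^ 1 * u5 ^ 4 * vh ^ 1) ^ 4 := by
  unfold w3h
  rw [wd_pow, wd_wK]

theorem ord3_hs : orderOf ((x11 ^ 1 * u5 ^ 4 * vh ^ 1) ^ 4) = 3 := by
  have : Fact (Nat.Prime 3) := ⟨by norm_num⟩
  rw [← wd_w3h]
  apply orderOf_eq_prime
  · rw [← wd_pow]
    exact eq_wdE mvhM mvhP _ [] (by decide) (by decide) (by decide +kernel)
  · exact ne_wdE mvhM mvhP _ (by decide) (by decide +kernel)

theorem gen_hs : Subgroup.closure ({x11, u5, vh} : Set Co0) = hsSub := by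
  obtain ⟨mY, mU, mG⟩ := mem_cl (a := x11) (b := u5) (c := vh)
  have hge : 100 ≤ (orbit (Subgroup.closure ({x11, u5, vh} : Set Co0)) p100).ncard :=
    orbit_ge _ p100 rfl (by rw [norm_p100]; norm_num) (gens_hs _ mY mG) h100_ok
      (min_finite.subset (orbit_subset_min norm_p100))
  have hle : Subgroup.closure ({x11, u5, vh} : Set Co0) ≤ hsSub := by
    rw [Subgroup.closure_le]
    rintro s hs
    simp only [Set.mem_insert_iff, Set.mem_singleton_iff] at hs
    rcases hs with rfl | rfl | rfl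
    · exact y_hs
    · exact u_hs
    · exact vh_mem
  have hcH : Nat.card (Subgroup.closure ({x11, u5, vh} : Set Co0)) =
      100 * Nat.card (stabilizer (Subgroup.closure ({x11, u5, vh} : Set Co0)) p100) := by
    have hsub : orbit (Subgroup.closure ({x11, u5, vh} : Set Co0)) p100 ⊆ orbit hsSub p100 := by
      rintro _ ⟨h, rfl⟩
      exact ⟨⟨h.1, hle h.2⟩, rfl⟩
    have horb : orbit (Subgroup.closure ({x11, u5, vh} : Set Co0)) p100 = orbit hsSub p100 :=
      Set.eq_of_subset_of_ncard_le hsub (by rw [orb_hs]; exact hge) (min_finite.subset (orbit_subset_min norm_p100))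
    have h1 : (orbit (Subgroup.closure ({x11, u5, vh} : Set Co0)) p100).ncard = 100 := by rw [horb, orb_hs]
    have h2 := (stabilizer (Subgroup.closure ({x11, u5, vh} : Set Co0)) p100).card_mul_index
    rw [MulAction.index_stabilizer, h1] at h2
    rw [← h2, mul_comm]
  have h7 : 7 ∣ Nat.card (stabilizer (Subgroup.closure ({x11, u5, vh} : Set Co0)) p100) := by
    have h1 : 7 ∣ Nat.card (Subgroup.closure ({x11, u5, vh} : Set Co0)) :=
      dvd_of_order (Subgroup.mul_mem _ mY mG) ord7_hs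
    rw [hcH] at h1
    exact Nat.Coprime.dvd_of_dvd_mul_left (by norm_num) h1
  have h3 : 3 ∣ Nat.card (stabilizer (Subgroup.closure ({x11, u5, vh} : Set Co0)) p100) := by
    have h1 : 3 ∣ Nat.card (Subgroup.closure ({x11, u5, vh} : Set Co0)) :=
      dvd_of_order (Subgroup.pow_mem _ (Subgroup.mul_mem _ (Subgroup.mul_mem _ (Subgroup.pow_mem _ mY _)
        (Subgroup.pow_mem _ mU _)) (Subgroup.pow_mem _ mG _)) _) ord3_hs
    rw [hcH] at h1
    exact Nat.Coprime.dvd_of_dvd_mul_left (by norm_num) h1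
  refine gen_core (simple_hs card_hs) vh_mem y_hs u_hs (n := 100) (by norm_num) (by rw [card_hs]) (by
    rw [card_hs]; decide) (by rw [card_hs]; norm_num) (fun c hc h => norm_hs hc h) norm_p100 orb_hs hge ?_ ?_ h3 h7
  · rw [p100_eq, co0_neg, x11_fix_U]
  · rw [p100_eq, co0_neg, u5_fix_U]

end Cfsg.Agent.H90.Co
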