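import Cfsg.Agent.H90.CoHS

/-!
# The outer automorphism group of `HS` has order 2 (owner: helper90)
-/

set_option autoImplicit false

namespace Cfsg.Agent.H90.Co

open Cfsg Cfsg.Agent.Golay Cfsg.Agent.LeechSimple Cfsg.Agent.Leech MulAction
open scoped Pointwise

/-- conjugation by an element normalising a subgroup -/
def conjAut {G : Type*} [Group G] (N : Subgroup G) (g : G) (h : ∀ x ∈ N, g * x * g⁻¹ ∈ N)
    (h' : ∀ x ∈ N, g⁻¹ * x * g ∈ N) : MulAut N where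
  toFun x := ⟨g * x * g⁻¹, h x x.2⟩
  invFun x := ⟨g⁻¹ * x * g, h' x x.2⟩
  left_inv x := Subtype.ext (by show g⁻¹ * (g * (x : G) * g⁻¹) * g = x; group)
  right_inv x := Subtype.ext (by show g * (g⁻¹ * (x : G) * g) * g⁻¹ = x; group)
  map_mul' x y := Subtype.ext (by
    show g * ((x : G) * y) * g⁻¹ = (g * x * g⁻¹) * (g * y * g⁻¹)
    group)

theorem conjAut_apply {G : Type*} [Group G] (N : Subgroup G) (g : G) (h : ∀ x ∈ N, g * x * g⁻¹ ∈ N)
    (h' : ∀ x ∈ N, g⁻¹ * x * g ∈ N) (x : N) : ((conjAut N g h h' x : N) : G) = g * x * g⁻¹ := rfl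

theorem pp_V : pp • Spor.leechV = Spor.leechV + Spor.leechU' := by
  apply Subtype.ext
  funext p
  show ((piHom ⟨projInv, projInv_mem⟩ • Spor.leechV : leechLattice) : GolayPt → ℤ) p = _
  rw [piHom_apply, AddSubgroup.coe_add, Pi.add_apply, cV_eq, cU'_eq]
  revert p
  decide +kernel

theorem pp_U' : pp • Spor.leechU' = -Spor.leechU' := by
  apply Subtype.ext
  funext p
  show ((piHom ⟨projInv, projInv_mem⟩ • Spor.leechU' : leechLattice) : GolayPt → ℤ) p = _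
  rw [piHom_apply, AddSubgroup.coe_neg, Pi.neg_apply, cU'_eq]
  revert p
  decide +kernel

theorem ppi_U' : pp⁻¹ • Spor.leechU' = -Spor.leechU' := by
  rw [inv_smul_eq_iff, co0_neg, pp_U', neg_neg]

theorem ppi_V : pp⁻¹ • Spor.leechV = Spor.leechV + Spor.leechU' := by
  rw [inv_smul_eq_iff, co0_add, pp_V, pp_U', add_neg_cancel_right]

theorem pp_norm {x : Co0} (hx : x ∈ hsSub) : pp * x * pp⁻¹ ∈ hsSub := by
  have h1 : x • Spor.leechV = Spor.leechV := hx.1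
  have h2 : x • Spor.leechU' = Spor.leechU' := hx.2
  constructor
  · show (pp * x * pp⁻¹) • Spor.leechV = Spor.leechV
    rw [mul_smul, mul_smul, ppi_V, co0_add, h1, h2, ← ppi_V, smul_inv_smul]
  · show (pp * x * pp⁻¹) • Spor.leechU' = Spor.leechU'
    rw [mul_smul, mul_smul, ppi_U', co0_neg, h2, ← ppi_U', smul_inv_smul]

theorem ppi_norm {x : Co0} (hx : x ∈ hsSub) : pp⁻¹ * x * pp ∈ hsSub := by
  have h1 : x • Spor.leechV = Spor.leechV := hx.1
  have h2 : x • Spor.leechU' = Spor.leechU' := hx.2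
  constructor
  · show (pp⁻¹ * x * pp) • Spor.leechV = Spor.leechV
    rw [mul_smul, mul_smul, pp_V, co0_add, h1, h2, ← pp_V, inv_smul_smul]
  · show (pp⁻¹ * x * pp) • Spor.leechU' = Spor.leechU'
    rw [mul_smul, mul_smul, pp_U', co0_neg, h2, ← pp_U', inv_smul_smul]

/-- the outer automorphism -/
noncomputable def tauHS : MulAut hsSub := conjAut hsSub pp (fun _ => pp_norm) (fun _ => ppi_norm)

theorem tauHS_notInn : tauHS ∉ Inn hsSub := by
  rintro ⟨h, hh⟩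
  have h1 := DFunLike.congr_fun hh (⟨x11, y_hs⟩ : hsSub)
  have h2 : (h : Co0) * x11 * (h : Co0)⁻¹ = pp * x11 * pp⁻¹ := congrArg Subtype.val h1
  rw [pp_x11] at h2
  obtain ⟨i, j, hij⟩ := norm_hs h.2 (mem_zpow h2)
  have h3 := k_mul (s := x11 ^ i) (k := 1) (by group) (u5_pow_x11 j)
  rw [← hij, one_mul, h2] at h3
  have h4 := x11_pow_inj h3
  have := four_pow j
  omega

theorem out_hs : Nat.card (Out hsSub) = 2 := by
  have hy : orderOf (⟨x11, y_hs⟩ : hsSub) = 11 := by rw [Subgroup.orderOf_mk, orderOf_x11]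
  apply Rig.out_two (gen_sub vh_mem y_hs u_hs gen_hs) (τ := tauHS) (hτ := tauHS_notInn)
    (y' := (⟨x11, y_hs⟩ : hsSub) ^ 10) (u' := ⟨u5, u_hs⟩) (v' := (⟨u5, u_hs⟩ : hsSub) ^ 0 * (⟨vh, vh_mem⟩ : hsSub) ^ 4)
  intro α
  refine Rig.adj hy (by rw [card_hs]; norm_num) ?_ (Subtype.ext u5_x11) (Subtype.ext u5_pow) (Subtype.ext vh_u) ?_
    10 0 4 ?_ α
  · intro g hg
    obtain ⟨k, hk⟩ := hg
    obtain ⟨i, j, hij⟩ := norm_hs g.2 ⟨k, congrArg Subtype.val hk⟩
    exact ⟨i, j, Subtype.ext hij⟩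
  · intro c hc
    obtain ⟨i, hi, j, hj, hij⟩ := cent_hs c.2 (congrArg Subtype.val hc)
    exact ⟨i, hi, j, hj, Subtype.ext hij⟩
  · intro β k i j hk hi hj h1 _ h3
    have hr : ((⟨x11, y_hs⟩ : hsSub) * ⟨vh, vh_mem⟩) ^ 7 = 1 := Subtype.ext rel_hs
    have h4 := congrArg β hr
    rw [map_pow, map_mul, map_one, h1, h3] at h4
    exact rel_hs_cases hk hi hj (congrArg Subtype.val h4)

end Cfsg.Agent.H90.Co
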