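import Cfsg.Agent.H90.CoM23
import Cfsg.Agent.H90.CoData

/-!
# The normaliser of a subgroup of order 11 in `Co3`, `Co2`, `Co0` (owner: helper90)
-/

set_option autoImplicit false

namespace Cfsg.Agent.H90.Co

open Cfsg Cfsg.Agent.Golay Cfsg.Agent.LeechSimple Cfsg.Agent.Leech MulAction
open scoped Pointwise

/-- the element of order 5 -/
noncomputable def u5 : Co0 := piHom ⟨uPerm, u_mem⟩
/-- the involution of `Co3` commuting with `x11` -/
noncomputable def tt : Co0 := matElt mtR mtC mtM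
/-- the element of order 10 of `Co2` -/
noncomputable def zz : Co0 := matElt mzR mzC mzM
/-- the sign change on a dodecad -/
noncomputable def ee : Co0 := matElt meR meC meM

/-- the generators -/
noncomputable def gs : ℕ → Co0
  | 0 => x23
  | 1 => x11
  | 2 => u5
  | 3 => tt
  | 4 => zz
  | 5 => ee
  | _ => negElt

/-- their packed matrices -/
def qs : List (List ℕ × ℕ) := [(mxQ, mxK), (myQ, myK), (muQ, muK), (mtQ, mtK), (mzQ, mzK), (meQ, meK), (mnQ, mnK)]

theorem mx_eq : matElt mxR mxC mxM = x23 :=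
  matElt_perm mxM (f := fun i => match Nat.beq i 23 with | true => 23 | false => Nat.mod (i + 1) 23)
    (by decide +kernel) shift_mem (by decide +kernel)

theorem my_eq : matElt myR myC myM = x11 :=
  matElt_perm myM (f := fun i => match Nat.beq i 23 with | true => 23 | false => Nat.mod (2 * i) 23)
    (by decide +kernel) dbl_mem (by decide +kernel)

theorem mu_eq : matElt muR muC muM = u5 :=
  matElt_perm muM (f := fun i => papp uTab i) (by decide +kernel) u_mem (by
    intro i hi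
    rw [u_table, idx_pt hi])

/-- diagonal matrices -/
def diagChk (R : List ℕ) (m : ℕ) : Bool :=
  allK (fun i => allK (fun j => Nat.beq (dg (R.getD i 0) j)
    (match Nat.beq j i with | true => (match Nat.testBit m i with | true => 8 | false => 24) | false => 16)) 24) 24

theorem matElt_diag {R C : List ℕ} (hM : matOK R C = true) {m : ℕ} (hR : diagChk R m = true) (x : leechLattice)
    (p : GolayPt) : ((matElt R C hM • x : leechLattice) : GolayPt → ℤ) p =
      (if m.testBit (idx p) = true then -1 else 1) * (x : GolayPt → ℤ) p := by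
  have h1 := matElt_apply R C hM x p
  have h2 : act8 R x p = 8 * ((if m.testBit (idx p) = true then -1 else 1) * (x : GolayPt → ℤ) p) := by
    unfold act8
    rw [Finset.sum_eq_single (idx p)]
    · rw [pt_idx]
      have h3 := Nat.eq_of_beq_eq_true (allK_iff.1 (allK_iff.1 hR _ (idx_lt p)) _ (idx_lt p))
      rw [Nat.beq_refl] at h3
      unfold matA
      cases h4 : m.testBit (idx p) with
      | true => rw [h4] at h3; rw [h3, if_pos rfl]; norm_num; ring
      | false => rw [h4] at h3; rw [h3, if_neg (by decide)]; norm_num; ring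
    · intro i hi hne
      have hi' := Finset.mem_range.1 hi
      have h3 := Nat.eq_of_beq_eq_true (allK_iff.1 (allK_iff.1 hR _ hi') _ (idx_lt p))
      have h4 : Nat.beq (idx p) i = false := by
        cases h5 : Nat.beq (idx p) i with
        | false => rfl
        | true => exact absurd (Nat.eq_of_beq_eq_true h5).symm hne
      rw [h4] at h3
      unfold matA
      rw [h3]
      norm_num
    · intro h; exact absurd (Finset.mem_range.2 (idx_lt _)) h
  omega

theorem mn_eq : matElt mnR mnC mnM = negElt := by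
  apply co0_ext
  intro x
  apply Subtype.ext
  funext p
  rw [matElt_diag mnM (m := 16777215) (by decide +kernel), testBit_fullMask, if_pos rfl, negElt_smul]
  show -1 * (x : GolayPt → ℤ) p = -(x : GolayPt → ℤ) p
  ring

/-- the dodecad -/
def dodM : ℕ := 340831

theorem ee_apply (x : leechLattice) (p : GolayPt) : ((ee • x : leechLattice) : GolayPt → ℤ) p =
      (if dodM.testBit (idx p) = true then -1 else 1) * (x : GolayPt → ℤ) p :=
  matElt_diag meM (m := dodM) (by decide +kernel) x p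

theorem act_gs : ∀ i < 7, Act (gs i) (qs.getD i ([], 0)) := by
  intro i hi
  interval_cases i
  · show Act x23 (mxQ, mxK); rw [← mx_eq]; exact act_mat mxM mxP
  · show Act x11 (myQ, myK); rw [← my_eq]; exact act_mat myM myP
  · show Act u5 (muQ, muK); rw [← mu_eq]; exact act_mat muM muP
  · exact act_mat mtM mtP
  · exact act_mat mzM mzP
  · exact act_mat meM meP
  · show Act negElt (mnQ, mnK); rw [← mn_eq]; exact act_mat mnM mnP

/-- all letters are less than 7 -/
def okW (w : List ℕ) : Bool := w.all (fun i => Nat.blt i 7)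

theorem act_of_ok {w : List ℕ} (h : okW w = true) : ∀ i ∈ w, Act (gs i) (qs.getD i ([], 0)) := by
  intro i hi
  have := List.all_eq_true.1 h i hi
  rw [Nat.blt_eq] at this
  exact act_gs i this

theorem eq_wd (w w' : List ℕ) (h1 : okW w = true) (h2 : okW w' = true) (h : eqW qs w w' = true) :
    wd gs w = wd gs w' := eq_of_eqW (act_of_ok h1) (act_of_ok h2) h

/-- code of `(-3, 1^23)`-like test vector: `4 e_0 + 4 e_1` -/
def c0 : ℕ := basP 1

theorem ne_wd (w : List ℕ) (h1 : okW w = true) (h : neW qs w c0 = true) : wd gs w ≠ 1 :=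
  ne_of_neW (act_of_ok h1) (basP_lt 1 (by norm_num)) (basP_test 1 (by norm_num) (by norm_num))
    (by
      have h2 := norm_vP 1 (by norm_num)
      change sqNorm (vecOf (basP 1)) = 32 at h2
      rw [h2]; norm_num) h

/-! ### Vectors fixed by `x11` -/

theorem ext11 {y y' : leechLattice} (h : x11 • y = y) (h' : x11 • y' = y')
    (h0 : (y : GolayPt → ℤ) none = (y' : GolayPt → ℤ) none)
    (h1 : (y : GolayPt → ℤ) (some 0) = (y' : GolayPt → ℤ) (some 0))
    (h2 : (y : GolayPt → ℤ) (some 1) = (y' : GolayPt → ℤ) (some 1))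
    (h3 : (y : GolayPt → ℤ) (some 22) = (y' : GolayPt → ℤ) (some 22)) : y = y' := by
  obtain ⟨hS, hT⟩ := fix11 h
  obtain ⟨hS', hT'⟩ := fix11 h'
  apply Subtype.ext
  funext j
  cases j with
  | none => exact h0
  | some z =>
    have hz : z ∈ insert (0 : ZMod 23) (sqS ∪ sqT) := by rw [← univ_eq]; exact Finset.mem_univ z
    rw [Finset.mem_insert, Finset.mem_union] at hz
    rcases hz with rfl | hz | hz
    · exact h1
    · rw [hS z hz, hS' z hz, h2]
    · rw [hT z hz, hT' z hz, h3]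

/-- dot product of two vectors fixed by `x11` -/
theorem dot11 {y y' : leechLattice} (h : x11 • y = y) (h' : x11 • y' = y') :
    dotInt (y : GolayPt → ℤ) (y' : GolayPt → ℤ) = (y : GolayPt → ℤ) none * (y' : GolayPt → ℤ) none +
      ((y : GolayPt → ℤ) (some 0) * (y' : GolayPt → ℤ) (some 0) +
      (11 * ((y : GolayPt → ℤ) (some 1) * (y' : GolayPt → ℤ) (some 1)) +
        11 * ((y : GolayPt → ℤ) (some 22) * (y' : GolayPt → ℤ) (some 22)))) := by
  obtain ⟨hS, hT⟩ := fix11 h
  obtain ⟨hS', hT'⟩ := fix11 h'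
  unfold dotInt
  rw [Fintype.sum_option]
  have := sum_blocks (fun z => (y : GolayPt → ℤ) (some z) * (y' : GolayPt → ℤ) (some z))
    ((y : GolayPt → ℤ) (some 1) * (y' : GolayPt → ℤ) (some 1)) ((y : GolayPt → ℤ) (some 22) * (y' : GolayPt → ℤ) (some 22))
    (fun z hz => by rw [hS z hz, hS' z hz]) (fun z hz => by rw [hT z hz, hT' z hz])
  rw [this]

/-- a vector of the fixed lattice of `x11`, given by its code -/
theorem fixed_of {c : ℕ} (hv : leechTest (vecOf c) = true)
    (h : ∀ z : ZMod 23, vecOf c (some (2 * z)) = vecOf c (some z)) :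
    x11 • (⟨vecOf c, mem_of_test hv⟩ : leechLattice) = ⟨vecOf c, mem_of_test hv⟩ := by
  apply Subtype.ext
  funext p
  show vecOf c (dblPerm.symm p) = vecOf c p
  cases p with
  | none => rfl
  | some z =>
    have h1 : dblPerm.symm (some z) = some (12 * z) := by
      rw [Equiv.symm_apply_eq]
      show some z = some (2 * (12 * z))
      congr 1
      rw [← mul_assoc]
      have : (2 * 12 : ZMod 23) = 1 := by decide
      rw [this, one_mul]
    rw [h1]
    have h2 := h (12 * z)
    rw [← mul_assoc] at h2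
    have h3 : (2 * 12 : ZMod 23) = 1 := by decide
    rw [h3, one_mul] at h2
    exact h2.symm

/-- code of the vector `(0, 2, 2, 0)` -/
def cr1 : ℕ := 0x8421084a12842528425284a1294a52
/-- code of the vector `(2, 0, 0, 2)` -/
def cr2 : ℕ := 0x94a529425094a1094a109425084210
/-- code of the vector `(4, 4, 0, 0)` -/
def cr3 : ℕ := 0xa42108421084210842108421084214

/-- code of the vector `(3, -1, -1, -1)` -/
def cr4 : ℕ := 0x9bdef7bdef7bdef7bdef7bdef7bdef

theorem cr1_test : leechTest (vecOf cr1) = true := by decide +kernel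
theorem cr2_test : leechTest (vecOf cr2) = true := by decide +kernel
theorem cr3_test : leechTest (vecOf cr3) = true := by decide +kernel
theorem cr4_test : leechTest (vecOf cr4) = true := by decide +kernel

def r1 : leechLattice := ⟨vecOf cr1, mem_of_test cr1_test⟩
def r2 : leechLattice := ⟨vecOf cr2, mem_of_test cr2_test⟩
def r3 : leechLattice := ⟨vecOf cr3, mem_of_test cr3_test⟩
def r4 : leechLattice := ⟨vecOf cr4, mem_of_test cr4_test⟩

theorem r1_fix : x11 • r1 = r1 := fixed_of cr1_test (by decide +kernel)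
theorem r2_fix : x11 • r2 = r2 := fixed_of cr2_test (by decide +kernel)
theorem r3_fix : x11 • r3 = r3 := fixed_of cr3_test (by decide +kernel)
theorem r4_fix : x11 • r4 = r4 := fixed_of cr4_test (by decide +kernel)

theorem r1_val : (r1 : GolayPt → ℤ) none = 0 ∧ (r1 : GolayPt → ℤ) (some 0) = 2 ∧ (r1 : GolayPt → ℤ) (some 1) = 2 ∧
    (r1 : GolayPt → ℤ) (some 22) = 0 := by decide +kernel
theorem r2_val : (r2 : GolayPt → ℤ) none = 2 ∧ (r2 : GolayPt → ℤ) (some 0) = 0 ∧ (r2 : GolayPt → ℤ) (some 1) = 0 ∧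
    (r2 : GolayPt → ℤ) (some 22) = 2 := by decide +kernel
theorem r3_val : (r3 : GolayPt → ℤ) none = 4 ∧ (r3 : GolayPt → ℤ) (some 0) = 4 ∧ (r3 : GolayPt → ℤ) (some 1) = 0 ∧
    (r3 : GolayPt → ℤ) (some 22) = 0 := by decide +kernel

theorem r4_val : (r4 : GolayPt → ℤ) none = 3 ∧ (r4 : GolayPt → ℤ) (some 0) = -1 ∧ (r4 : GolayPt → ℤ) (some 1) = -1 ∧
    (r4 : GolayPt → ℤ) (some 22) = -1 := by decide +kernel

/-- congruences for the vectors fixed by `x11` -/
theorem cong11 {y : leechLattice} (h : x11 • y = y) :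
    (8 : ℤ) ∣ 2 * (y : GolayPt → ℤ) (some 0) + 22 * (y : GolayPt → ℤ) (some 1) ∧
    (8 : ℤ) ∣ 2 * (y : GolayPt → ℤ) none + 22 * (y : GolayPt → ℤ) (some 22) ∧
    (8 : ℤ) ∣ 4 * (y : GolayPt → ℤ) none + 4 * (y : GolayPt → ℤ) (some 0) ∧
    (8 : ℤ) ∣ 3 * (y : GolayPt → ℤ) none - (y : GolayPt → ℤ) (some 0) - 11 * (y : GolayPt → ℤ) (some 1) -
      11 * (y : GolayPt → ℤ) (some 22) := by
  obtain ⟨e1, e2, e3, e4⟩ := r4_val
  have h4 := eight_dvd_dotInt r4.2 y.2
  rw [dot11 r4_fix h, e1, e2, e3, e4] at h4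
  obtain ⟨a1, a2, a3, a4⟩ := r1_val
  obtain ⟨b1, b2, b3, b4⟩ := r2_val
  obtain ⟨d1, d2, d3, d4⟩ := r3_val
  have h1 := eight_dvd_dotInt r1.2 y.2
  have h2 := eight_dvd_dotInt r2.2 y.2
  have h3 := eight_dvd_dotInt r3.2 y.2
  rw [dot11 r1_fix h, a1, a2, a3, a4] at h1
  rw [dot11 r2_fix h, b1, b2, b3, b4] at h2
  rw [dot11 r3_fix h, d1, d2, d3, d4] at h3
  refine ⟨?_, ?_, ?_, ?_⟩
  · convert h1 using 1; ring
  · convert h2 using 1; ring
  · convert h3 using 1; ring
  · convert h4 using 1; ring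

/-- all the solutions for the norm 64 -/
def sol64 : List (ℤ × ℤ × ℤ × ℤ) := [(8, 0, 0, 0), (-8, 0, 0, 0), (4, -2, 2, 0), (-4, 2, -2, 0), (4, 2, -2, 0),
  (-4, -2, 2, 0), (0, 8, 0, 0), (0, -8, 0, 0), (2, 4, 0, -2), (-2, -4, 0, 2), (2, -4, 0, -2), (-2, 4, 0, 2)]

def chk64 : Bool := (List.range 17).all fun a => (List.range 17).all fun b => (List.range 5).all fun c =>
  (List.range 5).all fun d =>
    !(decide (((a : ℤ) - 8) ^ 2 + ((b : ℤ) - 8) ^ 2 + 11 * ((c : ℤ) - 2) ^ 2 + 11 * ((d : ℤ) - 2) ^ 2 = 64) &&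
      decide ((2 * ((b : ℤ) - 8) + 22 * ((c : ℤ) - 2)) % 8 = 0) && decide ((2 * ((a : ℤ) - 8) + 22 * ((d : ℤ) - 2)) % 8 = 0) &&
      decide ((4 * ((a : ℤ) - 8) + 4 * ((b : ℤ) - 8)) % 8 = 0) &&
      decide ((3 * ((a : ℤ) - 8) - ((b : ℤ) - 8) - 11 * ((c : ℤ) - 2) - 11 * ((d : ℤ) - 2)) % 8 = 0)) ||
      sol64.any (fun s => decide (s = ((a : ℤ) - 8, (b : ℤ) - 8, (c : ℤ) - 2, (d : ℤ) - 2)))

theorem chk64_ok : chk64 = true := by decide +kernel

theorem solve64 {y : leechLattice} (h : x11 • y = y) (hn : sqNorm (y : GolayPt → ℤ) = 64) :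
    ((y : GolayPt → ℤ) none, (y : GolayPt → ℤ) (some 0), (y : GolayPt → ℤ) (some 1), (y : GolayPt → ℤ) (some 22)) ∈ sol64 := by
  obtain ⟨h1, h2, h3, h3'⟩ := cong11 h
  obtain ⟨d1, -⟩ := data11 h
  rw [hn] at d1
  set a := (y : GolayPt → ℤ) none
  set b := (y : GolayPt → ℤ) (some 0)
  set c := (y : GolayPt → ℤ) (some 1)
  set d := (y : GolayPt → ℤ) (some 22)
  have ha : -8 ≤ a ∧ a ≤ 8 := by constructor <;> nlinarith [sq_nonneg b, sq_nonneg c, sq_nonneg d]
  have hb : -8 ≤ b ∧ b ≤ 8 := by constructor <;> nlinarith [sq_nonneg a, sq_nonneg c, sq_nonneg d]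
  have hc : -2 ≤ c ∧ c ≤ 2 := by constructor <;> nlinarith [sq_nonneg b, sq_nonneg a, sq_nonneg d]
  have hd : -2 ≤ d ∧ d ≤ 2 := by constructor <;> nlinarith [sq_nonneg b, sq_nonneg c, sq_nonneg a]
  obtain ⟨a', ha'⟩ : ∃ a' : ℕ, (a' : ℤ) = a + 8 := ⟨(a + 8).toNat, by omega⟩
  obtain ⟨b', hb'⟩ : ∃ b' : ℕ, (b' : ℤ) = b + 8 := ⟨(b + 8).toNat, by omega⟩
  obtain ⟨c', hc'⟩ : ∃ c' : ℕ, (c' : ℤ) = c + 2 := ⟨(c + 2).toNat, by omega⟩
  obtain ⟨d', hd'⟩ : ∃ d' : ℕ, (d' : ℤ) = d + 2 := ⟨(d + 2).toNat, by omega⟩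
  have h4 := chk64_ok
  unfold chk64 at h4
  have h5 := List.all_eq_true.1 (List.all_eq_true.1 (List.all_eq_true.1 (List.all_eq_true.1 h4 a' (List.mem_range.2 (by omega)))
    b' (List.mem_range.2 (by omega))) c' (List.mem_range.2 (by omega))) d' (List.mem_range.2 (by omega))
  have e1 : (a' : ℤ) - 8 = a := by omega
  have e2 : (b' : ℤ) - 8 = b := by omega
  have e3 : (c' : ℤ) - 2 = c := by omega
  have e4 : (d' : ℤ) - 2 = d := by omega
  rw [e1, e2, e3, e4] at h5
  rw [Bool.or_eq_true] at h5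
  rcases h5 with h5 | h5
  · exfalso
    rw [Bool.not_eq_true', Bool.and_eq_false_iff, Bool.and_eq_false_iff, Bool.and_eq_false_iff,
      Bool.and_eq_false_iff] at h5
    rcases h5 with (((h5 | h5) | h5) | h5) | h5
    · rw [decide_eq_false_iff_not] at h5; apply h5; linarith
    · rw [decide_eq_false_iff_not] at h5; apply h5; omega
    · rw [decide_eq_false_iff_not] at h5; apply h5; omega
    · rw [decide_eq_false_iff_not] at h5; apply h5; omega
    · rw [decide_eq_false_iff_not] at h5; apply h5; omega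
  · obtain ⟨s, hs, hs2⟩ := List.any_eq_true.1 h5
    rw [decide_eq_true_eq] at hs2
    rw [← hs2]; exact hs

end Cfsg.Agent.H90.Co
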