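import Cfsg.Agent.H90.CoLoc
import Cfsg.Agent.Leech.McLDat

/-!
# The normaliser of a subgroup of order 11 in `Co3`, `Co2`, `Co0`, II (owner: helper90)
-/

set_option autoImplicit false

namespace Cfsg.Agent.H90.Co

open Cfsg Cfsg.Agent.Golay Cfsg.Agent.LeechSimple Cfsg.Agent.Leech MulAction
open scoped Pointwise

/-! ### Relations -/

theorem tt_sq : tt * tt = 1 := by simpa [wd, gs] using eq_wd [3, 3] [] (by decide) (by decide) (by decide +kernel)
theorem tt_x11 : tt * x11 = x11 * tt := by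
  simpa [wd, gs] using eq_wd [1, 3] [3, 1] (by decide) (by decide) (by decide +kernel)
theorem tt_u5 : tt * u5 = u5 * tt := by
  simpa [wd, gs] using eq_wd [2, 3] [3, 2] (by decide) (by decide) (by decide +kernel)
theorem zz_x11 : zz * x11 = x11 * (x11 * zz) := by
  simpa [wd, gs, mul_assoc] using eq_wd [1, 4] [4, 1, 1] (by decide) (by decide) (by decide +kernel)
theorem zz_sq : zz * zz = u5 := by
  simpa [wd, gs] using eq_wd [4, 4] [2] (by decide) (by decide) (by decide +kernel)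
theorem ee_x11 : ee * x11 = x11 * ee := by
  simpa [wd, gs] using eq_wd [1, 5] [5, 1] (by decide) (by decide) (by decide +kernel)
theorem ee_u5 : ee * u5 = u5 * ee := by
  simpa [wd, gs] using eq_wd [2, 5] [5, 2] (by decide) (by decide) (by decide +kernel)
theorem ee_sq : ee * ee = 1 := by simpa [wd, gs] using eq_wd [5, 5] [] (by decide) (by decide) (by decide +kernel)
theorem et_cube : ee * (tt * (ee * (tt * (ee * tt)))) = negElt := by
  simpa [wd, gs, mul_assoc] using eq_wd [3, 5, 3, 5, 3, 5] [6] (by decide) (by decide) (by decide +kernel)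

theorem u5_x11 : u5 * x11 * u5⁻¹ = x11 ^ 4 := by
  show piHom _ * piHom _ * (piHom _)⁻¹ = piHom _ ^ 4
  rw [← map_mul, ← map_inv, ← map_mul, ← map_pow]
  congr 1
  exact Subtype.ext u_dbl

theorem u5_pow : u5 ^ 5 = 1 := by
  show piHom _ ^ 5 = 1
  rw [← map_pow]
  have : (⟨uPerm, u_mem⟩ : M24) ^ 5 = 1 := Subtype.ext u_pow_five
  rw [this, map_one]

theorem x11_x23 : x11 * x23 * x11⁻¹ = x23 ^ 2 := by
  show piHom _ * piHom _ * (piHom _)⁻¹ = piHom _ ^ 2
  rw [← map_mul, ← map_inv, ← map_mul, ← map_pow]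
  congr 1
  exact Subtype.ext dbl_shift

/-! ### Images of `8 e_∞` -/

theorem mat_e8 {R C : List ℕ} (hM : matOK R C = true) (p : GolayPt) :
    ((matElt R C hM • e8 none : leechLattice) : GolayPt → ℤ) p = matA R 23 (idx p) := by
  have h1 := matElt_apply R C hM (e8 none) p
  have h2 : act8 R (e8 none : GolayPt → ℤ) p = 8 * matA R 23 (idx p) := act8_single R (i := 23) (by norm_num) 8 p
  omega

theorem tt_V : tt • Spor.leechV = Spor.leechV :=
  fix_of mtM mtP (c := cV) (by decide +kernel) cV_eq (by rw [norm_leechV]) (by decide +kernel)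

theorem w32_code : (w32 : GolayPt → ℤ) = vecOf cr4 := by
  funext p
  show (Spor.leechV : GolayPt → ℤ) p + (e8 none : GolayPt → ℤ) p = _
  rw [vecV_apply, e8_apply]
  revert p
  decide +kernel

theorem zz_w32 : zz • w32 = w32 :=
  fix_of mzM mzP (c := cr4) (by decide +kernel) w32_code (by rw [norm_w32]; norm_num) (by decide +kernel)

/-- the involution of `M24` that inverts `x11` -/
def pp : Co0 := piHom ⟨projInv, projInv_mem⟩

theorem pp_x11 : pp * x11 * pp⁻¹ = x11 ^ 10 := by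
  show piHom _ * piHom _ * (piHom _)⁻¹ = piHom _ ^ 10
  rw [← map_mul, ← map_inv, ← map_mul, ← map_pow]
  congr 1
  apply Subtype.ext
  show projInv * dblPerm * projInv⁻¹ = dblPerm ^ 10
  rw [mul_inv_eq_iff_eq_mul]
  exact eq_perm_of_tab (isTable_pmul isTable_projInv dbl_table)
    (isTable_pmul (isTable_pow dbl_table 10) isTable_projInv) (by decide +kernel)

theorem tt_e8 : ((tt • e8 none : leechLattice) : GolayPt → ℤ) none = 4 ∧ ((tt • e8 none : leechLattice) : GolayPt → ℤ) (some 0) = -2 ∧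
    ((tt • e8 none : leechLattice) : GolayPt → ℤ) (some 1) = 2 ∧ ((tt • e8 none : leechLattice) : GolayPt → ℤ) (some 22) = 0 := by
  unfold tt
  rw [mat_e8, mat_e8, mat_e8, mat_e8]
  decide +kernel

theorem zz_e8 : ((zz • e8 none : leechLattice) : GolayPt → ℤ) none = 2 ∧ ((zz • e8 none : leechLattice) : GolayPt → ℤ) (some 0) = 4 ∧
    ((zz • e8 none : leechLattice) : GolayPt → ℤ) (some 1) = 0 ∧ ((zz • e8 none : leechLattice) : GolayPt → ℤ) (some 22) = -2 := by
  unfold zz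
  rw [mat_e8, mat_e8, mat_e8, mat_e8]
  decide +kernel

theorem pp_e8 : pp • e8 none = e8 (some 0) := by
  apply Subtype.ext
  funext p
  show ((piHom ⟨projInv, projInv_mem⟩ • e8 none : leechLattice) : GolayPt → ℤ) p = _
  rw [piHom_apply, e8_apply, e8_apply]
  revert p
  decide +kernel

theorem x11_pow_11 : x11 ^ 11 = 1 := by rw [← orderOf_x11]; exact pow_orderOf_eq_one _

theorem x11_pow_inj {a b : ℕ} (h : x11 ^ a = x11 ^ b) : a % 11 = b % 11 := by
  have := (pow_inj_mod (x := x11)).1 h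
  rwa [orderOf_x11] at this

theorem x11_pow_mod (a : ℕ) : x11 ^ a = x11 ^ (a % 11) := by
  conv_lhs => rw [← Nat.div_add_mod a 11, pow_add, pow_mul, x11_pow_11, one_pow, one_mul]

theorem exists_inv_mod : ∀ k < 11, k ≠ 0 → ∃ l < 11, (k * l) % 11 = 1 := by decide

theorem mem_zpow {s : Co0} {k : ℕ} (h : s * x11 * s⁻¹ = x11 ^ k) : s * x11 * s⁻¹ ∈ Subgroup.zpowers x11 := by
  rw [h]; exact Subgroup.pow_mem _ (Subgroup.mem_zpowers _) _

/-- from a member of `⟨x11⟩` to a power -/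
theorem exists_pow {s : Co0} (h : s * x11 * s⁻¹ ∈ Subgroup.zpowers x11) : ∃ k < 11, k ≠ 0 ∧ s * x11 * s⁻¹ = x11 ^ k := by
  obtain ⟨k, hk⟩ := h
  have hk' : x11 ^ k = s * x11 * s⁻¹ := hk
  refine ⟨(k % 11).toNat, by omega, ?_, ?_⟩
  · intro h0
    have h1 : (11 : ℤ) ∣ k := by omega
    obtain ⟨m, hm⟩ := h1
    have h2 : x11 ^ (11 : ℤ) = 1 := x11_pow_11
    rw [hm, zpow_mul, h2, one_zpow] at hk'
    have h3 : x11 = 1 := by
      have := hk'.symm
      rwa [mul_inv_eq_one, mul_eq_left] at this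
    have h4 := orderOf_x11
    rw [h3, orderOf_one] at h4
    norm_num at h4
  · rw [← hk', ← zpow_natCast, Int.toNat_of_nonneg (by omega)]
    have h2 : x11 ^ (11 : ℤ) = 1 := x11_pow_11
    conv_lhs => rw [← Int.mul_ediv_add_emod k 11, zpow_add, zpow_mul, h2, one_zpow, one_mul]

theorem conj_fix {g y : Co0} {v : leechLattice} (hy : y • v = v) (s : Co0) (h : g = s * y * s⁻¹) : g • (s • v) = s • v := by
  rw [h, mul_smul, mul_smul, inv_smul_smul, hy]

/-- `s` carries fixed vectors of `x11` to fixed vectors of `x11` if it normalises `⟨x11⟩` -/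
theorem fix_smul {s : Co0} {k : ℕ} (hk : k < 11) (hk0 : k ≠ 0) (h : s * x11 * s⁻¹ = x11 ^ k) {y : leechLattice}
    (hy : x11 • y = y) : x11 • (s • y) = s • y := by
  obtain ⟨l, -, hl⟩ := exists_inv_mod k hk hk0
  have h0 : s * x11 ^ l * s⁻¹ = x11 := by
    rw [← conj_pow, h, ← pow_mul, x11_pow_mod, hl, pow_one]
  have h2 : ∀ n : ℕ, x11 ^ n • y = y := by
    intro n
    induction n with
    | zero => rw [pow_zero, one_smul]
    | succ n ih => rw [pow_succ, mul_smul, hy, ih]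
  exact conj_fix (h2 l) s h0.symm

/-- Elements of `M23'` normalising `⟨x11⟩`. -/
theorem m23_norm {g : Co0} (he : g • e8 none = e8 none) (hV : g • Spor.leechV = Spor.leechV) {k : ℕ} (hk : k < 11)
    (hk0 : k ≠ 0) (h : g * x11 * g⁻¹ = x11 ^ k) : ∃ i j : ℕ, g = x11 ^ i * u5 ^ j := by
  obtain ⟨σ, hσ, rfl⟩ := perm_of_fix he hV
  have h1 : (σ : Equiv.Perm GolayPt) * dblPerm * (σ : Equiv.Perm GolayPt)⁻¹ = dblPerm ^ k := by
    change piHom _ * piHom _ * (piHom _)⁻¹ = piHom _ ^ k at h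
    rw [← map_mul, ← map_inv, ← map_mul, ← map_pow] at h
    have h2 := piHom_injective h
    exact congrArg Subtype.val h2
  obtain ⟨i, j, hij⟩ := norm_dbl σ.2 hσ hk hk0 h1
  refine ⟨i, j, ?_⟩
  show piHom σ = piHom _ ^ i * piHom _ ^ j
  rw [← map_pow, ← map_pow, ← map_mul]
  congr 1
  exact Subtype.ext hij

theorem conj_mul_eq {G : Type*} [Group G] {g s x a b : G} (h : s * x * s⁻¹ = a) (h' : g * a * g⁻¹ = b) :
    (g * s) * x * (g * s)⁻¹ = b := by
  rw [← h', ← h]; group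

theorem e8_val (p q : GolayPt) : (e8 p : GolayPt → ℤ) q = if q = p then 8 else 0 := e8_apply p q

theorem norm_smul_e8 (g : Co0) : sqNorm ((g • e8 none : leechLattice) : GolayPt → ℤ) = 64 := by
  rw [co0_norm, norm_e8]

/-- The centraliser/normaliser of `x11` in `Co3`. -/
theorem norm_co3 {g : Co0} (hV : g • Spor.leechV = Spor.leechV) (h : g * x11 * g⁻¹ ∈ Subgroup.zpowers x11) :
    ∃ i j : ℕ, g = x11 ^ i * u5 ^ j ∨ g = x11 ^ i * u5 ^ j * tt := by
  obtain ⟨k, hk, hk0, hgk⟩ := exists_pow h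
  have h1 := inv_fix h x11_fix_e8
  have h2 := solve64 h1 (norm_smul_e8 _)
  obtain ⟨-, d2, -, -⟩ := data11 h1
  have h3 : dotInt (Spor.leechV : GolayPt → ℤ) ((g⁻¹ • e8 none : leechLattice) : GolayPt → ℤ) = -40 := by
    have := co0_dot g⁻¹ Spor.leechV (e8 none)
    rw [inv_smul_of_fix hV, dot_V_e8] at this
    exact this
  rw [h3] at d2
  have h4 : (((g⁻¹ • e8 none : leechLattice) : GolayPt → ℤ) none = 8 ∧ ((g⁻¹ • e8 none : leechLattice) : GolayPt → ℤ) (some 0) = 0 ∧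
      ((g⁻¹ • e8 none : leechLattice) : GolayPt → ℤ) (some 1) = 0 ∧ ((g⁻¹ • e8 none : leechLattice) : GolayPt → ℤ) (some 22) = 0) ∨
      (((g⁻¹ • e8 none : leechLattice) : GolayPt → ℤ) none = 4 ∧ ((g⁻¹ • e8 none : leechLattice) : GolayPt → ℤ) (some 0) = -2 ∧
      ((g⁻¹ • e8 none : leechLattice) : GolayPt → ℤ) (some 1) = 2 ∧ ((g⁻¹ • e8 none : leechLattice) : GolayPt → ℤ) (some 22) = 0) := by
    simp only [sol64, List.mem_cons, Prod.mk.injEq, List.not_mem_nil, or_false] at h2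
    omega
  rcases h4 with ⟨a1, a2, a3, a4⟩ | ⟨a1, a2, a3, a4⟩
  · have h5 : g⁻¹ • e8 none = e8 none := eq_e8_of h1 a1 a2 a3 a4
    have h6 : g • e8 none = e8 none := by rw [inv_smul_eq_iff] at h5; exact h5.symm
    obtain ⟨i, j, hij⟩ := m23_norm h6 hV hk hk0 hgk
    exact ⟨i, j, Or.inl hij⟩
  · have ht : tt * x11 * tt⁻¹ = x11 ^ 1 := by rw [pow_one, mul_inv_eq_iff_eq_mul, tt_x11]
    have h5 : g⁻¹ • e8 none = tt • e8 none := by
      obtain ⟨b1, b2, b3, b4⟩ := tt_e8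
      exact ext11 h1 (fix_smul (by norm_num) (by norm_num) ht x11_fix_e8) (a1.trans b1.symm) (a2.trans b2.symm)
        (a3.trans b3.symm) (a4.trans b4.symm)
    have h6 : (g * tt) • e8 none = e8 none := by
      rw [mul_smul, ← h5, smul_inv_smul]
    have h7 : (g * tt) • Spor.leechV = Spor.leechV := by rw [mul_smul, tt_V, hV]
    have h8 : (g * tt) * x11 * (g * tt)⁻¹ = x11 ^ k := conj_mul_eq (ht.trans (pow_one _)) hgk
    obtain ⟨i, j, hij⟩ := m23_norm h6 h7 hk hk0 h8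
    exact ⟨i, j, Or.inr (by rw [← hij, mul_assoc, tt_sq, mul_one])⟩

/-- The normaliser of `x11` in `Co2`. -/
theorem norm_co2 {g : Co0} (hw : g • w32 = w32) (h : g * x11 * g⁻¹ ∈ Subgroup.zpowers x11) :
    ∃ i j : ℕ, g = x11 ^ i * u5 ^ j ∨ g = x11 ^ i * u5 ^ j * zz⁻¹ := by
  obtain ⟨k, hk, hk0, hgk⟩ := exists_pow h
  have h1 := inv_fix h x11_fix_e8
  have h2 := solve64 h1 (norm_smul_e8 _)
  have hVw : Spor.leechV = w32 - e8 none := by unfold w32; rw [add_sub_cancel_right]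
  have hw11 : x11 • w32 = w32 := by
    unfold w32
    rw [co0_add, x11_fix_e8]
    congr 1
    exact piHom_fix_V rfl
  have h3 : dotInt (w32 : GolayPt → ℤ) ((g⁻¹ • e8 none : leechLattice) : GolayPt → ℤ) = 24 := by
    have := co0_dot g⁻¹ w32 (e8 none)
    rw [inv_smul_of_fix hw, dot_w32_e8] at this
    exact this
  have h4' := dot11 hw11 h1
  rw [h3] at h4'
  have w1 : (w32 : GolayPt → ℤ) none = 3 := rfl
  have w2 : (w32 : GolayPt → ℤ) (some 0) = -1 := by decide +kernel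
  have w3 : (w32 : GolayPt → ℤ) (some 1) = -1 := by decide +kernel
  have w4 : (w32 : GolayPt → ℤ) (some 22) = -1 := by decide +kernel
  rw [w1, w2, w3, w4] at h4'
  have h4 : (((g⁻¹ • e8 none : leechLattice) : GolayPt → ℤ) none = 8 ∧ ((g⁻¹ • e8 none : leechLattice) : GolayPt → ℤ) (some 0) = 0 ∧
      ((g⁻¹ • e8 none : leechLattice) : GolayPt → ℤ) (some 1) = 0 ∧ ((g⁻¹ • e8 none : leechLattice) : GolayPt → ℤ) (some 22) = 0) ∨
      (((g⁻¹ • e8 none : leechLattice) : GolayPt → ℤ) none = 2 ∧ ((g⁻¹ • e8 none : leechLattice) : GolayPt → ℤ) (some 0) = 4 ∧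
      ((g⁻¹ • e8 none : leechLattice) : GolayPt → ℤ) (some 1) = 0 ∧ ((g⁻¹ • e8 none : leechLattice) : GolayPt → ℤ) (some 22) = -2) := by
    simp only [sol64, List.mem_cons, Prod.mk.injEq, List.not_mem_nil, or_false] at h2
    omega
  have zk : zz * x11 * zz⁻¹ = x11 ^ 2 := by rw [mul_inv_eq_iff_eq_mul, zz_x11, pow_two, mul_assoc]
  rcases h4 with ⟨a1, a2, a3, a4⟩ | ⟨a1, a2, a3, a4⟩
  · have h5 : g⁻¹ • e8 none = e8 none := eq_e8_of h1 a1 a2 a3 a4
    have h6 : g • e8 none = e8 none := by rw [inv_smul_eq_iff] at h5; exact h5.symm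
    have hV : g • Spor.leechV = Spor.leechV := by rw [hVw, co0_sub, hw, h6]
    obtain ⟨i, j, hij⟩ := m23_norm h6 hV hk hk0 hgk
    exact ⟨i, j, Or.inl hij⟩
  · have h5 : g⁻¹ • e8 none = zz • e8 none := by
      obtain ⟨b1, b2, b3, b4⟩ := zz_e8
      exact ext11 h1 (fix_smul (by norm_num) (by norm_num) zk x11_fix_e8) (a1.trans b1.symm) (a2.trans b2.symm)
        (a3.trans b3.symm) (a4.trans b4.symm)
    have h6 : (g * zz) • e8 none = e8 none := by
      rw [mul_smul, ← h5, smul_inv_smul]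
    have h6' : (g * zz) • w32 = w32 := by rw [mul_smul, zz_w32, hw]
    have h7 : (g * zz) • Spor.leechV = Spor.leechV := by rw [hVw, co0_sub, h6', h6]
    have h8 : (g * zz) * x11 * (g * zz)⁻¹ = x11 ^ (2 * k) := by
      apply conj_mul_eq zk
      rw [← conj_pow, hgk, ← pow_mul, mul_comm]
    rw [x11_pow_mod] at h8
    obtain ⟨i, j, hij⟩ := m23_norm h6 h7 (Nat.mod_lt _ (by norm_num)) (by omega) h8
    exact ⟨i, j, Or.inr (by rw [← hij, mul_inv_cancel_right])⟩

end Cfsg.Agent.H90.Co
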