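import Cfsg.Agent.H90.CoLoc2

/-!
# The centraliser of an element of order 11 in `Co0` (owner: helper90)
-/

set_option autoImplicit false

namespace Cfsg.Agent.H90.Co

open Cfsg Cfsg.Agent.Golay Cfsg.Agent.LeechSimple Cfsg.Agent.Leech MulAction
open scoped Pointwise

theorem x11_fix_V : x11 • Spor.leechV = Spor.leechV := piHom_fix_V rfl

theorem ee_none (x : leechLattice) : ((ee • x : leechLattice) : GolayPt → ℤ) none = (x : GolayPt → ℤ) none := by
  rw [ee_apply, if_neg (by decide +kernel), one_mul]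
theorem ee_zero (x : leechLattice) : ((ee • x : leechLattice) : GolayPt → ℤ) (some 0) = -(x : GolayPt → ℤ) (some 0) := by
  rw [ee_apply, if_pos (by decide +kernel)]; ring
theorem ee_one (x : leechLattice) : ((ee • x : leechLattice) : GolayPt → ℤ) (some 1) = -(x : GolayPt → ℤ) (some 1) := by
  rw [ee_apply, if_pos (by decide +kernel)]; ring
theorem ee_22 (x : leechLattice) : ((ee • x : leechLattice) : GolayPt → ℤ) (some 22) = (x : GolayPt → ℤ) (some 22) := by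
  rw [ee_apply, if_neg (by decide +kernel), one_mul]

theorem ee_e8 : ee • e8 none = e8 none := by
  apply Subtype.ext
  funext p
  rw [ee_apply, e8_apply]
  revert p
  decide +kernel

theorem ee_k : ee * x11 * ee⁻¹ = x11 ^ 1 := by rw [pow_one, mul_inv_eq_iff_eq_mul, ee_x11]
theorem tt_k : tt * x11 * tt⁻¹ = x11 ^ 1 := by rw [pow_one, mul_inv_eq_iff_eq_mul, tt_x11]
theorem zz_k : zz * x11 * zz⁻¹ = x11 ^ 2 := by rw [mul_inv_eq_iff_eq_mul, zz_x11, pow_two, mul_assoc]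

theorem neg_comm (g : Co0) : negElt * g = g * negElt := (Subgroup.mem_center_iff.1 neg_mem_center g).symm

theorem neg_k : negElt * x11 * negElt⁻¹ = x11 ^ 1 := by rw [pow_one, mul_inv_eq_iff_eq_mul, neg_comm]

/-- An element of `Co0` fixing `8 e_∞` and normalising `⟨x11⟩`. -/
theorem stab_inf {h : Co0} (he : h • e8 none = e8 none) {k : ℕ} (hk : k < 11) (hk0 : k ≠ 0)
    (hh : h * x11 * h⁻¹ = x11 ^ k) : ∃ i j : ℕ, h = x11 ^ i * u5 ^ j ∨ h = x11 ^ i * u5 ^ j * ee := by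
  have h1 := inv_fix (mem_zpow hh) x11_fix_V
  obtain ⟨d1, -, -, -⟩ := data11 h1
  have h2 : sqNorm ((h⁻¹ • Spor.leechV : leechLattice) : GolayPt → ℤ) = 48 := by rw [co0_norm, norm_leechV]
  have h3 := dot11 x11_fix_e8 h1
  have h3' : dotInt (e8 none : GolayPt → ℤ) ((h⁻¹ • Spor.leechV : leechLattice) : GolayPt → ℤ) = -40 := by
    have := co0_dot h⁻¹ (e8 none) Spor.leechV
    rw [inv_smul_of_fix he, dotInt_comm (e8 none : GolayPt → ℤ) (Spor.leechV : GolayPt → ℤ), dot_V_e8] at this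
    exact this
  rw [h3', e8_val, e8_val, e8_val, e8_val, if_pos rfl, if_neg (by simp), if_neg (by simp), if_neg (by simp)] at h3
  rw [h2] at d1
  obtain ⟨c1, c2, c3, c4⟩ := cong11 h1
  set y := h⁻¹ • Spor.leechV with hy
  have ha : (y : GolayPt → ℤ) none = -5 := by omega
  rw [ha] at d1 c2 c3 c4
  have hb : -1 ≤ (y : GolayPt → ℤ) (some 0) ∧ (y : GolayPt → ℤ) (some 0) ≤ 1 ∨
      ((y : GolayPt → ℤ) (some 1) = 0 ∨ (y : GolayPt → ℤ) (some 22) = 0) := by
    by_cases hc : (y : GolayPt → ℤ) (some 1) = 0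
    · exact Or.inr (Or.inl hc)
    by_cases hd : (y : GolayPt → ℤ) (some 22) = 0
    · exact Or.inr (Or.inr hd)
    left
    have hc2 : 1 ≤ (y : GolayPt → ℤ) (some 1) ^ 2 := by
      have := sq_nonneg ((y : GolayPt → ℤ) (some 1))
      have := pow_ne_zero 2 hc
      omega
    have hd2 : 1 ≤ (y : GolayPt → ℤ) (some 22) ^ 2 := by
      have := sq_nonneg ((y : GolayPt → ℤ) (some 22))
      have := pow_ne_zero 2 hd
      omega
    constructor <;> nlinarith
  have hc : -1 ≤ (y : GolayPt → ℤ) (some 1) ∧ (y : GolayPt → ℤ) (some 1) ≤ 1 := by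
    constructor <;> nlinarith [sq_nonneg ((y : GolayPt → ℤ) (some 22)), sq_nonneg ((y : GolayPt → ℤ) (some 0))]
  have hd : -1 ≤ (y : GolayPt → ℤ) (some 22) ∧ (y : GolayPt → ℤ) (some 22) ≤ 1 := by
    constructor <;> nlinarith [sq_nonneg ((y : GolayPt → ℤ) (some 1)), sq_nonneg ((y : GolayPt → ℤ) (some 0))]
  have hd1 : (y : GolayPt → ℤ) (some 22) = -1 := by omega
  have hb5 : -5 ≤ (y : GolayPt → ℤ) (some 0) ∧ (y : GolayPt → ℤ) (some 0) ≤ 5 := by
    constructor <;> nlinarith [sq_nonneg ((y : GolayPt → ℤ) (some 1)), sq_nonneg ((y : GolayPt → ℤ) (some 22))]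
  have key : ((y : GolayPt → ℤ) (some 0) = -1 ∧ (y : GolayPt → ℤ) (some 1) = -1) ∨
      ((y : GolayPt → ℤ) (some 0) = 1 ∧ (y : GolayPt → ℤ) (some 1) = 1) := by
    rw [hd1] at d1
    obtain ⟨b1, b2⟩ := hb5
    obtain ⟨e1, e2⟩ := hc
    generalize (y : GolayPt → ℤ) (some 0) = b at *
    generalize (y : GolayPt → ℤ) (some 1) = c at *
    interval_cases c <;> interval_cases b <;> omega
  have hV0 : (Spor.leechV : GolayPt → ℤ) none = -5 := rfl
  have hV1 : (Spor.leechV : GolayPt → ℤ) (some 0) = -1 := rfl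
  have hV2 : (Spor.leechV : GolayPt → ℤ) (some 1) = -1 := rfl
  have hV3 : (Spor.leechV : GolayPt → ℤ) (some 22) = -1 := rfl
  rcases key with ⟨k1, k2⟩ | ⟨k1, k2⟩
  · have h5 : y = Spor.leechV := ext11 h1 x11_fix_V (ha.trans hV0.symm) (k1.trans hV1.symm) (k2.trans hV2.symm)
      (hd1.trans hV3.symm)
    have h6 : h • Spor.leechV = Spor.leechV := by
      rw [hy, inv_smul_eq_iff] at h5; exact h5.symm
    obtain ⟨i, j, hij⟩ := m23_norm he h6 hk hk0 hh
    exact ⟨i, j, Or.inl hij⟩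
  · have h5 : y = ee • Spor.leechV := by
      refine ext11 h1 (fix_smul (by norm_num) (by norm_num) ee_k x11_fix_V) ?_ ?_ ?_ ?_
      · rw [ee_none, ha, hV0]
      · rw [ee_zero, k1, hV1]; norm_num
      · rw [ee_one, k2, hV2]; norm_num
      · rw [ee_22, hd1, hV3]
    have h6 : (h * ee) • Spor.leechV = Spor.leechV := by
      rw [mul_smul, ← h5, hy, smul_inv_smul]
    have h7 : (h * ee) • e8 none = e8 none := by rw [mul_smul, ee_e8, he]
    obtain ⟨i, j, hij⟩ := m23_norm h7 h6 hk hk0 (conj_mul_eq (ee_k.trans (pow_one _)) hh)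
    exact ⟨i, j, Or.inr (by rw [← hij, mul_assoc, ee_sq, mul_one])⟩

/-- coordinates of the image of `8 e_∞` -/
def Cd (s : Co0) (v : ℤ × ℤ × ℤ × ℤ) : Prop := (((s • e8 none : leechLattice) : GolayPt → ℤ) none,
  ((s • e8 none : leechLattice) : GolayPt → ℤ) (some 0), ((s • e8 none : leechLattice) : GolayPt → ℤ) (some 1),
  ((s • e8 none : leechLattice) : GolayPt → ℤ) (some 22)) = v

theorem Cd.neg {s : Co0} {a b c d : ℤ} (h : Cd s (a, b, c, d)) : Cd (negElt * s) (-a, -b, -c, -d) := by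
  unfold Cd at *
  simp only [Prod.mk.injEq] at *
  obtain ⟨h1, h2, h3, h4⟩ := h
  rw [mul_smul, negElt_smul]
  refine ⟨?_, ?_, ?_, ?_⟩
  · rw [← h1]; rfl
  · rw [← h2]; rfl
  · rw [← h3]; rfl
  · rw [← h4]; rfl

theorem Cd.ee {s : Co0} {a b c d : ℤ} (h : Cd s (a, b, c, d)) : Cd (Co.ee * s) (a, -b, -c, d) := by
  unfold Cd at *
  simp only [Prod.mk.injEq] at *
  obtain ⟨h1, h2, h3, h4⟩ := h
  rw [mul_smul]
  refine ⟨?_, ?_, ?_, ?_⟩
  · rw [ee_none, h1]
  · rw [ee_zero, h2]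
  · rw [ee_one, h3]
  · rw [ee_22, h4]

theorem cd_one : Cd 1 (8, 0, 0, 0) := by
  unfold Cd
  rw [one_smul, e8_val, e8_val, e8_val, e8_val]
  rfl

theorem cd_tt : Cd tt (4, -2, 2, 0) := by
  obtain ⟨b1, b2, b3, b4⟩ := tt_e8
  unfold Cd; rw [b1, b2, b3, b4]

theorem cd_zz : Cd zz (2, 4, 0, -2) := by
  obtain ⟨b1, b2, b3, b4⟩ := zz_e8
  unfold Cd; rw [b1, b2, b3, b4]

theorem cd_pp : Cd pp (0, 8, 0, 0) := by
  unfold Cd
  rw [pp_e8, e8_val, e8_val, e8_val, e8_val]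
  rfl

theorem k_mul {s s' : Co0} {k k' : ℕ} (h : s * x11 * s⁻¹ = x11 ^ k) (h' : s' * x11 * s'⁻¹ = x11 ^ k') :
    (s * s') * x11 * (s * s')⁻¹ = x11 ^ (k * k') := by
  apply conj_mul_eq h'
  rw [← conj_pow, h, ← pow_mul]

/-- Every vector of norm 64 fixed by `x11` is the image of `8 e_∞` under an element normalising `⟨x11⟩`. -/
theorem sol_cases : ∀ v ∈ sol64, ∃ c : Co0, (c = 1 ∨ c = negElt) ∧ ∃ s : Co0, Cd (c * s) v ∧
    ((s = 1 ∨ s = tt ∨ s = ee * tt) ∨ ∃ k, (k = 10 ∨ k = 2) ∧ s * x11 * s⁻¹ = x11 ^ k) := by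
  intro v hv
  simp only [sol64, List.mem_cons, List.not_mem_nil, or_false] at hv
  have e0 : ∀ {s v}, Cd s v → Cd (1 * s) v := fun h => by rw [one_mul]; exact h
  have z2 : (ee * zz) * x11 * (ee * zz)⁻¹ = x11 ^ 2 := k_mul ee_k zz_k
  rcases hv with rfl | rfl | rfl | rfl | rfl | rfl | rfl | rfl | rfl | rfl | rfl | rfl
  · exact ⟨1, Or.inl rfl, 1, e0 cd_one, Or.inl (Or.inl rfl)⟩
  · exact ⟨negElt, Or.inr rfl, 1, by simpa using cd_one.neg, Or.inl (Or.inl rfl)⟩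
  · exact ⟨1, Or.inl rfl, tt, e0 cd_tt, Or.inl (Or.inr (Or.inl rfl))⟩
  · exact ⟨negElt, Or.inr rfl, tt, by simpa using cd_tt.neg, Or.inl (Or.inr (Or.inl rfl))⟩
  · exact ⟨1, Or.inl rfl, ee * tt, by simpa using e0 cd_tt.ee, Or.inl (Or.inr (Or.inr rfl))⟩
  · exact ⟨negElt, Or.inr rfl, ee * tt, by simpa using cd_tt.ee.neg, Or.inl (Or.inr (Or.inr rfl))⟩
  · exact ⟨1, Or.inl rfl, pp, e0 cd_pp, Or.inr ⟨10, Or.inl rfl, pp_x11⟩⟩
  · exact ⟨negElt, Or.inr rfl, pp, by simpa using cd_pp.neg, Or.inr ⟨10, Or.inl rfl, pp_x11⟩⟩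
  · exact ⟨1, Or.inl rfl, zz, e0 cd_zz, Or.inr ⟨2, Or.inr rfl, zz_k⟩⟩
  · exact ⟨negElt, Or.inr rfl, zz, by simpa using cd_zz.neg, Or.inr ⟨2, Or.inr rfl, zz_k⟩⟩
  · exact ⟨1, Or.inl rfl, ee * zz, by simpa using e0 cd_zz.ee, Or.inr ⟨2, Or.inr rfl, z2⟩⟩
  · exact ⟨negElt, Or.inr rfl, ee * zz, by simpa using cd_zz.ee.neg, Or.inr ⟨2, Or.inr rfl, z2⟩⟩

theorem u5_pow_x11 (j : ℕ) : u5 ^ j * x11 * (u5 ^ j)⁻¹ = x11 ^ (4 ^ j) := by
  induction j with
  | zero => simp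
  | succ j ih =>
    rw [pow_succ' u5]
    have h1 := k_mul u5_x11 ih
    rw [h1, pow_succ']

theorem four_pow (j : ℕ) : 4 ^ j % 11 = 1 ∨ 4 ^ j % 11 = 4 ∨ 4 ^ j % 11 = 5 ∨ 4 ^ j % 11 = 9 ∨ 4 ^ j % 11 = 3 := by
  induction j with
  | zero => left; rfl
  | succ j ih => rw [pow_succ]; omega

theorem four_pow_one {j : ℕ} (h : 4 ^ j % 11 = 1) : j % 5 = 0 := by
  have h1 : 4 ^ j = (4 ^ 5) ^ (j / 5) * 4 ^ (j % 5) := by
    rw [← pow_mul, ← pow_add, Nat.div_add_mod]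
  have h2 : (4 ^ 5) ^ (j / 5) % 11 = 1 := by
    rw [Nat.pow_mod]; norm_num
  rw [h1, Nat.mul_mod, h2, one_mul, Nat.mod_mod] at h
  have h3 : j % 5 < 5 := Nat.mod_lt _ (by norm_num)
  interval_cases hj : j % 5 <;> first | rfl | (exfalso; revert h; decide)

/-- The centraliser of `x11` in `Co0`. -/
theorem cent_co0 {g : Co0} (hg : g * x11 = x11 * g) : ∃ i : ℕ, ∃ a b c : Co0, (a = 1 ∨ a = ee) ∧
    (b = 1 ∨ b = tt ∨ b = tt * ee) ∧ (c = 1 ∨ c = negElt) ∧ g = x11 ^ i * a * b * c := by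
  have hg1 : g * x11 * g⁻¹ = x11 := by rw [hg, mul_inv_cancel_right]
  have h1 := inv_fix (mem_zpow (k := 1) (by rw [pow_one]; exact hg1)) x11_fix_e8
  have h2 := solve64 h1 (norm_smul_e8 _)
  obtain ⟨c, hc, s, hcd, hs⟩ := sol_cases _ h2
  have hcc : c * c = 1 := by
    rcases hc with rfl | rfl
    · exact one_mul 1
    · apply co0_ext
      intro x
      rw [mul_smul, negElt_smul, negElt_smul, neg_neg, one_smul]
  have hck : c * x11 * c⁻¹ = x11 ^ 1 := by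
    rcases hc with rfl | rfl
    · simp
    · exact neg_k
  have hcom : ∀ y : Co0, c * y = y * c := by
    rcases hc with rfl | rfl
    · simp
    · exact neg_comm
  have hs' : ∃ k, k < 11 ∧ k ≠ 0 ∧ s * x11 * s⁻¹ = x11 ^ k := by
    rcases hs with (rfl | rfl | rfl) | ⟨k, hk, hsk⟩
    · exact ⟨1, by norm_num, by norm_num, by simp⟩
    · exact ⟨1, by norm_num, by norm_num, tt_k⟩
    · exact ⟨1, by norm_num, by norm_num, k_mul ee_k tt_k⟩
    · exact ⟨k, by omega, by omega, hsk⟩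
  obtain ⟨k, hk, hk0, hsk⟩ := hs'
  have hcsk : (c * s) * x11 * (c * s)⁻¹ = x11 ^ k := by
    have := k_mul hck hsk
    rwa [one_mul] at this
  have hcd' := hcd
  unfold Cd at hcd'
  simp only [Prod.mk.injEq] at hcd'
  obtain ⟨b1, b2, b3, b4⟩ := hcd'
  have h5 : g⁻¹ • e8 none = (c * s) • e8 none :=
    ext11 h1 (fix_smul hk hk0 hcsk x11_fix_e8) b1.symm b2.symm b3.symm b4.symm
  have h6 : (g * (c * s)) • e8 none = e8 none := by rw [mul_smul, ← h5, smul_inv_smul]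
  have h7 : (g * (c * s)) * x11 * (g * (c * s))⁻¹ = x11 ^ k := by
    have := k_mul (k := 1) (by rw [pow_one]; exact hg1) hcsk
    rwa [one_mul] at this
  obtain ⟨i, j, hij⟩ := stab_inf h6 hk hk0 h7
  -- the exponent
  have hexp : k % 11 = 4 ^ j % 11 := by
    apply x11_pow_inj
    rw [← h7]
    rcases hij with hij | hij
    · rw [hij]
      have h8 := k_mul (s := x11 ^ i) (k := 1) (by group) (u5_pow_x11 j)
      rw [h8, one_mul]
    · rw [hij]
      have h8 := k_mul (s := x11 ^ i) (k := 1) (by group) (u5_pow_x11 j)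
      have h9 := k_mul h8 ee_k
      rw [h9, mul_one, one_mul]
  rcases hs with hs | ⟨k', hk', hsk'⟩
  · have hsk1 : s * x11 * s⁻¹ = x11 ^ 1 := by
      rcases hs with rfl | rfl | rfl
      · simp
      · exact tt_k
      · exact k_mul ee_k tt_k
    have hk1 : k % 11 = 1 % 11 := x11_pow_inj (hsk.symm.trans hsk1)
    have hj : j % 5 = 0 := four_pow_one (by omega)
    have hu : u5 ^ j = 1 := by
      rw [← Nat.div_add_mod j 5, hj, add_zero, pow_mul, u5_pow, one_pow]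
    rw [hu, mul_one] at hij
    have hgs : g = (g * (c * s)) * s⁻¹ * c := by
      have : c⁻¹ = c := inv_eq_of_mul_eq_one_right hcc
      calc g = (g * (c * s)) * s⁻¹ * c⁻¹ := by group
        _ = _ := by rw [this]
    have hb : s⁻¹ = 1 ∨ s⁻¹ = tt ∨ s⁻¹ = tt * ee := by
      have t1 : tt⁻¹ = tt := inv_eq_of_mul_eq_one_right tt_sq
      have t2 : ee⁻¹ = ee := inv_eq_of_mul_eq_one_right ee_sq
      rcases hs with rfl | rfl | rfl
      · left; simp
      · right; left; exact t1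
      · right; right; rw [mul_inv_rev, t1, t2]
    rcases hij with hij | hij
    · exact ⟨i, 1, s⁻¹, c, Or.inl rfl, hb, hc, by rw [mul_one, ← hij]; exact hgs⟩
    · exact ⟨i, ee, s⁻¹, c, Or.inr rfl, hb, hc, by rw [← hij]; exact hgs⟩
  · exfalso
    have hk1 : k % 11 = k' % 11 := x11_pow_inj (hsk.symm.trans hsk')
    have h8 := four_pow j
    rcases hk' with rfl | rfl <;> omega

/-! ### The prime 23 -/

theorem m23_norm23 {g : Co0} (hg : g ∈ M23') (h : g * x23 * g⁻¹ ∈ Subgroup.zpowers x23) :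
    ∃ a b : ℕ, g = x23 ^ a * x11 ^ b := by
  obtain ⟨σ, hσ, rfl⟩ := hg
  obtain ⟨k, hk⟩ := h
  have hk' : x23 ^ k = piHom σ * x23 * (piHom σ)⁻¹ := hk
  have hk2 : x23 ^ k = x23 ^ (k % 23).toNat := by
    rw [← zpow_natCast, Int.toNat_of_nonneg (by omega)]
    have h2 : x23 ^ (23 : ℤ) = 1 := by
      have : x23 ^ 23 = 1 := by rw [← orderOf_x23]; exact pow_orderOf_eq_one _
      exact_mod_cast this
    conv_lhs => rw [← Int.mul_ediv_add_emod k 23, zpow_add, zpow_mul, h2, one_zpow, one_mul]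
  rw [hk2] at hk'
  have h1 : (σ : Equiv.Perm GolayPt) * shiftPerm * (σ : Equiv.Perm GolayPt)⁻¹ = shiftPerm ^ (k % 23).toNat := by
    change piHom _ ^ _ = piHom _ * piHom _ * (piHom _)⁻¹ at hk'
    rw [← map_mul, ← map_inv, ← map_mul, ← map_pow] at hk'
    exact (congrArg Subtype.val (piHom_injective hk')).symm
  obtain ⟨a, b, hab⟩ := norm_shift σ.2 hσ h1
  refine ⟨a, b, ?_⟩
  show piHom σ = piHom _ ^ a * piHom _ ^ b
  rw [← map_pow, ← map_pow, ← map_mul]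
  congr 1
  exact Subtype.ext hab

theorem norm23 {g : Co0} (h : g * x23 * g⁻¹ ∈ Subgroup.zpowers x23) :
    ∃ a b : ℕ, g = x23 ^ a * x11 ^ b ∨ g = negElt * (x23 ^ a * x11 ^ b) := by
  rcases mem_M23'_or h with h1 | h1
  · obtain ⟨a, b, hab⟩ := m23_norm23 h1 h
    exact ⟨a, b, Or.inl hab⟩
  · have h2 : (negElt * g) * x23 * (negElt * g)⁻¹ ∈ Subgroup.zpowers x23 := by
      have e : (negElt * g) * x23 * (negElt * g)⁻¹ = g * x23 * g⁻¹ := by
        calc negElt * g * x23 * (negElt * g)⁻¹ = (negElt * (g * x23 * g⁻¹)) * negElt⁻¹ := by group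
          _ = g * x23 * g⁻¹ := by rw [neg_comm, mul_inv_cancel_right]
      rw [e]; exact h
    obtain ⟨a, b, hab⟩ := m23_norm23 h1 h2
    refine ⟨a, b, Or.inr ?_⟩
    rw [← hab, ← mul_assoc]
    have : negElt * negElt = 1 := by
      apply co0_ext
      intro x
      rw [mul_smul, negElt_smul, negElt_smul, neg_neg, one_smul]
    rw [this, one_mul]

end Cfsg.Agent.H90.Co
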