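import Cfsg.Agent.LeechSimple.Final
import Cfsg.Agent.Golay.Slp

/-!
# Normalisers of the subgroups of order 23 and 11 in `M23` (owner: helper90)
-/

set_option autoImplicit false

namespace Cfsg.Agent.H90.Co

open Cfsg Cfsg.Agent.Golay Cfsg.Agent.LeechSimple
open scoped Pointwise

theorem basis_inCode : ∀ b ∈ codeBasis, inCode b = true := by decide +kernel

theorem mapsCode_of_mem {σ : Equiv.Perm GolayPt} (hσ : σ ∈ M24) {n : ℕ} (h : IsTable n σ) : mapsCode n = true := by
  rw [mapsCode_iff]
  intro b hb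
  have h1 := (smul_mem_supports hσ).2 (ofMask_mem_supports (basis_inCode b hb))
  rw [smul_ofMask h (codeBasis_lt hb)] at h1
  have hlt : pmask n b < 2 ^ 24 := by
    rw [← maskOf_ofMask (codeBasis_lt hb), ← maskOf_smul h]
    exact maskOf_lt _
  exact (ofMask_mem_supports_iff hlt).1 h1

/-- table of a power -/
def tabPow (n : ℕ) : ℕ → ℕ
  | 0 => idTab
  | k + 1 => pmul (tabPow n k) n

theorem isTable_pow {n : ℕ} {σ : Equiv.Perm GolayPt} (h : IsTable n σ) (k : ℕ) : IsTable (tabPow n k) (σ ^ k) := by
  induction k with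
  | zero => exact isTable_one
  | succ k ih => rw [pow_succ]; exact isTable_pmul ih h

/-- table of `z ↦ k z` -/
def mulTab (k : ℕ) : ℕ := tabOf (fun i => match Nat.beq i 23 with | true => 23 | false => Nat.mod (Nat.mul k i) 23) 24

theorem dbl_table : IsTable (mulTab 2) dblPerm := by
  intro p
  revert p; decide +kernel

theorem mulTab_check : ∀ k < 23, mapsCode (mulTab k) = true → ∃ j < 11, mulTab k = tabPow (mulTab 2) j := by
  decide +kernel

theorem shift_some (n : ℕ) (z : ZMod 23) : (shiftPerm ^ n) (some z) = some (z + n) := by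
  induction n generalizing z with
  | zero => simp
  | succ n ih =>
    rw [pow_succ, Equiv.Perm.mul_apply]
    have : shiftPerm (some z) = some (z + 1) := rfl
    rw [this, ih]
    congr 1
    push_cast
    ring

theorem shift_none (n : ℕ) : (shiftPerm ^ n) none = none := by
  induction n with
  | zero => rfl
  | succ n ih =>
    rw [pow_succ, Equiv.Perm.mul_apply]
    have : shiftPerm none = none := rfl
    rw [this, ih]

theorem shift_pow_23 : shiftPerm ^ 23 = 1 := by rw [← orderOf_shift]; exact pow_orderOf_eq_one _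

theorem conj_pow_eq {G : Type*} [Group G] {a s t : G} (h : a * s * a⁻¹ = t) (n : ℕ) : a * s ^ n = t ^ n * a := by
  rw [← h, conj_pow]; group

/-- The normaliser of `⟨shift⟩` in `M23`. -/
theorem norm_shift {σ : Equiv.Perm GolayPt} (hσ : σ ∈ M24) (h0 : σ none = none) {k : ℕ}
    (hk : σ * shiftPerm * σ⁻¹ = shiftPerm ^ k) : ∃ a b : ℕ, σ = shiftPerm ^ a * dblPerm ^ b := by
  obtain ⟨b, hb⟩ : ∃ b : ZMod 23, σ (some 0) = some b := by
    cases h : σ (some 0) with
    | none => exact absurd (σ.injective (h.trans h0.symm)) (by simp)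
    | some b => exact ⟨b, rfl⟩
  set τ := shiftPerm ^ (23 - b.val) * σ with hτ
  have hτm : τ ∈ M24 := M24.mul_mem (M24.pow_mem shift_mem _) hσ
  have hτn : τ none = none := by rw [hτ, Equiv.Perm.mul_apply, h0, shift_none]
  have hτ0 : τ (some 0) = some 0 := by
    rw [hτ, Equiv.Perm.mul_apply, hb, shift_some]
    congr 1
    have := ZMod.val_lt b
    rw [Nat.cast_sub this.le, ZMod.natCast_zmod_val]
    have h23 : ((23 : ℕ) : ZMod 23) = 0 := by decide
    rw [h23]; ring
  have hτk : τ * shiftPerm * τ⁻¹ = shiftPerm ^ k := by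
    rw [hτ]
    calc shiftPerm ^ (23 - b.val) * σ * shiftPerm * (shiftPerm ^ (23 - b.val) * σ)⁻¹ =
        shiftPerm ^ (23 - b.val) * (σ * shiftPerm * σ⁻¹) * (shiftPerm ^ (23 - b.val))⁻¹ := by group
      _ = shiftPerm ^ k := by rw [hk, ← pow_add, add_comm, pow_add, mul_inv_cancel_right]
  have hτz : ∀ n : ℕ, τ (some (n : ZMod 23)) = some ((k * n : ℕ) : ZMod 23) := by
    intro n
    have h1 := conj_pow_eq hτk n
    have h2 := congrArg (fun f : Equiv.Perm GolayPt => f (some 0)) h1
    simp only [Equiv.Perm.mul_apply] at h2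
    rw [shift_some, hτ0, zero_add, ← pow_mul, shift_some, zero_add] at h2
    exact h2
  have hT : IsTable (mulTab (k % 23)) τ := by
    intro p
    unfold mulTab
    rw [papp_tabOf _ (idx_lt p)]
    · cases p with
      | none => rw [hτn]; rfl
      | some z =>
        have h1 : Nat.beq (idx (some z)) 23 = false := by
          have : (idx (some z)) < 23 := ZMod.val_lt z
          cases h : Nat.beq (idx (some z)) 23 with
          | false => rfl
          | true => have := Nat.eq_of_beq_eq_true h; omega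
        rw [h1]
        have h2 := hτz z.val
        rw [ZMod.natCast_zmod_val] at h2
        rw [h2]
        show ((k * z.val : ℕ) : ZMod 23).val = (k % 23) * z.val % 23
        rw [ZMod.val_natCast, Nat.mod_mul_mod]
    · cases h : Nat.beq (idx p) 23 with
      | true => norm_num
      | false =>
        show Nat.mod _ 23 < 32
        exact (Nat.mod_lt _ (by norm_num)).trans (by norm_num)
  obtain ⟨j, -, hj⟩ := mulTab_check (k % 23) (Nat.mod_lt _ (by norm_num)) (mapsCode_of_mem hτm hT)
  rw [hj] at hT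
  have h1 : τ = dblPerm ^ j := isTable_unique hT (isTable_pow dbl_table j)
  refine ⟨b.val, j, ?_⟩
  rw [← h1, hτ, ← mul_assoc, ← pow_add]
  have := ZMod.val_lt b
  have h2 : b.val + (23 - b.val) = 23 := by omega
  rw [h2, shift_pow_23, one_mul]

/-! ### The prime 11 -/

/-- table of the element of order 5 -/
def uTab : ℕ := 0xbd8eba19e2ac4885152373270905a0

theorem uTab_valid : validM24 uTab = true := by decide +kernel

/-- An element of order 5 of `M23` normalising `⟨dbl⟩`. -/
noncomputable def uPerm : Equiv.Perm GolayPt := (exists_mem_M24 uTab_valid).choose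

theorem u_mem : uPerm ∈ M24 := (exists_mem_M24 uTab_valid).choose_spec.1
theorem u_table : IsTable uTab uPerm := (exists_mem_M24 uTab_valid).choose_spec.2

theorem eq_perm_of_tab {n m : ℕ} {σ τ : Equiv.Perm GolayPt} (hσ : IsTable n σ) (hτ : IsTable m τ)
    (h : Nat.beq n m = true) : σ = τ := by
  have := Nat.eq_of_beq_eq_true h
  subst this
  exact isTable_unique hσ hτ

theorem u_dbl : uPerm * dblPerm * uPerm⁻¹ = dblPerm ^ 4 := by
  rw [mul_inv_eq_iff_eq_mul]
  exact eq_perm_of_tab (isTable_pmul u_table dbl_table) (isTable_pmul (isTable_pow dbl_table 4) u_table)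
    (by decide +kernel)

theorem u_pow_five : uPerm ^ 5 = 1 :=
  eq_perm_of_tab (isTable_pow u_table 5) isTable_one (by decide +kernel)

theorem isTable_shiftP : IsTable shiftTab shiftPerm := isTable_shift

theorem dbl_shift : dblPerm * shiftPerm * dblPerm⁻¹ = shiftPerm ^ 2 := by
  rw [mul_inv_eq_iff_eq_mul]
  exact eq_perm_of_tab (isTable_pmul dbl_table isTable_shift)
    (isTable_pmul (isTable_pow isTable_shift 2) dbl_table) (by decide +kernel)

theorem u_none : uPerm none = none := by
  have h := u_table none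
  have h2 : papp uTab (idx none) = 23 := by decide +kernel
  rw [h2] at h
  apply idx_injective
  rw [h]; rfl

theorem u_zero : uPerm (some 0) = some 0 := by
  have h := u_table (some 0)
  have h2 : papp uTab (idx (some 0 : GolayPt)) = 0 := by decide +kernel
  rw [h2] at h
  apply idx_injective
  rw [h]; rfl

theorem dbl_some (n : ℕ) (z : ZMod 23) : (dblPerm ^ n) (some z) = some (2 ^ n * z) := by
  induction n generalizing z with
  | zero => simp
  | succ n ih =>
    rw [pow_succ, Equiv.Perm.mul_apply]
    have : dblPerm (some z) = some (2 * z) := rfl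
    rw [this, ih]
    congr 1
    ring

theorem dbl_none (n : ℕ) : (dblPerm ^ n) none = none := by
  induction n with
  | zero => rfl
  | succ n ih =>
    rw [pow_succ, Equiv.Perm.mul_apply]
    have : dblPerm none = none := rfl
    rw [this, ih]

theorem dbl_pow_11 : dblPerm ^ 11 = 1 := by rw [← orderOf_dbl]; exact pow_orderOf_eq_one _

/-- logarithms: `z = 2 ^ n` or `z = 22 * 2 ^ n` -/
def logL : List (ℕ × Bool) := [(0, true), (0, true), (1, true), (8, true), (2, true), (6, false), (9, true), (4, false), (3, true), (5, true), (7, false), (10, false), (10, true), (7, true), (5, false), (3, false), (4, true), (9, false), (6, true), (2, false), (8, false), (1, false), (0, false)]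

theorem logL_spec : ∀ z : ZMod 23, z ≠ 0 → z = 2 ^ (logL.getD z.val (0, true)).1 *
    (if (logL.getD z.val (0, true)).2 = true then 1 else 22) := by decide +kernel

/-- table of the permutation `2 ^ n ↦ 2 ^ (k n) a`, `22 * 2 ^ n ↦ 2 ^ (k n) b` -/
def twoTab (k a b : ℕ) : ℕ := tabOf (fun i => match Nat.beq i 23 with
  | true => 23
  | false => match Nat.beq i 0 with
    | true => 0
    | false => Nat.mod (Nat.mul (Nat.pow 2 (Nat.mul k (logL.getD i (0, true)).1))
        (match (logL.getD i (0, true)).2 with | true => a | false => b)) 23) 24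

/-- the tables of `dbl ^ i * u ^ j` -/
def tabs55 : List ℕ := (List.range 11).flatMap fun i => (List.range 5).map fun j => pmul (tabPow (mulTab 2) i) (tabPow uTab j)

def tabs55L : List ℕ := [0xbdab49ca307b9ac5a928398a418820, 0xbd8eba19e2ac4885152373270905a0, 0xbd9ca5b2a13be032cd328a28233480, 0xbda25520ed754529d12678d6161200, 0xbd9f328dc489c26a2d2cac94d44040, 0xbd6717b56939461b52507314831040, 0xbd5d68b0e49ad10a2a46285e968860, 0xbd4b4b066271d2653e4d5c22460d00, 0xbd56aa41c32cc8d7c64c39ac20a120, 0xbd4ef518a85b84c8da419b68382480, 0xbcdeb38ed2728c2ac5a92869062080, 0xbccb5585c87da098d1ac508f2190c0, 0xbcd51a89e42ba4ca1da3b256809a00, 0xbced48a4a653d033ada1732a414240, 0xbcdc7a3150b14815d5a278e264c900, 0xbbcf671aad2d1849ac7250a290c100, 0xbbd53b08b03d5325c461a11cd32180, 0xbbe8b990e8515a18b866acad013120, 0xbbeb15c94ca1e067586228668225a0, 0xbbcae88689aa902b4c643996c93600, 0xb9dd52b263544287d8cda117212600, 0xb9e8fa914974e4db2cc28a0a364020, 0xb9e367a1d0a2862594cc9b6a920640, 0xb9e6bb36818b92c2d4c4509f044860, 0xb9d4558a329d204abcc8732c168d20,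 0xbb8b3505e6a2c503d5838a2cd24920, 0xbba279a2922bda3ad9845c1460a440, 0xbb9753c0a98d0c4b298178e72409a0, 0xbb9f6a8e225964154d88a10e9834c0, 0xbba8ab116d7c52899d90286a219a40, 0xb954fa08ec8d88974c265c2a343640, 0xb956e7c22d51c669d428b268c14880, 0xb96d3725525c588ad022399ed81060, 0xb94f599964b29a2a3c308a1d248d80, 0xb9634aa2c33ae507b82950a64331a0, 0xbaa87891c15d5122bc4cb266680da0, 0xbaac53a563a38cc7cc50aca2123500, 0xbaaaf2ca8db2c309c444730e34a0c0, 0xba9d37b2c8ad06489c495c0ad91820, 0xba9719c2a6759a939452a11e860460, 0xbd22e5a0a2b4e0d51c81ac9ec49860, 0xbd2aa74ac6895813bc899b56240e00, 0xbd26753623ad8497ac88285c694180, 0xbd0af386b09c4c85b892b25436b040, 0xbd2cb7a66c2d4727288d8a0f0088c0, 0xbc565b4144abd23a39029b4e1930c0, 0xbc6742b6ac5a82271d1278ec481920, 0xbc5eea0d669d4923d910508ac6a420, 0xbc54770a697ad90b150daca8618480, 0xbc6b63c9e154ccd2d1035c1c911180, 0xbaecaaa68899e468960478dc268580, 0xbadf150e61b50442ba0d39aa84b240, 0xbace589acc7cd0d75609a11411c840, 0xbae8e291f23d829aaa039b62c30900, 0xbae75734e2a3d8354606b24b222020]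

theorem tabs55_eq : tabs55 = tabs55L := by decide +kernel

def twoChk (k a b : ℕ) : Bool := fz (twoTab k a b) fun n => match mapsCode n with
  | true => tabs55L.any (fun m => Nat.beq n m)
  | false => true

theorem twoChk_all : ∀ k < 11, ∀ a ∈ [1, 22], ∀ b < 23, twoChk k a b = true := by decide +kernel

theorem norm_one22 : ∀ a : ZMod 23, a ≠ 0 → ∃ i < 11, (2 : ZMod 23) ^ i * a = 1 ∨ (2 : ZMod 23) ^ i * a = 22 := by
  decide +kernel

theorem fix_dbl_pow : ∀ k < 11, k ≠ 0 → ∀ z : ZMod 23, (2 : ZMod 23) ^ k * z = z → z = 0 := by decide +kernel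

/-- The normaliser of `⟨dbl⟩` in `M23`. -/
theorem norm_dbl {σ : Equiv.Perm GolayPt} (hσ : σ ∈ M24) (h0 : σ none = none) {k : ℕ} (hk11 : k < 11) (hk0 : k ≠ 0)
    (hk : σ * dblPerm * σ⁻¹ = dblPerm ^ k) : ∃ i j : ℕ, σ = dblPerm ^ i * uPerm ^ j := by
  have hs : ∀ z : ZMod 23, ∃ b : ZMod 23, σ (some z) = some b := by
    intro z
    cases h : σ (some z) with
    | none => exact absurd (σ.injective (h.trans h0.symm)) (by simp)
    | some b => exact ⟨b, rfl⟩
  have hz : σ (some 0) = some 0 := by
    obtain ⟨b, hb⟩ := hs 0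
    have h1 := conj_pow_eq hk 1
    have h2 := congrArg (fun f : Equiv.Perm GolayPt => f (some 0)) h1
    simp only [Equiv.Perm.mul_apply] at h2
    rw [dbl_some, mul_zero, hb, pow_one, dbl_some] at h2
    have h3 := fix_dbl_pow k hk11 hk0 b (Option.some.inj h2).symm
    rw [hb, h3]
  obtain ⟨a, ha⟩ := hs 1
  have ha0 : a ≠ 0 := by
    intro h
    rw [h, ← hz] at ha
    exact absurd (σ.injective ha) (by decide)
  obtain ⟨i, hi11, hi⟩ := norm_one22 a ha0
  set τ := dblPerm ^ i * σ with hτ
  have hτm : τ ∈ M24 := M24.mul_mem (M24.pow_mem dbl_mem _) hσ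
  have hτn : τ none = none := by rw [hτ, Equiv.Perm.mul_apply, h0, dbl_none]
  have hτ0 : τ (some 0) = some 0 := by rw [hτ, Equiv.Perm.mul_apply, hz, dbl_some, mul_zero]
  have hτk : τ * dblPerm * τ⁻¹ = dblPerm ^ k := by
    rw [hτ]
    calc dblPerm ^ i * σ * dblPerm * (dblPerm ^ i * σ)⁻¹ =
        dblPerm ^ i * (σ * dblPerm * σ⁻¹) * (dblPerm ^ i)⁻¹ := by group
      _ = dblPerm ^ k := by rw [hk, ← pow_add, add_comm, pow_add, mul_inv_cancel_right]
  obtain ⟨a', ha', haa⟩ : ∃ a' : ℕ, a' ∈ [1, 22] ∧ τ (some 1) = some (a' : ZMod 23) := by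
    rcases hi with hi | hi
    · exact ⟨1, by decide, by rw [hτ, Equiv.Perm.mul_apply, ha, dbl_some, hi]; rfl⟩
    · exact ⟨22, by decide, by rw [hτ, Equiv.Perm.mul_apply, ha, dbl_some, hi]; rfl⟩
  obtain ⟨b, hb⟩ : ∃ b : ZMod 23, τ (some 22) = some b := by
    cases h : τ (some 22) with
    | none => exact absurd (τ.injective (h.trans hτn.symm)) (by simp)
    | some b => exact ⟨b, rfl⟩
  have hw : ∀ (n : ℕ) (w c : ZMod 23), τ (some w) = some c → τ (some (2 ^ n * w)) = some (2 ^ (k * n) * c) := by
    intro n w c hc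
    have h1 := conj_pow_eq hτk n
    have h2 := congrArg (fun f : Equiv.Perm GolayPt => f (some w)) h1
    simp only [Equiv.Perm.mul_apply] at h2
    rw [dbl_some, hc, ← pow_mul, dbl_some] at h2
    exact h2
  have hT : IsTable (twoTab k a' b.val) τ := by
    intro p
    unfold twoTab
    rw [papp_tabOf _ (idx_lt p)]
    · cases p with
      | none => rw [hτn]; rfl
      | some z =>
        have hlt : (idx (some z)) < 23 := ZMod.val_lt z
        have h1 : Nat.beq (idx (some z)) 23 = false := by
          cases h : Nat.beq (idx (some z)) 23 with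
          | false => rfl
          | true => have := Nat.eq_of_beq_eq_true h; omega
        rw [h1]
        by_cases hz0 : z = 0
        · subst hz0; rw [hτ0]; rfl
        have h2 : Nat.beq (idx (some z)) 0 = false := by
          cases h : Nat.beq (idx (some z)) 0 with
          | false => rfl
          | true =>
            exfalso; apply hz0
            have h3 : z.val = 0 := Nat.eq_of_beq_eq_true h
            exact (ZMod.val_eq_zero z).1 h3
        rw [h2]
        have h3 := logL_spec z hz0
        have e : idx (some z) = z.val := rfl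
        rw [e]
        set n := (logL.getD z.val (0, true)).1 with hn
        cases hc : (logL.getD z.val (0, true)).2 with
        | true =>
          rw [hc, if_pos rfl] at h3
          rw [h3, hw n 1 _ haa]
          show ((2 ^ (k * n) * (a' : ZMod 23) : ZMod 23)).val = (2 ^ (k * n) * a') % 23
          rw [← ZMod.val_natCast]
          push_cast
          rfl
        | false =>
          rw [hc, if_neg (by decide)] at h3
          rw [h3, hw n 22 _ hb]
          show ((2 ^ (k * n) * b : ZMod 23)).val = (2 ^ (k * n) * b.val) % 23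
          rw [← ZMod.val_natCast]
          push_cast
          rw [ZMod.natCast_zmod_val]
    · cases h : Nat.beq (idx p) 23 with
      | true => norm_num
      | false =>
        cases h' : Nat.beq (idx p) 0 with
        | true => norm_num
        | false =>
          show Nat.mod _ 23 < 32
          exact (Nat.mod_lt _ (by norm_num)).trans (by norm_num)
  have h1 := twoChk_all k hk11 a' ha' b.val (ZMod.val_lt b)
  unfold twoChk at h1
  rw [fz_eq, mapsCode_of_mem hτm hT] at h1
  obtain ⟨m, hm, hm2⟩ := List.any_eq_true.1 h1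
  rw [← tabs55_eq] at hm
  unfold tabs55 at hm
  rw [List.mem_flatMap] at hm
  obtain ⟨i', -, hm⟩ := hm
  rw [List.mem_map] at hm
  obtain ⟨j', -, rfl⟩ := hm
  have h2 := Nat.eq_of_beq_eq_true hm2
  rw [h2] at hT
  have h3 : τ = dblPerm ^ i' * uPerm ^ j' :=
    isTable_unique hT (isTable_pmul (isTable_pow dbl_table i') (isTable_pow u_table j'))
  refine ⟨11 - i + i', j', ?_⟩
  rw [pow_add, mul_assoc, ← h3, hτ, ← mul_assoc, ← pow_add]
  have h4 : 11 - i + i = 11 := by omega
  rw [h4, dbl_pow_11, one_mul]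

end Cfsg.Agent.H90.Co
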