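import Cfsg.Agent.H90.CoGen
import Cfsg.Agent.H90.CoHSOut
import Cfsg.Agent.H90.CoData5
import Cfsg.Agent.LeechSimple.McL

/-!
# The outer automorphism group of `McL` has order 2 (owner: helper90)
-/

set_option autoImplicit false

namespace Cfsg.Agent.H90.Co

open Cfsg Cfsg.Agent.Golay Cfsg.Agent.LeechSimple Cfsg.Agent.Leech MulAction
open scoped Pointwise

/-- an element of order 5 commuting with `u` -/
noncomputable def vm : Co0 := matElt mvmR mvmC mvmM

theorem vm_V : vm • Spor.leechV = Spor.leechV :=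
  fix_of mvmM mvmP (c := cV) (by decide +kernel) cV_eq (by rw [norm_leechV]) (by decide +kernel)
theorem vm_U : vm • Spor.leechU = Spor.leechU :=
  fix_of mvmM mvmP (c := cU) (by decide +kernel) cU_eq (by rw [norm_leechU]; norm_num) (by decide +kernel)

theorem vm_mem : vm ∈ mclSub := ⟨vm_V, vm_U⟩
theorem y_mc : x11 ∈ mclSub := ⟨x11_fix_V, x11_fix_U⟩
theorem u_mc : u5 ∈ mclSub := ⟨u5_fix_V, u5_fix_U⟩

theorem vm_u : vm * u5 = u5 * vm := by
  have h := eq_wdE mvmM mvmP [2, 7] [7, 2] (by decide) (by decide) (by decide +kernel)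
  simp only [wd_cons, wd_nil, one_mul] at h
  exact h

theorem tt_vm : tt * vm * tt = vm ^ 4 := by
  have h := eq_wdE mvmM mvmP [3, 7, 3] [7, 7, 7, 7] (by decide) (by decide) (by decide +kernel)
  simp only [wd_cons, wd_nil, one_mul] at h
  have e : vm ^ 4 = vm * vm * vm * vm := by simp only [pow_succ, pow_zero, one_mul]
  rw [e]
  exact h

theorem negUV_code : ((-Spor.leechU - Spor.leechV : leechLattice) : GolayPt → ℤ) =
    vecOf 728931481559469994818216774992447021 := by
  funext p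
  rw [AddSubgroup.coe_sub, AddSubgroup.coe_neg, Pi.sub_apply, Pi.neg_apply, cU_eq, cV_eq]
  revert p; decide +kernel

theorem tt_U : tt • Spor.leechU = -Spor.leechU - Spor.leechV := by
  have h := smul_eq_of (act_of_ok (w := [3]) (by decide)) (c := cU) (by decide +kernel) cU_eq negUV_code
    (by rw [norm_leechU]; norm_num) (by decide +kernel)
  rw [wd_t] at h
  exact h

theorem tt_U_ne : tt • Spor.leechU ≠ Spor.leechU := by
  rw [tt_U]
  intro h
  have h1 := congrFun (congrArg Subtype.val h) none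
  have h2 := congrFun negUV_code none
  have h3 := congrFun cU_eq none
  change ((-Spor.leechU - Spor.leechV : leechLattice) : GolayPt → ℤ) none = (Spor.leechU : GolayPt → ℤ) none at h1
  rw [h2, h3] at h1
  revert h1
  decide +kernel

/-- normaliser of `⟨y⟩` -/
theorem norm_mc {c : Co0} (hc : c ∈ mclSub) (h : c * x11 * c⁻¹ ∈ Subgroup.zpowers x11) :
    ∃ i j : ℕ, c = x11 ^ i * u5 ^ j := by
  obtain ⟨i, j, hij | hij⟩ := norm_co3 hc.1 h
  · exact ⟨i, j, hij⟩
  · exfalso
    apply tt_U_ne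
    have h1 : c • Spor.leechU = Spor.leechU := hc.2
    have h2 : (x11 ^ i * u5 ^ j) • (tt • Spor.leechU) = Spor.leechU := by rw [← mul_smul, ← hij, h1]
    rw [← eq_inv_smul_iff] at h2
    rw [h2, inv_smul_eq_iff, mul_smul, smul_of_pow u5_fix_U, smul_of_pow x11_fix_U]

/-! ### The orbit of length 2025 -/

theorem p2025_eq : p2025 = -Spor.leechU' := by
  apply Subtype.ext
  funext p
  rw [AddSubgroup.coe_neg, Pi.neg_apply, cU'_eq]
  show vecOf 519899659641680805127698729222554132 p = _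
  revert p; decide +kernel

theorem gens_mc : ∀ S : Subgroup Co0, x11 ∈ S → vm ∈ S → ∀ i < [(myQ, myK), (mvmQ, mvmK)].length,
    IsGen S ([(myQ, myK), (mvmQ, mvmK)].getD i ([], 0)) := by
  intro S hy hv i hi
  have h : i = 0 ∨ i = 1 := by
    have : [(myQ, myK), (mvmQ, mvmK)].length = 2 := rfl
    omega
  rcases h with rfl | rfl
  · apply isGen_of myM myP
    rw [my_eq]; exact hy
  · exact isGen_of mvmM mvmP hv

theorem h2025_ok : chkLoop [(myQ, myK), (mvmQ, mvmK)] h2025G 2025 519899659641680805127698729222554132 2025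
    (Nat.add M120 1) = true := by decide +kernel

theorem orb_mc : (orbit mclSub p2025).ncard = 2025 := by
  have h := T2025_orbit
  change orbit mclSub p2025 = _ at h
  rw [h]; exact T2025_ncard

/-- the fixed points of `u` in the orbit -/
theorem fix2025_chk : ((List.range 2025).all fun j => !(fixC (muQ, muK) (cd h2025G j)) ||
    (List.range 5).any fun i => run (qs ++ [(mvmQ, mvmK)]) (List.replicate i 7) 519899659641680805127698729222554132
      (fun d => Nat.beq d (cd h2025G j))) = true := by decide +kernel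

theorem fix2025 : ∀ x ∈ orbit mclSub p2025, u5 • x = x → ∃ i < 5, vm ^ i • p2025 = x := by
  intro x hx hu
  obtain ⟨j, hj, hjx⟩ := orbit_list mclSub p2025 (gens := [(myQ, myK), (mvmQ, mvmK)]) (G := h2025G) (N := 2025)
    (c0 := 519899659641680805127698729222554132) rfl (by rw [norm_p2025]; norm_num) (gens_mc mclSub y_mc vm_mem)
    h2025_ok (min_finite.subset (orbit_subset_min norm_p2025)) orb_mc subset_rfl x hx
  have h1 := List.all_eq_true.1 fix2025_chk j (List.mem_range.2 hj)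
  have h2 : fixC (muQ, muK) (cd h2025G j) = true := by
    have := app_of_eq muM muP (d := cd h2025G j) (cd_lt _ _) hjx (by rw [mu_eq, hu]; exact hjx)
    exact this
  rw [h2, Bool.not_true, Bool.false_or] at h1
  obtain ⟨i, hi, h3⟩ := List.any_eq_true.1 h1
  refine ⟨i, List.mem_range.1 hi, ?_⟩
  have hok : okE (List.replicate i 7) = true := by
    unfold okE
    rw [List.all_eq_true]
    intro a ha
    rw [List.eq_of_mem_replicate ha]; rfl
  have h4 := smul_eq_of (act_of_okE mvmM mvmP hok) (x := p2025) (x' := x) (by decide +kernel) rfl hjx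
    (by rw [norm_p2025]; norm_num) h3
  rw [wd_replicate] at h4
  exact h4

/-- centraliser of `u` -/
theorem cent_mc {c : Co0} (hc : c ∈ mclSub) (h : c * u5 = u5 * c) : ∃ i < 5, ∃ j < 5, c = u5 ^ i * vm ^ j := by
  refine cent_u_of (S := mclSub) (fun _ h => h.1) (p := p2025) ?_ vm_mem vm_u ?_ fix2025 hc h
  · intro c hc hp
    refine ⟨hc.2, ?_⟩
    rw [p2025_eq, co0_neg] at hp
    exact neg_injective hp
  · rw [p2025_eq, co0_neg, u5_fix_U']

/-! ### Relations -/

/-- the word of `u^i v^j` -/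
def wV (i j : ℕ) : List ℕ := List.replicate j 7 ++ List.replicate i 2

theorem wd_wV (g : Co0) (i j : ℕ) : wd (gse g) (wV i j) = u5 ^ i * g ^ j := by
  unfold wV
  rw [wd_append, wd_replicate, wd_replicate]
  rfl

/-- the word of `a^2 b^2 a^3 b` -/
def wS (a b : List ℕ) : List ℕ := b ++ ((a ++ (a ++ a)) ++ ((b ++ b) ++ (a ++ a)))

theorem wd_wS (g : Co0) (a b : List ℕ) : wd (gse g) (wS a b) =
    wd (gse g) a ^ 2 * wd (gse g) b ^ 2 * wd (gse g) a ^ 3 * wd (gse g) b := by
  unfold wS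
  simp only [wd_append, pow_succ, pow_zero, one_mul, mul_assoc]

/-- the second relation -/
def wT (k i j : ℕ) : List ℕ := (List.replicate 6 (wS (List.replicate k 1) (wV i j))).flatten

theorem wd_wT (g : Co0) (k i j : ℕ) : wd (gse g) (wT k i j) =
    ((x11 ^ k) ^ 2 * (u5 ^ i * g ^ j) ^ 2 * (x11 ^ k) ^ 3 * (u5 ^ i * g ^ j)) ^ 6 := by
  unfold wT
  rw [wd_pow, wd_wS, wd_wV, wd_replicate]
  rfl

theorem rel_mc : (x11 * vm) ^ 7 = 1 := by
  have h := eq_wdE mvmM mvmP (w7 1 0 1) [] (by decide) (by decide) (by decide +kernel)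
  unfold w7 at h
  rw [wd_pow, wd_wK, wd_nil, pow_one, pow_zero, mul_one, pow_one] at h
  exact h

theorem rel_mc2 : (x11 ^ 2 * vm ^ 2 * x11 ^ 3 * vm) ^ 6 = 1 := by
  have h := eq_wdE mvmM mvmP (wT 1 0 1) [] (by decide) (by decide) (by decide +kernel)
  rw [wd_wT, wd_nil, pow_one, pow_zero, one_mul, pow_one] at h
  exact h

theorem rel_mc_chk : ([1, 10].all fun k => (List.range 5).all fun i => (List.range 5).all fun j =>
    (Nat.beq k 1 && (Nat.beq i 0 && Nat.beq j 1)) || ((Nat.beq k 1 && (Nat.beq i 0 && Nat.beq j 4)) ||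
      ((okE (w7 k i j) && neW (qs ++ [(mvmQ, mvmK)]) (w7 k i j) c1) ||
        (okE (wT k i j) && neW (qs ++ [(mvmQ, mvmK)]) (wT k i j) c1)))) = true := by decide +kernel

theorem rel_mc_cases {k i j : ℕ} (hk : k = 1 ∨ k = 10) (hi : i < 5) (hj : j < 5) (h : (x11 ^ k * (u5 ^ i * vm ^ j)) ^ 7 = 1)
    (h' : ((x11 ^ k) ^ 2 * (u5 ^ i * vm ^ j) ^ 2 * (x11 ^ k) ^ 3 * (u5 ^ i * vm ^ j)) ^ 6 = 1) :
    (k = 1 ∧ i = 0 ∧ j = 1) ∨ (k = 1 ∧ i = 0 ∧ j = 4) := by
  have h1 := List.all_eq_true.1 (List.all_eq_true.1 (List.all_eq_true.1 rel_mc_chk k (by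
    simp only [List.mem_cons, List.not_mem_nil, or_false]; exact hk)) i (List.mem_range.2 hi)) j (List.mem_range.2 hj)
  simp only [Bool.or_eq_true, Bool.and_eq_true, Nat.beq_eq] at h1
  rcases h1 with h1 | h1 | ⟨h1, h2⟩ | ⟨h1, h2⟩
  · exact Or.inl h1
  · exact Or.inr h1
  · exfalso
    apply ne_wdE mvmM mvmP (w7 k i j) h1 h2
    unfold w7
    rw [wd_pow, wd_wK, mul_assoc]
    exact h
  · exfalso
    apply ne_wdE mvmM mvmP (wT k i j) h1 h2
    rw [wd_wT]
    exact h'

/-! ### Generation -/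

theorem ord7_mc : orderOf (x11 * vm) = 7 := by
  have : Fact (Nat.Prime 7) := ⟨by norm_num⟩
  apply orderOf_eq_prime rel_mc
  intro h
  have h2 := ne_wdE mvmM mvmP (wK 1 0 1) (by decide) (by decide +kernel)
  apply h2
  rw [wd_wK, pow_one, pow_zero, mul_one, pow_one]
  exact h

/-- the word of an element of order 3 fixing `p2025` -/
def w3m : List ℕ := [7, 7, 7, 1, 1, 7, 1, 7, 1, 1, 7, 7, 7, 1, 1, 1, 1, 1, 1, 1, 1, 1, 1, 7, 7, 7, 7, 1, 1, 1, 1, 1, 1,
  1, 1, 1, 1, 7, 7, 7, 7]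

theorem w3m_fix : wd (gse vm) w3m • p2025 = p2025 :=
  smul_eq_of (act_of_okE mvmM mvmP (w := w3m) (by decide)) (c := 519899659641680805127698729222554132) (by decide +kernel)
    rfl rfl (by rw [norm_p2025]; norm_num) (by decide +kernel)

theorem ord3_mc : orderOf (wd (gse vm) w3m) = 3 := by
  have : Fact (Nat.Prime 3) := ⟨by norm_num⟩
  apply orderOf_eq_prime
  · rw [← wd_pow]
    exact eq_wdE mvmM mvmP _ [] (by decide) (by decide) (by decide +kernel)
  · exact ne_wdE mvmM mvmP _ (by decide) (by decide +kernel)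

theorem gen_mc : Subgroup.closure ({x11, u5, vm} : Set Co0) = mclSub := by
  obtain ⟨mY, mU, mG⟩ := mem_cl (a := x11) (b := u5) (c := vm)
  have hge : 2025 ≤ (orbit (Subgroup.closure ({x11, u5, vm} : Set Co0)) p2025).ncard :=
    orbit_ge _ p2025 rfl (by rw [norm_p2025]; norm_num) (gens_mc _ mY mG) h2025_ok
      (min_finite.subset (orbit_subset_min norm_p2025))
  have hle : Subgroup.closure ({x11, u5, vm} : Set Co0) ≤ mclSub := by
    rw [Subgroup.closure_le]
    rintro s hs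
    simp only [Set.mem_insert_iff, Set.mem_singleton_iff] at hs
    rcases hs with rfl | rfl | rfl
    · exact y_mc
    · exact u_mc
    · exact vm_mem
  have hcH : Nat.card (Subgroup.closure ({x11, u5, vm} : Set Co0)) =
      2025 * Nat.card (stabilizer (Subgroup.closure ({x11, u5, vm} : Set Co0)) p2025) := by
    have hsub : orbit (Subgroup.closure ({x11, u5, vm} : Set Co0)) p2025 ⊆ orbit mclSub p2025 := by
      rintro _ ⟨h, rfl⟩
      exact ⟨⟨h.1, hle h.2⟩, rfl⟩
    have horb : orbit (Subgroup.closure ({x11, u5, vm} : Set Co0)) p2025 = orbit mclSub p2025 :=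
      Set.eq_of_subset_of_ncard_le hsub (by rw [orb_mc]; exact hge) (min_finite.subset (orbit_subset_min norm_p2025))
    have h1 : (orbit (Subgroup.closure ({x11, u5, vm} : Set Co0)) p2025).ncard = 2025 := by rw [horb, orb_mc]
    have h2 := (stabilizer (Subgroup.closure ({x11, u5, vm} : Set Co0)) p2025).card_mul_index
    rw [MulAction.index_stabilizer, h1] at h2
    rw [← h2, mul_comm]
  have h7 : 7 ∣ Nat.card (stabilizer (Subgroup.closure ({x11, u5, vm} : Set Co0)) p2025) := by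
    have h1 : 7 ∣ Nat.card (Subgroup.closure ({x11, u5, vm} : Set Co0)) :=
      dvd_of_order (Subgroup.mul_mem _ mY mG) ord7_mc
    rw [hcH] at h1
    exact Nat.Coprime.dvd_of_dvd_mul_left (by norm_num) h1
  have h3 : 3 ∣ Nat.card (stabilizer (Subgroup.closure ({x11, u5, vm} : Set Co0)) p2025) := by
    have hm : wd (gse vm) w3m ∈ Subgroup.closure ({x11, u5, vm} : Set Co0) := by
      apply wd_mem
      intro i hi
      have h1 : i = 1 ∨ i = 7 := by
        have h : ∀ i ∈ w3m, i = 1 ∨ i = 7 := by decide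
        exact h i hi
      rcases h1 with rfl | rfl
      · exact mY
      · exact mG
    have h1 : (⟨_, hm⟩ : Subgroup.closure ({x11, u5, vm} : Set Co0)) ∈
        stabilizer (Subgroup.closure ({x11, u5, vm} : Set Co0)) p2025 := w3m_fix
    exact dvd_of_order h1 (by rw [Subgroup.orderOf_mk, ord3_mc])
  refine gen_core (simple_mcl card_mcl) vm_mem y_mc u_mc (n := 2025) (by norm_num) (by rw [card_mcl]) (by
    rw [card_mcl]; decide) (by rw [card_mcl]; norm_num) (fun c hc h => norm_mc hc h) norm_p2025 orb_mc hge ?_ ?_ h3 h7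
  · rw [p2025_eq, co0_neg, x11_fix_U']
  · rw [p2025_eq, co0_neg, u5_fix_U']

/-! ### The outer automorphism -/

theorem tt_inv : tt⁻¹ = tt := inv_eq_of_mul_eq_one_right tt_sq

theorem tt_norm {x : Co0} (hx : x ∈ mclSub) : tt * x * tt ∈ mclSub := by
  have h1 : x • Spor.leechV = Spor.leechV := hx.1
  have h2 : x • Spor.leechU = Spor.leechU := hx.2
  have h3 : tt • (-Spor.leechU - Spor.leechV) = Spor.leechU := by
    rw [← tt_U, ← mul_smul, tt_sq, one_smul]
  constructor
  · show (tt * x * tt) • Spor.leechV = Spor.leechV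
    rw [mul_smul, mul_smul, tt_V, h1, tt_V]
  · show (tt * x * tt) • Spor.leechU = Spor.leechU
    rw [mul_smul, mul_smul, tt_U, co0_sub, co0_neg, h2, h1, h3]

/-- the outer automorphism -/
noncomputable def tauMcL : MulAut mclSub := conjAut mclSub tt (fun _ h => by rw [tt_inv]; exact tt_norm h)
  (fun _ h => by rw [tt_inv]; exact tt_norm h)

theorem vm_sq_ne : vm * vm ≠ 1 := by
  have h := ne_wdE mvmM mvmP [7, 7] (by decide) (by decide +kernel)
  simp only [wd_cons, wd_nil, one_mul] at h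
  exact h

theorem vm_pow : vm ^ 5 = 1 := by
  have h := eq_wdE mvmM mvmP [7, 7, 7, 7, 7] [] (by decide) (by decide) (by decide +kernel)
  simp only [wd_cons, wd_nil, one_mul] at h
  have e : vm ^ 5 = vm * vm * vm * vm * vm := by simp only [pow_succ, pow_zero, one_mul]
  rw [e]
  exact h

theorem tauMcL_notInn : tauMcL ∉ Inn mclSub := by
  rintro ⟨h, hh⟩
  have h1 : (h : Co0) * x11 * (h : Co0)⁻¹ = tt * x11 * tt⁻¹ :=
    congrArg Subtype.val (DFunLike.congr_fun hh (⟨x11, y_mc⟩ : mclSub))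
  have h2 : (h : Co0) * u5 * (h : Co0)⁻¹ = tt * u5 * tt⁻¹ :=
    congrArg Subtype.val (DFunLike.congr_fun hh (⟨u5, u_mc⟩ : mclSub))
  have h3 : (h : Co0) * vm * (h : Co0)⁻¹ = tt * vm * tt⁻¹ :=
    congrArg Subtype.val (DFunLike.congr_fun hh (⟨vm, vm_mem⟩ : mclSub))
  rw [tt_x11, mul_inv_cancel_right] at h1
  rw [tt_u5, mul_inv_cancel_right] at h2
  obtain ⟨i, j, hij⟩ := norm_mc h.2 (mem_zpow (k := 1) (by rw [h1, pow_one]))
  have h4 := k_mul (s := x11 ^ i) (k := 1) (by group) (u5_pow_x11 j)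
  rw [← hij, one_mul, h1] at h4
  have h5 : 4 ^ j % 11 = 1 := by
    have := x11_pow_inj (a := 1) (b := 4 ^ j) (by rw [pow_one]; exact h4)
    omega
  have hu : u5 ^ j = 1 := by
    rw [← Nat.div_add_mod j 5, four_pow_one h5, add_zero, pow_mul, u5_pow, one_pow]
  rw [hu, mul_one] at hij
  -- commuting with `u`
  have h6 : x11 ^ i = x11 ^ (4 * i) := by
    have h7 : x11 ^ i * u5 = u5 * x11 ^ i := by
      rw [← hij]; exact mul_inv_eq_iff_eq_mul.1 h2
    have h8 : u5 * x11 ^ i = x11 ^ (4 * i) * u5 := by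
      rw [← mul_inv_eq_iff_eq_mul, ← conj_pow, u5_x11, ← pow_mul]
    exact mul_right_cancel (h7.trans h8)
  have h7 := x11_pow_inj h6
  have h8 : (h : Co0) = 1 := by
    rw [hij, x11_pow_mod]
    have : i % 11 = 0 := by omega
    rw [this, pow_zero]
  rw [h8, one_mul, inv_one, mul_one, tt_inv, tt_vm] at h3
  apply vm_sq_ne
  have h9 : vm ^ 3 = 1 := by
    have : vm * vm ^ 3 = vm * 1 := by rw [mul_one, ← pow_succ', ← h3]
    exact mul_left_cancel this
  have h10 : vm ^ 5 = vm ^ 3 * (vm * vm) := by simp only [pow_succ, pow_zero, one_mul, mul_assoc]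
  rw [vm_pow, h9, one_mul] at h10
  exact h10.symm

theorem out_mcl : Nat.card (Out mclSub) = 2 := by
  have hy : orderOf (⟨x11, y_mc⟩ : mclSub) = 11 := by rw [Subgroup.orderOf_mk, orderOf_x11]
  apply Rig.out_two (gen_sub vm_mem y_mc u_mc gen_mc) (τ := tauMcL) (hτ := tauMcL_notInn)
    (y' := (⟨x11, y_mc⟩ : mclSub) ^ 1) (u' := ⟨u5, u_mc⟩) (v' := (⟨u5, u_mc⟩ : mclSub) ^ 0 * (⟨vm, vm_mem⟩ : mclSub) ^ 4)
  intro α
  refine Rig.adj hy (by rw [card_mcl]; norm_num) ?_ (Subtype.ext u5_x11) (Subtype.ext u5_pow) (Subtype.ext vm_u) ?_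
    1 0 4 ?_ α
  · intro g hg
    obtain ⟨k, hk⟩ := hg
    obtain ⟨i, j, hij⟩ := norm_mc g.2 ⟨k, congrArg Subtype.val hk⟩
    exact ⟨i, j, Subtype.ext hij⟩
  · intro c hc
    obtain ⟨i, hi, j, hj, hij⟩ := cent_mc c.2 (congrArg Subtype.val hc)
    exact ⟨i, hi, j, hj, Subtype.ext hij⟩
  · intro β k i j hk hi hj h1 _ h3
    have hr : ((⟨x11, y_mc⟩ : mclSub) * ⟨vm, vm_mem⟩) ^ 7 = 1 := Subtype.ext rel_mc
    have hr2 : ((⟨x11, y_mc⟩ : mclSub) ^ 2 * ⟨vm, vm_mem⟩ ^ 2 * (⟨x11, y_mc⟩ : mclSub) ^ 3 * ⟨vm, vm_mem⟩) ^ 6 = 1 :=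
      Subtype.ext rel_mc2
    have h4 := congrArg β hr
    have h5 := congrArg β hr2
    rw [map_pow, map_mul, map_one, h1, h3] at h4
    simp only [map_pow, map_mul, map_one, h1, h3] at h5
    exact rel_mc_cases hk hi hj (congrArg Subtype.val h4) (congrArg Subtype.val h5)

end Cfsg.Agent.H90.Co
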