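import Cfsg.Agent.H90.CoOneRel

/-!
# Every automorphism of `Co1` is inner (owner: helper90)
-/

set_option autoImplicit false

namespace Cfsg.Agent.H90.Co

open Cfsg Cfsg.Agent.Golay Cfsg.Agent.LeechSimple Cfsg.Agent.Leech MulAction
open scoped Pointwise

/-- `Co1` -/
abbrev G1 : Type := Co0 ⧸ Subgroup.center Co0

noncomputable def X1 : G1 := qC x23
noncomputable def Y1 : G1 := qC x11
noncomputable def U1 : G1 := qC u5
noncomputable def T1 : G1 := qC tt
noncomputable def E1 : G1 := qC ee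

theorem X1_pow : X1 ^ 23 = 1 := by
  show qC x23 ^ 23 = 1
  rw [← map_pow, x23_pow_23, map_one]

theorem Y1_pow : Y1 ^ 11 = 1 := by
  show qC x11 ^ 11 = 1
  rw [← map_pow, x11_pow_11, map_one]

theorem U1_pow : U1 ^ 5 = 1 := by
  show qC u5 ^ 5 = 1
  rw [← map_pow, u5_pow, map_one]

theorem x23_ne : x23 ≠ 1 := by
  intro h
  have := orderOf_x23
  rw [h, orderOf_one] at this
  norm_num at this

theorem x11_ne : x11 ≠ 1 := by
  intro h
  have := orderOf_x11
  rw [h, orderOf_one] at this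
  norm_num at this

theorem X1_ord : orderOf X1 = 23 := by
  have : Fact (Nat.Prime 23) := ⟨by norm_num⟩
  apply orderOf_eq_prime X1_pow
  intro h
  exact x23_ne (lift_odd (n := 23) (by norm_num) x23_pow_23 (one_pow _) (h.trans (map_one qC).symm))

theorem Y1_ord : orderOf Y1 = 11 := by
  have : Fact (Nat.Prime 11) := ⟨by norm_num⟩
  apply orderOf_eq_prime Y1_pow
  intro h
  exact x11_ne (lift_odd (n := 11) (by norm_num) x11_pow_11 (one_pow _) (h.trans (map_one qC).symm))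

theorem Y1_inj {a b : ℕ} (h : Y1 ^ a = Y1 ^ b) : a % 11 = b % 11 := by
  have := (pow_inj_mod (x := Y1)).1 h
  rwa [Y1_ord] at this

theorem Y1_mod (a : ℕ) : Y1 ^ a = Y1 ^ (a % 11) := by
  conv_lhs => rw [← Nat.div_add_mod a 11, pow_add, pow_mul, Y1_pow, one_pow, one_mul]

theorem E_sq : E1 * E1 = 1 := by show qC ee * qC ee = 1; rw [← map_mul, ee_sq, map_one]
theorem T_sq : T1 * T1 = 1 := by show qC tt * qC tt = 1; rw [← map_mul, tt_sq, map_one]
theorem ET_cube : (E1 * T1) * ((E1 * T1) * (E1 * T1)) = 1 := by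
  show (qC ee * qC tt) * ((qC ee * qC tt) * (qC ee * qC tt)) = 1
  have h : ee * tt * (ee * tt * (ee * tt)) = negElt := by rw [← et_cube]; simp only [mul_assoc]
  rw [← map_mul, ← map_mul, ← map_mul, h, qC_neg]

theorem E_Y : Commute E1 Y1 := by
  show qC ee * qC x11 = qC x11 * qC ee
  rw [← map_mul, ee_x11, map_mul]
theorem E_U : Commute E1 U1 := by
  show qC ee * qC u5 = qC u5 * qC ee
  rw [← map_mul, ee_u5, map_mul]
theorem T_Y : Commute T1 Y1 := by
  show qC tt * qC x11 = qC x11 * qC tt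
  rw [← map_mul, tt_x11, map_mul]
theorem T_U : Commute T1 U1 := by
  show qC tt * qC u5 = qC u5 * qC tt
  rw [← map_mul, tt_u5, map_mul]

/-- the elements of the subgroup `⟨e, t⟩` -/
def S6 (s : G1) : Prop := s = 1 ∨ s = E1 ∨ s = T1 ∨ s = E1 * T1 * E1 ∨ s = E1 * T1 ∨ s = T1 * E1

theorem S6.commY {s : G1} (h : S6 s) : Commute s Y1 := by
  rcases h with rfl | rfl | rfl | rfl | rfl | rfl
  · exact Commute.one_left _
  · exact E_Y
  · exact T_Y
  · exact (E_Y.mul_left T_Y).mul_left E_Y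
  · exact E_Y.mul_left T_Y
  · exact T_Y.mul_left E_Y

theorem S6.commU {s : G1} (h : S6 s) : Commute s U1 := by
  rcases h with rfl | rfl | rfl | rfl | rfl | rfl
  · exact Commute.one_left _
  · exact E_U
  · exact T_U
  · exact (E_U.mul_left T_U).mul_left E_U
  · exact E_U.mul_left T_U
  · exact T_U.mul_left E_U

theorem ETE_sq : (E1 * T1 * E1) * (E1 * T1 * E1) = 1 := by
  calc (E1 * T1 * E1) * (E1 * T1 * E1) = E1 * (T1 * (E1 * E1) * T1) * E1 := by group
    _ = 1 := by rw [E_sq, mul_one, T_sq, mul_one, E_sq]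

theorem TE_cube : (T1 * E1) * ((T1 * E1) * (T1 * E1)) = 1 := by
  calc (T1 * E1) * ((T1 * E1) * (T1 * E1)) = E1 * E1 * ((T1 * E1) * ((T1 * E1) * (T1 * E1))) := by rw [E_sq, one_mul]
    _ = E1 * ((E1 * T1) * ((E1 * T1) * (E1 * T1))) * E1 := by simp only [mul_assoc]
    _ = 1 := by rw [ET_cube, mul_one, E_sq]

theorem S6.sq_or_cube {s : G1} (h : S6 s) : s * s = 1 ∨ s * (s * s) = 1 := by
  rcases h with rfl | rfl | rfl | rfl | rfl | rfl
  · left; exact one_mul _
  · left; exact E_sq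
  · left; exact T_sq
  · left; exact ETE_sq
  · right; exact ET_cube
  · right; exact TE_cube

theorem S6.of_five {s : G1} (h : S6 s) (h5 : s ^ 5 = 1) : s = 1 := by
  rcases h.sq_or_cube with h1 | h1
  · have : s ^ 5 = s * s * (s * s) * s := by simp only [pow_succ, pow_zero, one_mul, mul_assoc]
    rw [this, h1, one_mul, one_mul] at h5
    exact h5
  · have : s ^ 5 = s * (s * s) * (s * s) := by simp only [pow_succ, pow_zero, one_mul, mul_assoc]
    rw [this, h1, one_mul] at h5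
    rw [h5, mul_one] at h1
    exact h1

/-- an involution of `⟨e, t⟩` -/
theorem S6.inv_cases {s : G1} (h : S6 s) (h2 : s * s = 1) (h1 : s ≠ 1) : s = E1 ∨ s = T1 ∨ s = E1 * T1 * E1 := by
  rcases h with h | h | h | h | h | h
  · exact absurd h h1
  · exact Or.inl h
  · exact Or.inr (Or.inl h)
  · exact Or.inr (Or.inr h)
  · exfalso
    have h3 := ET_cube
    rw [← h, h2, mul_one] at h3
    exact h1 h3
  · exfalso
    have h3 := TE_cube
    rw [← h, h2, mul_one] at h3
    exact h1 h3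

/-- the centraliser of `Y1` -/
theorem cent_G1 {c : G1} (hc : c * Y1 = Y1 * c) : ∃ i : ℕ, ∃ s, S6 s ∧ c = Y1 ^ i * s := by
  obtain ⟨h, rfl⟩ := QuotientGroup.mk'_surjective (Subgroup.center Co0) c
  have h1 : qC (h * x11 * h⁻¹) = qC x11 := by
    rw [map_mul, map_mul, map_inv]
    show qC h * Y1 * (qC h)⁻¹ = Y1
    rw [mul_inv_eq_iff_eq_mul]; exact hc
  have h2 : h * x11 * h⁻¹ = x11 :=
    lift_odd (n := 11) (by norm_num) (by rw [conj_pow, x11_pow_11, mul_one, mul_inv_cancel]) x11_pow_11 h1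
  obtain ⟨i, a, b, d, ha, hb, hd, hh⟩ := cent_co0 (mul_inv_eq_iff_eq_mul.1 h2)
  refine ⟨i, qC a * qC b, ?_, ?_⟩
  · rcases ha with rfl | rfl <;> rcases hb with rfl | rfl | rfl
    · left; rw [map_one, mul_one]
    · right; right; left; rw [map_one, one_mul]; rfl
    · right; right; right; right; right; rw [map_one, one_mul, map_mul]; rfl
    · right; left; rw [map_one, mul_one]; rfl
    · right; right; right; right; left; rfl
    · right; right; right; left; rw [map_mul, ← mul_assoc]; rfl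
  · have hd1 : qC d = 1 := by
      rcases hd with rfl | rfl
      · exact map_one _
      · exact qC_neg
    change qC h = qC x11 ^ i * (qC a * qC b)
    rw [hh, map_mul, hd1, mul_one, map_mul, map_mul, map_pow, mul_assoc]

theorem lift_zpow11 {g : Co0} (h : qC g * qC x11 * (qC g)⁻¹ ∈ Subgroup.zpowers (qC x11)) :
    ∃ k < 11, qC g * Y1 * (qC g)⁻¹ = Y1 ^ k := by
  obtain ⟨k, hk, hk2⟩ := Rig.pow_of_mem (by norm_num) Y1_ord h
  exact ⟨k, hk, hk2⟩

theorem U_Y : U1 * Y1 * U1⁻¹ = Y1 ^ 4 := by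
  show qC u5 * qC x11 * (qC u5)⁻¹ = qC x11 ^ 4
  rw [← map_inv, ← map_mul, ← map_mul, u5_x11, map_pow]

theorem U_Yi (i : ℕ) : U1 * Y1 ^ i = Y1 ^ (4 * i) * U1 := by
  rw [← mul_inv_eq_iff_eq_mul, ← conj_pow, U_Y, ← pow_mul]

theorem YU_pow (a n : ℕ) : ∃ f : ℕ, 3 * f + a = a * 4 ^ n ∧ (Y1 ^ a * U1) ^ n = Y1 ^ f * U1 ^ n := by
  induction n with
  | zero => exact ⟨0, by simp, by simp⟩
  | succ n ih =>
    obtain ⟨f, hf, hn⟩ := ih
    refine ⟨a + 4 * f, by rw [pow_succ]; linarith, ?_⟩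
    rw [pow_succ', hn, pow_succ' U1, pow_add]
    calc Y1 ^ a * U1 * (Y1 ^ f * U1 ^ n) = Y1 ^ a * (U1 * Y1 ^ f) * U1 ^ n := by simp only [mul_assoc]
      _ = Y1 ^ a * Y1 ^ (4 * f) * (U1 * U1 ^ n) := by rw [U_Yi]; simp only [mul_assoc]

theorem UY_five (i : ℕ) : (U1 * Y1 ^ i) ^ 5 = 1 := by
  rw [U_Yi]
  obtain ⟨f, hf, hn⟩ := YU_pow (4 * i) 5
  rw [hn, U1_pow, mul_one, Y1_mod]
  have : f % 11 = 0 := by norm_num at hf; omega
  rw [this, pow_zero]

theorem norm23_G1 {g : G1} (h : g * X1 * g⁻¹ ∈ Subgroup.zpowers X1) : ∃ a b : ℕ, g = X1 ^ a * Y1 ^ b := by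
  obtain ⟨h0, rfl⟩ := QuotientGroup.mk'_surjective (Subgroup.center Co0) g
  obtain ⟨a, b, hab | hab⟩ := norm23 (lift_normalizer h)
  · exact ⟨a, b, by rw [hab, map_mul, map_pow, map_pow]; rfl⟩
  · refine ⟨a, b, ?_⟩
    have : qC h0 = qC x23 ^ a * qC x11 ^ b := by
      rw [hab, map_mul, qC_neg, one_mul, map_mul, map_pow, map_pow]
    exact this

/-- an element commuting with `Y1` and `U1` -/
theorem cent_YU {c : G1} (hY : c * Y1 = Y1 * c) (hU : c * U1 = U1 * c) : S6 c := by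
  obtain ⟨i, s, hs, rfl⟩ := cent_G1 hY
  have h1 : Y1 ^ i = Y1 ^ (4 * i) := by
    have h2 : Y1 ^ i * s * U1 = Y1 ^ i * U1 * s := by rw [mul_assoc, hs.commU.eq, ← mul_assoc]
    rw [h2, ← mul_assoc, U_Yi] at hU
    exact mul_right_cancel (mul_right_cancel hU)
  have h3 := Y1_inj h1
  have h4 : Y1 ^ i = 1 := by
    rw [Y1_mod]
    have : i % 11 = 0 := by omega
    rw [this, pow_zero]
  rw [h4, one_mul]
  exact hs

theorem fA_E : fA X1 E1 = 1 := by
  show fA (qC x23) (qC ee) = 1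
  rw [← map_fA, fA_e, map_one]
theorem fA_T : fA X1 T1 ≠ 1 := by
  show fA (qC x23) (qC tt) ≠ 1
  rw [← map_fA]; exact fA_t
theorem fA_ETE : fA X1 (E1 * T1 * E1) ≠ 1 := by
  show fA (qC x23) (qC ee * qC tt * qC ee) ≠ 1
  rw [← map_mul, ← map_mul, ← map_fA]; exact fA_ete
theorem fB_T : fB X1 Y1 T1 = 1 := by
  show fB (qC x23) (qC x11) (qC tt) = 1
  rw [← map_fB, fB_t, map_one]
theorem fB_ETE : fB X1 Y1 (E1 * T1 * E1) ≠ 1 := by
  show fB (qC x23) (qC x11) (qC ee * qC tt * qC ee) ≠ 1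
  rw [← map_mul, ← map_mul, ← map_fB]; exact fB_ete

theorem neg_notMem_G3 : negElt ∉ stabilizer Co0 Spor.leechV := fun h => neg_ne V_ne_zero h

theorem kill_mod : ∀ k < 11, k ≠ 0 → ∃ a < 5, ∃ b < 2, (k * (4 ^ a * 10 ^ b)) % 11 = 1 := by decide

/-- **Generation of `Co1`.** -/
theorem gen_G1 : Subgroup.closure ({X1, Y1, U1, T1, E1} : Set G1) = ⊤ := by
  set H : Subgroup G1 := Subgroup.closure ({X1, Y1, U1, T1, E1} : Set G1) with hH
  have mX : X1 ∈ H := Subgroup.subset_closure (by simp)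
  have mY : Y1 ∈ H := Subgroup.subset_closure (by simp)
  have mU : U1 ∈ H := Subgroup.subset_closure (by simp)
  have mT : T1 ∈ H := Subgroup.subset_closure (by simp)
  have mE : E1 ∈ H := Subgroup.subset_closure (by simp)
  have mS : ∀ s, S6 s → s ∈ H := by
    rintro s (rfl | rfl | rfl | rfl | rfl | rfl)
    · exact H.one_mem
    · exact mE
    · exact mT
    · exact H.mul_mem (H.mul_mem mE mT) mE
    · exact H.mul_mem mE mT
    · exact H.mul_mem mT mE
  -- the image of `Co3`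
  have hG3 : (stabilizer Co0 Spor.leechV).map qC ≤ H := by
    rintro _ ⟨g, hg, rfl⟩
    have h1 : (⟨g, hg⟩ : G3) ∈ Subgroup.closure ({X3, Y3, U3, T3'} : Set G3) := by rw [gen_G3]; exact Subgroup.mem_top _
    have h2 : Subgroup.closure ({X3, Y3, U3, T3'} : Set G3) ≤ H.comap (qC.comp (stabilizer Co0 Spor.leechV).subtype) := by
      rw [Subgroup.closure_le]
      intro s hs
      simp only [Set.mem_insert_iff, Set.mem_singleton_iff] at hs
      rcases hs with rfl | rfl | rfl | rfl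
      · exact mX
      · exact mY
      · exact mU
      · exact mT
    exact h2 h1
  have hc3 : Nat.card ((stabilizer Co0 Spor.leechV).map qC) = 495766656000 := by
    rw [← card_G3]
    exact (Nat.card_congr (imEquiv neg_notMem_G3).toEquiv).symm
  have hd3 : 495766656000 ∣ Nat.card H := by
    rw [← hc3]; exact Subgroup.card_dvd_of_le hG3
  have : Fact (Nat.Prime 23) := ⟨by norm_num⟩
  have : Fact (Nat.Prime 11) := ⟨by norm_num⟩
  have i23 : H.index % 23 = 1 := by
    refine Rig.index_mod X1_ord (by rw [card_co1]; norm_num) H mX fun g hg => ?_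
    obtain ⟨a, b, hab⟩ := norm23_G1 hg
    rw [hab]
    exact H.mul_mem (H.pow_mem mX a) (H.pow_mem mY b)
  -- an element of `H` inverting `Y1`
  have hinv : ∃ j ∈ H, j * Y1 * j⁻¹ = Y1⁻¹ := by
    have mW : qC bb ∈ H := by
      unfold bb
      rw [map_mul, map_mul, map_inv, map_mul, map_mul, map_mul, map_mul]
      have : qC x23 * qC tt * qC ee * qC tt * qC x23 ∈ H :=
        H.mul_mem (H.mul_mem (H.mul_mem (H.mul_mem mX mT) mE) mT) mX
      exact H.mul_mem (H.mul_mem this mT) (H.inv_mem this)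
    set Y' : G1 := E1 * qC bb with hY'
    have mY' : Y' ∈ H := H.mul_mem mE mW
    have oY' : orderOf Y' = 11 := by
      apply orderOf_eq_prime
      · show (qC ee * qC bb) ^ 11 = 1
        rw [← map_mul, ← map_pow, eb_pow, qC_neg]
      · show qC ee * qC bb ≠ 1
        rw [← map_mul]; exact eb_ne
    have hb2 : qC bb * qC bb = 1 := by rw [← map_mul, bb_sq, map_one]
    have hEY : E1 * Y' * E1⁻¹ = Y'⁻¹ := by
      have t1 : E1⁻¹ = E1 := inv_eq_of_mul_eq_one_right E_sq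
      have t2 : (qC bb)⁻¹ = qC bb := inv_eq_of_mul_eq_one_right hb2
      rw [hY', mul_inv_rev, t1, t2, ← mul_assoc, E_sq, one_mul]
    have oy : orderOf (⟨Y1, mY⟩ : H) = 11 := by rw [Subgroup.orderOf_mk, Y1_ord]
    have oy' : orderOf (⟨Y', mY'⟩ : H) = 11 := by rw [Subgroup.orderOf_mk, oY']
    have h121 : ¬ 11 * 11 ∣ Nat.card H := by
      intro h
      have := h.trans H.card_subgroup_dvd_card
      rw [card_co1] at this
      norm_num at this
    obtain ⟨h, hh⟩ := Rig.exists_conj oy oy' h121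
    obtain ⟨l, hl, hl2⟩ := Rig.pow_of_mem (by norm_num) oy hh
    have hl3 : (h : G1) * Y' * (h : G1)⁻¹ = Y1 ^ l := congrArg Subtype.val hl2
    have hl0 : l ≠ 0 := by
      intro h0
      rw [h0, pow_zero, mul_inv_eq_one, mul_eq_left] at hl3
      rw [hl3, orderOf_one] at oY'
      norm_num at oY'
    obtain ⟨l', -, hl'⟩ := exists_inv_mod l hl hl0
    have hyl : (Y1 ^ l) ^ l' = Y1 := by rw [← pow_mul, Y1_mod, hl', pow_one]
    refine ⟨(h : G1) * E1 * (h : G1)⁻¹, H.mul_mem (H.mul_mem h.2 mE) (H.inv_mem h.2), ?_⟩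
    have h5 : ((h : G1) * E1 * (h : G1)⁻¹) * Y1 ^ l * ((h : G1) * E1 * (h : G1)⁻¹)⁻¹ = (Y1 ^ l)⁻¹ := by
      rw [← hl3]
      calc (h : G1) * E1 * (h : G1)⁻¹ * ((h : G1) * Y' * (h : G1)⁻¹) * ((h : G1) * E1 * (h : G1)⁻¹)⁻¹
          = (h : G1) * (E1 * Y' * E1⁻¹) * (h : G1)⁻¹ := by group
        _ = ((h : G1) * Y' * (h : G1)⁻¹)⁻¹ := by rw [hEY]; group
    have h6 : ((h : G1) * E1 * (h : G1)⁻¹) * (Y1 ^ l) ^ l' * ((h : G1) * E1 * (h : G1)⁻¹)⁻¹ = ((Y1 ^ l) ^ l')⁻¹ := by
      rw [← conj_pow, h5, inv_pow]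
    rw [hyl] at h6
    exact h6
  have i11 : H.index % 11 = 1 := by
    refine Rig.index_mod Y1_ord (by rw [card_co1]; norm_num) H mY fun g hg => ?_
    obtain ⟨j, hj, hjY⟩ := hinv
    have hjY' : j * Y1 * j⁻¹ = Y1 ^ 10 := by
      rw [hjY, inv_eq_iff_mul_eq_one, ← pow_succ']; exact Y1_pow
    obtain ⟨k, hk, hgk⟩ := Rig.pow_of_mem (by norm_num) Y1_ord hg
    have hk0 : k ≠ 0 := by
      intro h0
      rw [h0, pow_zero, mul_inv_eq_one, mul_eq_left] at hgk
      have := Y1_ord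
      rw [hgk, orderOf_one] at this
      norm_num at this
    obtain ⟨a, -, b, -, hab⟩ := kill_mod k hk hk0
    have hUa : ∀ a : ℕ, U1 ^ a * Y1 * (U1 ^ a)⁻¹ = Y1 ^ (4 ^ a) := by
      intro a
      induction a with
      | zero => simp
      | succ a ih =>
        rw [pow_succ', mul_inv_rev]
        calc U1 * U1 ^ a * Y1 * ((U1 ^ a)⁻¹ * U1⁻¹) = U1 * (U1 ^ a * Y1 * (U1 ^ a)⁻¹) * U1⁻¹ := by group
          _ = Y1 ^ (4 ^ (a + 1)) := by rw [ih, ← conj_pow, U_Y, ← pow_mul, pow_succ']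
    have hjb : ∀ a : ℕ, j ^ a * Y1 * (j ^ a)⁻¹ = Y1 ^ (10 ^ a) := by
      intro a
      induction a with
      | zero => simp
      | succ a ih =>
        rw [pow_succ', mul_inv_rev]
        calc j * j ^ a * Y1 * ((j ^ a)⁻¹ * j⁻¹) = j * (j ^ a * Y1 * (j ^ a)⁻¹) * j⁻¹ := by group
          _ = Y1 ^ (10 ^ (a + 1)) := by rw [ih, ← conj_pow, hjY', ← pow_mul, pow_succ']
    have h1 : (j ^ b * U1 ^ a * g) * Y1 * (j ^ b * U1 ^ a * g)⁻¹ = Y1 := by
      calc (j ^ b * U1 ^ a * g) * Y1 * (j ^ b * U1 ^ a * g)⁻¹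
          = j ^ b * (U1 ^ a * (g * Y1 * g⁻¹) * (U1 ^ a)⁻¹) * (j ^ b)⁻¹ := by group
        _ = Y1 ^ (10 ^ b * (4 ^ a * k)) := by
          rw [hgk, ← conj_pow, hUa, ← pow_mul, ← conj_pow, hjb, ← pow_mul]
        _ = Y1 := by
          rw [Y1_mod]
          have : 10 ^ b * (4 ^ a * k) % 11 = 1 := by rw [← hab]; congr 1; ring
          rw [this, pow_one]
    obtain ⟨i, s, hs, his⟩ := cent_G1 (mul_inv_eq_iff_eq_mul.1 h1)
    have h2 : g = (j ^ b * U1 ^ a)⁻¹ * (Y1 ^ i * s) := by rw [← his]; group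
    rw [h2]
    exact H.mul_mem (H.inv_mem (H.mul_mem (H.pow_mem hj b) (H.pow_mem mU a))) (H.mul_mem (H.pow_mem mY i) (mS s hs))
  have hmul := H.index_mul_card
  rw [card_co1] at hmul
  obtain ⟨k, hk⟩ := hd3
  have hd1 : H.index ∣ (2 ^ 11 * (3 ^ 2 * (5 ^ 1 * 7 ^ 1))) * 13 := by
    have h2 : H.index * k * 495766656000 = (2 ^ 11 * (3 ^ 2 * (5 ^ 1 * 7 ^ 1))) * 13 * 495766656000 := by
      have : H.index * k * 495766656000 = H.index * (495766656000 * k) := by ring
      rw [this, ← hk, hmul]; norm_num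
    exact Dvd.intro _ (Nat.eq_of_mul_eq_mul_right (by norm_num) h2)
  obtain ⟨k1, k2, hk1, hk2, hn⟩ := dvd_two hd1
  obtain ⟨a, ha, b, hb, c, hc', d, hd, hn1⟩ := dvd_four hk1
  have hn2 : k2 = 1 ∨ k2 = 13 := (Nat.dvd_prime (by norm_num)).1 hk2
  have hall : ((List.range 12).all fun a => (List.range 3).all fun b => (List.range 2).all fun c =>
      (List.range 2).all fun d => [1, 13].all fun e =>
      !(Nat.beq ((2 ^ a * (3 ^ b * (5 ^ c * 7 ^ d))) * e % 253) 1) || Nat.beq ((2 ^ a * (3 ^ b * (5 ^ c * 7 ^ d))) * e) 1) =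
      true := by decide +kernel
  have h1 := List.all_eq_true.1 (List.all_eq_true.1 (List.all_eq_true.1 (List.all_eq_true.1 (List.all_eq_true.1 hall a
    (List.mem_range.2 ha)) b (List.mem_range.2 hb)) c (List.mem_range.2 hc')) d (List.mem_range.2 hd)) k2
    (by simp only [List.mem_cons, List.not_mem_nil, or_false]; exact hn2)
  have h253 : H.index % 253 = 1 := by omega
  rw [← hn1, ← hn, h253, Bool.or_eq_true] at h1
  rcases h1 with h1 | h1
  · simp at h1
  · exact Subgroup.index_eq_one.1 (Nat.eq_of_beq_eq_true h1)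

/-- Every automorphism of `Co1` is inner. -/
theorem aut_G1 (α : MulAut G1) : α ∈ Inn G1 := by
  obtain ⟨g, h1, h2, h3⟩ := Rig.rigid (x := X1) (y := Y1) (u := U1) X1_ord (by rw [card_co1]; norm_num)
    (fun g hg => norm23_G1 hg)
    Y1_pow
    (by
      show qC x11 * qC x23 * (qC x11)⁻¹ = qC x23 ^ 2
      rw [← map_inv, ← map_mul, ← map_mul, x11_x23, map_pow])
    U_Y U1_pow
    (by
      intro c hc1 hc2
      obtain ⟨i, s, hs, rfl⟩ := cent_G1 hc1
      have hcom : Commute (U1 * Y1 ^ i) s := Commute.mul_left hs.commU.symm (hs.commY.symm.pow_left i)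
      rw [← mul_assoc, hcom.mul_pow, UY_five, one_mul] at hc2
      exact ⟨i, by rw [hs.of_five hc2, mul_one]⟩)
    (by
      intro β m i hm hi hx hy hu
      have hr : (X1 ^ 8 * U1 ^ 2) ^ 4 = 1 := by
        show (qC x23 ^ 8 * qC u5 ^ 2) ^ 4 = 1
        rw [← map_pow, ← map_pow, ← map_mul, ← map_pow, rel_one, map_one]
      have h1 := congrArg β hr
      rw [map_pow, map_mul, map_pow, map_pow, map_one, hx, hu] at h1
      have h2 : qC (((x23 ^ m) ^ 8 * (u5 * x11 ^ i) ^ 2) ^ 4) = 1 := by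
        rw [map_pow, map_mul, map_pow, map_pow, map_pow, map_mul, map_pow]
        exact h1
      rcases qC_one h2 with h3 | h3
      · exact rel_cases hm hi h3
      · exfalso
        apply neg_ne V_ne_zero
        rw [← h3]
        apply smul_of_pow
        rw [mul_smul, smul_of_pow (show (u5 * x11 ^ i) • Spor.leechV = Spor.leechV by
          rw [mul_smul, smul_of_pow x11_fix_V, u5_fix_V]), smul_of_pow (smul_of_pow x23_fix_V m)])
    α
  refine mem_inn_of_fix gen_G1 (g := g) ?_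
  set β := MulAut.conj g * α with hβ
  have hcY : ∀ s, Commute s Y1 → β s * Y1 = Y1 * β s := by
    intro s hs
    have := congrArg β hs.eq
    rwa [map_mul, map_mul, h2] at this
  have hcU : ∀ s, Commute s U1 → β s * U1 = U1 * β s := by
    intro s hs
    have := congrArg β hs.eq
    rwa [map_mul, map_mul, h3] at this
  have key : ∀ s, s * s = 1 → s ≠ 1 → Commute s Y1 → Commute s U1 →
      β s = E1 ∨ β s = T1 ∨ β s = E1 * T1 * E1 := by
    intro s hs2 hs1 hsY hsU
    apply (cent_YU (hcY s hsY) (hcU s hsU)).inv_cases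
    · rw [← map_mul, hs2, map_one]
    · intro h
      exact hs1 (β.injective (h.trans (map_one β).symm))
  have hE1 : E1 ≠ 1 := ee_ne
  have hT1 : T1 ≠ 1 := by
    intro h
    apply fA_T
    rw [h]
    unfold fA
    rw [one_mul, mul_one, ← pow_succ', X1_pow, one_pow]
  have hET : E1 ≠ T1 := by
    intro h
    apply fA_T
    rw [← h]; exact fA_E
  have hβE : β E1 = E1 := by
    have h4 : fA X1 (β E1) = 1 := by
      have := congrArg β fA_E
      rw [map_one] at this
      have h5 := map_fA β.toMonoidHom X1 E1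
      change β (fA X1 E1) = fA (β X1) (β E1) at h5
      rw [h1] at h5
      rw [← h5, this]
    rcases key E1 E_sq hE1 E_Y E_U with h5 | h5 | h5
    · exact h5
    · rw [h5] at h4; exact absurd h4 fA_T
    · rw [h5] at h4; exact absurd h4 fA_ETE
  have hβT : β T1 = T1 := by
    have h4 : fB X1 Y1 (β T1) = 1 := by
      have := congrArg β fB_T
      rw [map_one] at this
      have h5 := map_fB β.toMonoidHom X1 Y1 T1
      change β (fB X1 Y1 T1) = fB (β X1) (β Y1) (β T1) at h5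
      rw [h1, h2] at h5
      rw [← h5, this]
    rcases key T1 T_sq hT1 T_Y T_U with h5 | h5 | h5
    · exact absurd (β.injective (h5.trans hβE.symm)) hET.symm
    · exact h5
    · rw [h5] at h4; exact absurd h4 fB_ETE
  intro s hs
  simp only [Set.mem_insert_iff, Set.mem_singleton_iff] at hs
  rcases hs with rfl | rfl | rfl | rfl | rfl
  · exact h1
  · exact h2
  · exact h3
  · exact hβT
  · exact hβE

end Cfsg.Agent.H90.Co
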