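import Cfsg.Agent.H90.MathieuIdx
import Cfsg.Agent.H90.AutPerm
import Cfsg.Prelude.Def_KGroupFacts
import Cfsg.Prelude.Def_Spor_Mathieu

/-!
# Outer automorphism groups of the large Mathieu groups (owner: helper90)
-/

set_option autoImplicit false

namespace Cfsg.Agent.H90

open Cfsg Cfsg.Agent.Golay
open scoped Pointwise

/-! ### transitivity -/

theorem m24_map4 {a b c d : GolayPt} (hab : a ≠ b) (hac : a ≠ c) (had : a ≠ d)
    (hbc : b ≠ c) (hbd : b ≠ d) (hcd : c ≠ d)
    {a' b' c' d' : GolayPt} (hab' : a' ≠ b') (hac' : a' ≠ c') (had' : a' ≠ d')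
    (hbc' : b' ≠ c') (hbd' : b' ≠ d') (hcd' : c' ≠ d') :
    ∃ σ ∈ M24, σ a = a' ∧ σ b = b' ∧ σ c = c' ∧ σ d = d' := by
  have hfresh : ∀ s : Finset GolayPt, s.card < 24 → ∃ p, p ∉ s := by
    intro s hs
    by_contra h
    push Not at h
    have : s = Finset.univ := Finset.eq_univ_of_forall h
    rw [this, Finset.card_univ, card_golayPt] at hs
    exact lt_irrefl _ hs
  obtain ⟨e, he⟩ := hfresh {a, b, c, d} (lt_of_le_of_lt Finset.card_le_four (by norm_num))
  obtain ⟨e', he'⟩ := hfresh {a', b', c', d'} (lt_of_le_of_lt Finset.card_le_four (by norm_num))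
  simp only [Finset.mem_insert, Finset.mem_singleton, not_or] at he he'
  have hinj : ∀ {a b c d e : GolayPt}, a ≠ b → a ≠ c → a ≠ d → a ≠ e → b ≠ c → b ≠ d → b ≠ e → c ≠ d →
      c ≠ e → d ≠ e → Function.Injective (![a, b, c, d, e] : Fin 5 → GolayPt) := by
    intro a b c d e h1 h2 h3 h4 h5 h6 h7 h8 h9 h10 x y hxy
    fin_cases x <;> fin_cases y <;> simp at hxy ⊢ <;> first | exact absurd hxy ‹_› | exact absurd hxy.symm ‹_›
  obtain ⟨σ, hσ, h⟩ := M24_exists_map ![a, b, c, d, e] ![a', b', c', d', e']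
    (hinj hab hac had (Ne.symm he.1) hbc hbd (Ne.symm he.2.1) hcd (Ne.symm he.2.2.1) (Ne.symm he.2.2.2))
    (hinj hab' hac' had' (Ne.symm he'.1) hbc' hbd' (Ne.symm he'.2.1) hcd' (Ne.symm he'.2.2.1)
      (Ne.symm he'.2.2.2))
  exact ⟨σ, hσ, h 0, h 1, h 2, h 3⟩

theorem m24_map3 {a b c : GolayPt} (hab : a ≠ b) (hac : a ≠ c) (hbc : b ≠ c)
    {a' b' c' : GolayPt} (hab' : a' ≠ b') (hac' : a' ≠ c') (hbc' : b' ≠ c') :
    ∃ σ ∈ M24, σ a = a' ∧ σ b = b' ∧ σ c = c' := by
  have hfresh : ∀ s : Finset GolayPt, s.card < 24 → ∃ p, p ∉ s := by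
    intro s hs
    by_contra h
    push Not at h
    have : s = Finset.univ := Finset.eq_univ_of_forall h
    rw [this, Finset.card_univ, card_golayPt] at hs
    exact lt_irrefl _ hs
  obtain ⟨e, he⟩ := hfresh {a, b, c} (lt_of_le_of_lt Finset.card_le_three (by norm_num))
  obtain ⟨e', he'⟩ := hfresh {a', b', c'} (lt_of_le_of_lt Finset.card_le_three (by norm_num))
  simp only [Finset.mem_insert, Finset.mem_singleton, not_or] at he he'
  obtain ⟨σ, hσ, h1, h2, h3, -⟩ := m24_map4 (d := e) (d' := e') hab hac (Ne.symm he.1) hbc (Ne.symm he.2.1)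
    (Ne.symm he.2.2) hab' hac' (Ne.symm he'.1) hbc' (Ne.symm he'.2.1) (Ne.symm he'.2.2)
  exact ⟨σ, hσ, h1, h2, h3⟩

theorem exists_ne3 (a b c : GolayPt) : ∃ r, r ≠ a ∧ r ≠ b ∧ r ≠ c := by
  by_contra h
  push Not at h
  have h1 : ({a, b, c} : Finset GolayPt) = Finset.univ := by
    apply Finset.eq_univ_of_forall
    intro x
    rw [Finset.mem_insert, Finset.mem_insert, Finset.mem_singleton]
    by_cases h2 : x = a
    · exact Or.inl h2
    · by_cases h3 : x = b
      · exact Or.inr (Or.inl h3)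
      · exact Or.inr (Or.inr (h x h2 h3))
  have h2 := Finset.card_le_three (a := a) (b := b) (c := c)
  rw [h1, Finset.card_univ, card_golayPt] at h2
  omega

theorem exists_ne4 (a b c d : GolayPt) : ∃ r, r ≠ a ∧ r ≠ b ∧ r ≠ c ∧ r ≠ d := by
  by_contra h
  push Not at h
  have h1 : ({a, b, c, d} : Finset GolayPt) = Finset.univ := by
    apply Finset.eq_univ_of_forall
    intro x
    rw [Finset.mem_insert, Finset.mem_insert, Finset.mem_insert, Finset.mem_singleton]
    by_cases h2 : x = a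
    · exact Or.inl h2
    · by_cases h3 : x = b
      · exact Or.inr (Or.inl h3)
      · by_cases h4 : x = c
        · exact Or.inr (Or.inr (Or.inl h4))
        · exact Or.inr (Or.inr (Or.inr (h x h2 h3 h4)))
  have h2 := Finset.card_le_four (a := a) (b := b) (c := c) (d := d)
  rw [h1, Finset.card_univ, card_golayPt] at h2
  omega

/-! ### Octads and conjugation -/

theorem octad_of_conj {π : Equiv.Perm GolayPt} {O : Finset GolayPt} (hO : O ∈ octads)
    (h : ∀ σ ∈ fixM24 O, π * σ * π⁻¹ ∈ M24) : π • O ∈ octads := by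
  have hc := card_fixM24_octad hO
  obtain ⟨σ, hσ, hne⟩ : ∃ σ ∈ fixM24 O, σ ≠ 1 := by
    by_contra hcon
    push Not at hcon
    have : fixM24 O = ⊥ := (Subgroup.eq_bot_iff_forall _).2 hcon
    rw [this, Subgroup.card_bot] at hc
    omega
  have h2 := fixM24_octad_square hO hσ
  have hσ24 := (mem_fixM24.1 hσ).1
  obtain ⟨p, hp⟩ : ∃ p, p ∈ O := by
    have : O.Nonempty := by rw [← Finset.card_pos, card_octad hO]; norm_num
    exact this
  have h3 := inv_fix_octad hσ24 h2 hne ((mem_fixM24.1 hσ).2 p hp)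
  have h4 : O = fixS σ := by
    apply Finset.eq_of_subset_of_card_le
    · intro q hq; exact mem_fixS.2 ((mem_fixM24.1 hσ).2 q hq)
    · rw [card_octad h3, card_octad hO]
  rw [h4, ← fixS_conj]
  apply inv_fix_octad (h σ hσ) (p := π p)
  · have : π * σ * π⁻¹ * (π * σ * π⁻¹) = π * (σ * σ) * π⁻¹ := by group
    rw [this, h2]; group
  · intro h5
    apply hne
    have : σ = π⁻¹ * (π * σ * π⁻¹) * π := by group
    rw [this, h5]; group
  · show π (σ (π⁻¹ (π p))) = π p
    rw [show π⁻¹ (π p) = p from π.symm_apply_apply p, (mem_fixM24.1 hσ).2 p hp]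

/-! ### Generation of the code -/

abbrev cS : Set (Finset GolayPt) := supports (golayCode : Set (GolayPt → ZMod 2))

theorem span_induct {P : Finset GolayPt → Prop} (h0 : P ∅) (hd : ∀ s t, P s → P t → P (symmDiff s t))
    (l : List ℕ) (hl : ∀ b ∈ l, P (ofMask b)) (ns : List ℕ) (hspan : codeBasis = ns.map (lin l)) :
    ∀ s ∈ cS, P s := by
  have hlin : ∀ (l : List ℕ), (∀ b ∈ l, P (ofMask b)) → ∀ n, P (ofMask (lin l n)) := by
    intro l
    induction l with
    | nil => intro _ n; simp only [lin, ofMask_zero]; exact h0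
    | cons x xs ih =>
      intro hl n
      simp only [lin]
      rw [ofMask_xor]
      apply hd
      · split_ifs
        · exact hl x List.mem_cons_self
        · rw [ofMask_zero]; exact h0
      · exact ih (fun b hb => hl b (List.mem_cons_of_mem _ hb)) _
  have hb : ∀ b ∈ codeBasis, P (ofMask b) := by
    intro b hb
    rw [hspan, List.mem_map] at hb
    obtain ⟨n, _, rfl⟩ := hb
    exact hlin l hl n
  intro s hs
  have h := mem_supports_iff.1 hs
  rw [← ofMask_maskOf s, ← inCode_def.1 h, enc_eq, ofMask_xor]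
  exact hd _ _ (hlin _ (fun b h' => hb b (List.mem_of_mem_take h')) _)
    (hlin _ (fun b h' => hb b (List.mem_of_mem_drop h')) _)

/-- octads containing the extra point that span the code -/
def gens23 : List ℕ := [8391797, 8394986, 8398155, 8407702, 8421811, 8455014, 8521420, 8654232, 8919856, 9440193,
  10486557, 12584506]

def ns23 : List ℕ := [3, 5, 9, 17, 33, 65, 129, 258, 513, 1025, 2049, 1]

theorem gens23_span : codeBasis = ns23.map (lin gens23) := by decide +kernel

theorem gens23_octad : ∀ b ∈ gens23, b < 2 ^ 24 ∧ b ∈ octadList ∧ b.testBit 23 = true := by decide +kernel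

/-- octads containing two points, and one more, that span the code -/
def gens22 : List ℕ := [8391797, 8398155, 8412681, 8421811, 8471941, 8524371, 8657159, 8922769, 9440193, 10486557,
  12587685]

def ns22 : List ℕ := [2049, 3, 2052, 9, 2069, 2080, 2112, 130, 257, 513, 3072, 1]

theorem gens22_span : codeBasis = ns22.map (lin (gens22 ++ [8394986])) := by decide +kernel

theorem gens22_octad : ∀ b ∈ gens22, b < 2 ^ 24 ∧ b ∈ octadList ∧ b.testBit 23 = true ∧ b.testBit 0 = true := by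
  decide +kernel

theorem smul_symmDiff (π : Equiv.Perm GolayPt) (s t : Finset GolayPt) :
    π • symmDiff s t = symmDiff (π • s) (π • t) := by
  ext p
  have key : ∀ u : Finset GolayPt, p ∈ π • u ↔ π⁻¹ p ∈ u := fun u => Finset.inv_smul_mem_iff.symm
  rw [key, Finset.mem_symmDiff, Finset.mem_symmDiff, key, key]

theorem mem_smul_iff (π : Equiv.Perm GolayPt) (s : Finset GolayPt) (p : GolayPt) : p ∈ π • s ↔ π⁻¹ p ∈ s :=
  Finset.inv_smul_mem_iff.symm

theorem mem_M24_of_octads (π : Equiv.Perm GolayPt) (h : ∀ s ∈ octads, none ∈ s → π • s ∈ octads) : π ∈ M24 := by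
  rw [mem_M24_iff]
  apply span_induct (P := fun s => π • s ∈ cS) _ _ gens23 _ ns23 gens23_span
  · rw [Finset.smul_finset_empty]; exact empty_mem_supports
  · intro s t hs ht
    rw [smul_symmDiff]; exact symmDiff_mem_supports hs ht
  · intro b hb
    obtain ⟨h1, h2, h3⟩ := gens23_octad b hb
    exact (h _ ((ofMask_mem_octads_iff h1).2 h2) (by rw [mem_ofMask]; exact h3)).1

/-- The code is its own dual. -/
theorem dual_check : ∀ m < 4096, (codeBasis.all fun b => Nat.beq (pop (m &&& b) % 2) 0) = true → m = 0 := by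
  have h : allLT (fun m => !(codeBasis.all fun b => Nat.beq (pop (m &&& b) % 2) 0) || Nat.beq m 0) 4096 = true := by
    decide +kernel
  rw [allLT_iff] at h
  intro m hm h1
  have h2 := h m hm
  simp only [h1, Bool.not_true, Bool.false_or] at h2
  exact Nat.eq_of_beq_eq_true h2

theorem card_symmDiff_even {A B : Finset GolayPt} (hA : Even A.card) (hB : Even B.card) :
    Even (symmDiff A B).card := by
  have h1 : (symmDiff A B).card + 2 * (A ∩ B).card = A.card + B.card := by
    have h2 : symmDiff A B = (A \ B) ∪ (B \ A) := rfl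
    rw [h2, Finset.card_union_of_disjoint]
    · have h3 := Finset.card_sdiff_add_card_inter A B
      have h4 := Finset.card_sdiff_add_card_inter B A
      rw [Finset.inter_comm B A] at h4
      omega
    · exact disjoint_sdiff_sdiff
  obtain ⟨a, ha⟩ := hA
  obtain ⟨b, hb⟩ := hB
  rw [Nat.even_iff]
  omega

theorem symmDiff_inter_right (s t u : Finset GolayPt) : symmDiff s t ∩ u = symmDiff (s ∩ u) (t ∩ u) := by
  ext p
  simp only [Finset.mem_inter, Finset.mem_symmDiff]
  tauto

theorem mem_of_even_inter {s : Finset GolayPt} (h : ∀ t ∈ cS, Even (s ∩ t).card) : s ∈ cS := by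
  have hm := maskOf_lt s
  have hn : maskOf s >>> 12 < 4096 := by
    rw [Nat.shiftRight_eq_div_pow]
    exact Nat.div_lt_of_lt_mul (by norm_num at hm ⊢; exact hm)
  have hc := enc_mem (maskOf s >>> 12)
  have h1 : maskOf (symmDiff s (ofMask (enc (maskOf s >>> 12)))) < 4096 := by
    rw [maskOf_symmDiff, maskOf_ofMask (enc_lt _)]
    have h2 : (maskOf s ^^^ enc (maskOf s >>> 12)) >>> 12 = 0 := by
      rw [Nat.shiftRight_xor_distrib, enc_shift _ hn, Nat.xor_self]
    rw [Nat.shiftRight_eq_div_pow] at h2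
    have := (Nat.div_eq_zero_iff).1 h2
    rcases this with h3 | h3
    · norm_num at h3
    · exact h3
  have h3 : maskOf (symmDiff s (ofMask (enc (maskOf s >>> 12)))) = 0 := by
    apply dual_check _ h1
    rw [List.all_eq_true]
    intro b hb
    have h4 : Even (symmDiff s (ofMask (enc (maskOf s >>> 12))) ∩ ofMask b).card := by
      rw [symmDiff_inter_right]
      exact card_symmDiff_even (h _ (codeBasis_mem hb)) (even_card_inter hc (codeBasis_mem hb))
    rw [card_eq_pop, maskOf_inter, maskOf_ofMask] at h4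
    · rw [Nat.even_iff.1 h4]; rfl
    · have h5 : ∀ b ∈ codeBasis, b < 2 ^ 24 := by decide
      exact h5 b hb
  have h5 : symmDiff s (ofMask (enc (maskOf s >>> 12))) = ∅ := by
    rw [← ofMask_maskOf (symmDiff _ _), h3, ofMask_zero]
  have h6 : s = ofMask (enc (maskOf s >>> 12)) := symmDiff_eq_bot.1 h5
  rw [h6]; exact hc

/-! ### The case of two fixed points -/

theorem swap_smul_of_both {s : Finset GolayPt} {a b : GolayPt} (h : a ∈ s ↔ b ∈ s) : Equiv.swap a b • s = s := by
  ext p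
  rw [mem_smul_iff, Equiv.swap_inv]
  by_cases h1 : p = a
  · rw [h1, Equiv.swap_apply_left]; exact h.symm
  · by_cases h2 : p = b
    · rw [h2, Equiv.swap_apply_right]; exact h
    · rw [Equiv.swap_apply_of_ne_of_ne h1 h2]

theorem card_smul_eq (π : Equiv.Perm GolayPt) (s : Finset GolayPt) : (π • s).card = s.card :=
  Finset.card_smul_finset π s

theorem smul_inter' (π : Equiv.Perm GolayPt) (s t : Finset GolayPt) : π • (s ∩ t) = π • s ∩ π • t := by
  ext p
  rw [Finset.mem_inter, mem_smul_iff, mem_smul_iff, mem_smul_iff, Finset.mem_inter]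

theorem inter_eq_symmDiff (A t o : Finset GolayPt) : A ∩ t = symmDiff (A ∩ symmDiff t o) (A ∩ o) := by
  ext p
  simp only [Finset.mem_inter, Finset.mem_symmDiff]
  tauto

theorem swap_or (π : Equiv.Perm GolayPt) (h0 : π none = none) (h1 : π (some 0) = some 0)
    (hP : ∀ s ∈ octads, none ∈ s → some 0 ∈ s → π • s ∈ octads) :
    π ∈ M24 ∨ Equiv.swap (none : GolayPt) (some 0) * π ∈ M24 := by
  have h0' : π⁻¹ none = none := Equiv.Perm.inv_eq_iff_eq.2 h0.symm
  have h1' : π⁻¹ (some 0) = some 0 := Equiv.Perm.inv_eq_iff_eq.2 h1.symm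
  obtain ⟨o, ho⟩ : ∃ o : Finset GolayPt, o = ofMask 8394986 := ⟨_, rfl⟩
  have hoct : o ∈ octads := by
    rw [ho, ofMask_mem_octads_iff (by norm_num)]; decide +kernel
  have ho1 : none ∈ o := by rw [ho, mem_ofMask]; decide
  have ho2 : some 0 ∉ o := by rw [ho, mem_ofMask]; decide
  have hocS : o ∈ cS := hoct.1
  -- parity of membership
  have hpar : ∀ s t : Finset GolayPt, ((none : GolayPt) ∈ symmDiff s t ↔ (some 0 : GolayPt) ∈ symmDiff s t) ↔
      (((none : GolayPt) ∈ s ↔ (some 0 : GolayPt) ∈ s) ↔ ((none : GolayPt) ∈ t ↔ (some 0 : GolayPt) ∈ t)) := by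
    intro s t
    rw [Finset.mem_symmDiff, Finset.mem_symmDiff]
    tauto
  have c1 : ∀ s ∈ cS, (s ∈ cS ∧ (((none : GolayPt) ∈ s ↔ (some 0 : GolayPt) ∈ s) → π • s ∈ cS) ∧
      (¬ ((none : GolayPt) ∈ s ↔ (some 0 : GolayPt) ∈ s) → π • (symmDiff s o) ∈ cS)) := by
    apply span_induct (P := fun s => s ∈ cS ∧ (((none : GolayPt) ∈ s ↔ (some 0 : GolayPt) ∈ s) → π • s ∈ cS) ∧
      (¬ ((none : GolayPt) ∈ s ↔ (some 0 : GolayPt) ∈ s) → π • (symmDiff s o) ∈ cS)) _ _
        (gens22 ++ [8394986]) _ ns22 gens22_span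
    · refine ⟨empty_mem_supports, fun _ => ?_, fun h => ?_⟩
      · rw [Finset.smul_finset_empty]; exact empty_mem_supports
      · exact absurd (by simp) h
    · rintro s t ⟨hs, hs1, hs2⟩ ⟨ht, ht1, ht2⟩
      refine ⟨symmDiff_mem_supports hs ht, fun h => ?_, fun h => ?_⟩
      · rw [hpar] at h
        by_cases h3 : ((none : GolayPt) ∈ s ↔ (some 0 : GolayPt) ∈ s)
        · rw [smul_symmDiff]; exact symmDiff_mem_supports (hs1 h3) (ht1 (h.1 h3))
        · have h4 := symmDiff_mem_supports (hs2 h3) (ht2 (fun h5 => h3 (h.2 h5)))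
          rw [← smul_symmDiff] at h4
          have h5 : symmDiff (symmDiff s o) (symmDiff t o) = symmDiff s t := by
            rw [symmDiff_symmDiff_symmDiff_comm, symmDiff_self, symmDiff_bot]
          rwa [h5] at h4
      · rw [hpar] at h
        by_cases h3 : ((none : GolayPt) ∈ s ↔ (some 0 : GolayPt) ∈ s)
        · have h4 : ¬ ((none : GolayPt) ∈ t ↔ (some 0 : GolayPt) ∈ t) := fun h5 => h (by simp [h3, h5])
          have h5 := symmDiff_mem_supports (hs1 h3) (ht2 h4)
          rwa [← smul_symmDiff, ← symmDiff_assoc] at h5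
        · have h4 : ((none : GolayPt) ∈ t ↔ (some 0 : GolayPt) ∈ t) := by
            by_contra h5
            exact h ⟨fun h6 => absurd h6 h3, fun h6 => absurd h6 h5⟩
          have h5 := symmDiff_mem_supports (ht1 h4) (hs2 h3)
          rw [← smul_symmDiff, ← symmDiff_assoc, symmDiff_comm t s] at h5
          exact h5
    · intro b hb
      rw [List.mem_append, List.mem_singleton] at hb
      rcases hb with hb | rfl
      · obtain ⟨h2, h3, h4, h5⟩ := gens22_octad b hb
        have h6 := (ofMask_mem_octads_iff h2).2 h3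
        have h7 : none ∈ ofMask b := by rw [mem_ofMask]; exact h4
        have h8 : some 0 ∈ ofMask b := by rw [mem_ofMask]; exact h5
        exact ⟨h6.1, fun _ => (hP _ h6 h7 h8).1, fun h => absurd (by simp [h7, h8]) h⟩
      · rw [← ho]
        refine ⟨hocS, fun h => absurd (h.1 ho1) ho2, fun _ => ?_⟩
        rw [symmDiff_self]
        show π • (∅ : Finset GolayPt) ∈ cS
        rw [Finset.smul_finset_empty]; exact empty_mem_supports
  have c2 : ∀ s ∈ cS, ((none : GolayPt) ∈ s ↔ (some 0 : GolayPt) ∈ s) → π • s ∈ cS := fun s hs => (c1 s hs).2.1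
  have hmem : ∀ s : Finset GolayPt, ((none : GolayPt) ∈ π • s ↔ (some 0 : GolayPt) ∈ π • s) ↔
      ((none : GolayPt) ∈ s ↔ (some 0 : GolayPt) ∈ s) := by
    intro s
    rw [mem_smul_iff, mem_smul_iff, h0', h1']
  -- the inverse also preserves the subcode
  have c3 : ∀ t ∈ cS, ((none : GolayPt) ∈ t ↔ (some 0 : GolayPt) ∈ t) → π⁻¹ • t ∈ cS := by
    have hpow : ∀ n : ℕ, ∀ t ∈ cS, ((none : GolayPt) ∈ t ↔ (some 0 : GolayPt) ∈ t) →
        (π ^ n) • t ∈ cS ∧ ((none : GolayPt) ∈ (π ^ n) • t ↔ (some 0 : GolayPt) ∈ (π ^ n) • t) := by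
      intro n
      induction n with
      | zero => intro t ht h; rw [pow_zero, one_smul]; exact ⟨ht, h⟩
      | succ n ih =>
        intro t ht h
        rw [pow_succ', mul_smul]
        obtain ⟨h2, h3⟩ := ih t ht h
        exact ⟨c2 _ h2 h3, (hmem _).2 h3⟩
    intro t ht h
    have h2 : π⁻¹ = π ^ (orderOf π - 1) := by
      have h3 : 0 < orderOf π := orderOf_pos π
      rw [inv_eq_iff_mul_eq_one, ← pow_succ', Nat.sub_add_cancel h3, pow_orderOf_eq_one]
    rw [h2]
    exact (hpow _ t ht h).1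
  have c4 : ∀ t ∈ cS, ((none : GolayPt) ∈ t ↔ (some 0 : GolayPt) ∈ t) → Even (π • o ∩ t).card := by
    intro t ht h
    have h2 := even_card_inter hocS (c3 t ht h)
    rw [← card_smul_eq π, smul_inter', smul_inv_smul] at h2
    exact h2
  have hAn : none ∈ π • o := by rw [mem_smul_iff, h0']; exact ho1
  have hA0 : some 0 ∉ π • o := by rw [mem_smul_iff, h1']; exact ho2
  -- reduction to the word o
  have hred : ∀ A : Finset GolayPt, (∀ t ∈ cS, ((none : GolayPt) ∈ t ↔ (some 0 : GolayPt) ∈ t) → Even (A ∩ t).card) →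
      Even (A ∩ o).card → A ∈ cS := by
    intro A hA hAo
    apply mem_of_even_inter
    intro t ht
    by_cases h : ((none : GolayPt) ∈ t ↔ (some 0 : GolayPt) ∈ t)
    · exact hA t ht h
    · have h2 : symmDiff t o ∈ cS := symmDiff_mem_supports ht hocS
      have h3 : ((none : GolayPt) ∈ symmDiff t o ↔ (some 0 : GolayPt) ∈ symmDiff t o) := by
        rw [hpar]
        exact ⟨fun h4 => absurd h4 h, fun h4 => absurd (h4.1 ho1) ho2⟩
      have h4 := hA _ h2 h3
      have h5 : A ∩ t = symmDiff (A ∩ symmDiff t o) (A ∩ o) := inter_eq_symmDiff A t o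
      rw [h5]
      exact card_symmDiff_even h4 hAo
  have hout : ∀ t ∈ cS, ¬ ((none : GolayPt) ∈ t ↔ (some 0 : GolayPt) ∈ t) →
      symmDiff t o ∈ cS ∧ ((none : GolayPt) ∈ symmDiff t o ↔ (some 0 : GolayPt) ∈ symmDiff t o) := by
    intro t ht h
    refine ⟨symmDiff_mem_supports ht hocS, ?_⟩
    rw [hpar]
    exact ⟨fun h4 => absurd h4 h, fun h4 => absurd (h4.1 ho1) ho2⟩
  by_cases hev : Even (π • o ∩ o).card
  · left
    have h2 := hred _ c4 hev
    rw [mem_M24_iff]
    intro t ht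
    by_cases h : ((none : GolayPt) ∈ t ↔ (some 0 : GolayPt) ∈ t)
    · exact c2 t ht h
    · obtain ⟨h3, h4⟩ := hout t ht h
      have h5 := symmDiff_mem_supports (c2 _ h3 h4) h2
      rw [← smul_symmDiff, symmDiff_assoc, symmDiff_self, symmDiff_bot] at h5
      exact h5
  · right
    have h2 : Equiv.swap (none : GolayPt) (some 0) • π • o ∈ cS := by
      apply hred
      · intro t ht h
        have h3 := c4 t ht h
        rw [← card_smul_eq (Equiv.swap (none : GolayPt) (some 0)), smul_inter', swap_smul_of_both h] at h3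
        exact h3
      · have h3 : Equiv.swap (none : GolayPt) (some 0) • π • o ∩ o = (π • o ∩ o).erase none := by
          ext p
          rw [Finset.mem_inter, mem_smul_iff, Equiv.swap_inv, Finset.mem_erase, Finset.mem_inter]
          by_cases h4 : p = none
          · rw [h4, Equiv.swap_apply_left]
            simp [hA0]
          · by_cases h5 : p = some 0
            · rw [h5]
              simp [ho2]
            · rw [Equiv.swap_apply_of_ne_of_ne h4 h5]
              simp [h4]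
        rw [h3, Finset.card_erase_of_mem (Finset.mem_inter.2 ⟨hAn, ho1⟩)]
        rw [Nat.not_even_iff_odd] at hev
        obtain ⟨k, hk⟩ := hev
        rw [hk]
        exact ⟨k, by omega⟩
    rw [mem_M24_iff]
    intro t ht
    rw [mul_smul]
    by_cases h : ((none : GolayPt) ∈ t ↔ (some 0 : GolayPt) ∈ t)
    · rw [swap_smul_of_both ((hmem t).2 h)]
      exact c2 t ht h
    · obtain ⟨h3, h4⟩ := hout t ht h
      have h5 : Equiv.swap (none : GolayPt) (some 0) • π • symmDiff t o ∈ cS := by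
        rw [swap_smul_of_both ((hmem _).2 h4)]; exact c2 _ h3 h4
      have h6 := symmDiff_mem_supports h5 h2
      rw [← smul_symmDiff, ← smul_symmDiff, symmDiff_assoc, symmDiff_self, symmDiff_bot] at h6
      exact h6

/-! ### Orders -/

theorem card_stab_general {K : Subgroup (Equiv.Perm GolayPt)} {n m : ℕ} (hK : Nat.card K = n * m) (hn : n ≠ 0)
    {q : GolayPt} (ho : (orbF K q).card = n) :
    Nat.card (K ⊓ MulAction.stabilizer (Equiv.Perm GolayPt) q : Subgroup _) = m := by
  have h := card_orbF_mul K q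
  rw [ho, hK] at h
  exact Nat.eq_of_mul_eq_mul_left (Nat.pos_of_ne_zero hn) h

theorem orbF_M24 (q : GolayPt) : orbF M24 q = Finset.univ := by
  apply Finset.eq_univ_of_forall
  intro r
  rw [mem_orbF]
  by_cases h : q = r
  · exact ⟨1, M24.one_mem, by rw [h]; rfl⟩
  · obtain ⟨c, hc1, hc2, -⟩ := exists_ne3 q r r
    obtain ⟨σ, hσ, h1, -⟩ := m24_map3 (a := q) (b := r) (c := c) (a' := r) (b' := q) (c' := c) h (Ne.symm hc1)
      (Ne.symm hc2) (Ne.symm h) (Ne.symm hc2) (Ne.symm hc1)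
    exact ⟨σ, hσ, h1⟩

theorem mem_M23_iff {g : Equiv.Perm GolayPt} : g ∈ Spor.M23 ↔ g ∈ M24 ∧ g none = none := Iff.rfl

theorem mem_M22_iff {g : Equiv.Perm GolayPt} : g ∈ Spor.M22 ↔ (g ∈ M24 ∧ g none = none) ∧ g (some 0) = some 0 :=
  Iff.rfl

theorem card_M23' : Nat.card Spor.M23 = 10200960 := by
  apply card_stab_general (K := M24) (n := 24) (m := 10200960) (by rw [card_M24]) (by norm_num)
  rw [orbF_M24, Finset.card_univ, card_golayPt]

theorem orbF_M23 {q : GolayPt} (hq : q ≠ none) : orbF Spor.M23 q = Finset.univ.erase none := by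
  ext r
  rw [mem_orbF, Finset.mem_erase]
  constructor
  · rintro ⟨g, hg, rfl⟩
    refine ⟨fun h => hq ?_, Finset.mem_univ _⟩
    exact g.injective (h.trans (mem_M23_iff.1 hg).2.symm)
  · rintro ⟨hr, -⟩
    obtain ⟨c, hc1, hc2, hc3⟩ := exists_ne3 none q r
    obtain ⟨σ, hσ, h1, h2, -⟩ := m24_map3 (a := none) (b := q) (c := c) (a' := none) (b' := r) (c' := c)
      (Ne.symm hq) (Ne.symm hc1) (Ne.symm hc2) (Ne.symm hr) (Ne.symm hc1) (Ne.symm hc3)
    exact ⟨σ, mem_M23_iff.2 ⟨hσ, h1⟩, h2⟩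

theorem card_M22' : Nat.card Spor.M22 = 443520 := by
  apply card_stab_general (K := Spor.M23) (n := 23) (m := 443520) (by rw [card_M23']) (by norm_num)
  rw [orbF_M23 (by decide), Finset.card_erase_of_mem (Finset.mem_univ _), Finset.card_univ, card_golayPt]

theorem orbF_M22 {q : GolayPt} (hq : q ≠ none) (hq2 : q ≠ some 0) :
    orbF Spor.M22 q = (Finset.univ.erase none).erase (some 0) := by
  ext r
  rw [mem_orbF, Finset.mem_erase, Finset.mem_erase]
  constructor
  · rintro ⟨g, hg, rfl⟩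
    refine ⟨fun h => hq2 ?_, fun h => hq ?_, Finset.mem_univ _⟩
    · exact g.injective (h.trans (mem_M22_iff.1 hg).2.symm)
    · exact g.injective (h.trans (mem_M22_iff.1 hg).1.2.symm)
  · rintro ⟨hr2, hr, -⟩
    obtain ⟨σ, hσ, h1, h2, h3⟩ := m24_map3 (a := none) (b := some 0) (c := q) (a' := none) (b' := some 0) (c' := r)
      (by decide) (Ne.symm hq) (Ne.symm hq2) (by decide) (Ne.symm hr) (Ne.symm hr2)
    exact ⟨σ, mem_M22_iff.2 ⟨⟨hσ, h1⟩, h2⟩, h3⟩

theorem card_ptStab (G : Subgroup (Equiv.Perm GolayPt)) (q : GolayPt) :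
    Nat.card (ptStab G q) = Nat.card (G ⊓ MulAction.stabilizer (Equiv.Perm GolayPt) q : Subgroup _) := by
  apply Nat.card_congr
  exact ⟨fun g => ⟨g.1.1, g.1.2, g.2⟩, fun g => ⟨⟨g.1, g.2.1⟩, g.2.2⟩, fun _ => rfl, fun _ => rfl⟩

theorem card_map_sub {G : Subgroup (Equiv.Perm GolayPt)} (K : Subgroup G) :
    Nat.card (K.map G.subtype) = Nat.card K :=
  (Nat.card_congr (K.equivMapOfInjective G.subtype G.subtype_injective).toEquiv).symm

theorem le_ptStab_of {G : Subgroup (Equiv.Perm GolayPt)} {K : Subgroup G} {q : GolayPt}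
    (h : ∀ g ∈ K.map G.subtype, g q = q) : K ≤ ptStab G q := fun g hg => h g.1 ⟨g, hg, rfl⟩

theorem map_sub_le {G : Subgroup (Equiv.Perm GolayPt)} (K : Subgroup G) {g : Equiv.Perm GolayPt}
    (hg : g ∈ K.map G.subtype) : g ∈ G := by
  obtain ⟨k, hk, rfl⟩ := hg
  exact k.2

/-! ### Automorphisms of `M24` -/

theorem aut_M24 (α : MulAut M24) : ∃ π ∈ M24, ∀ g : M24, ((α g : M24) : Equiv.Perm GolayPt) = π * g * π⁻¹ := by
  obtain ⟨π, -, hπ⟩ := exists_perm_of_aut M24 ∅ (fun _ _ _ h => absurd h (Set.notMem_empty _))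
    (by
      intro p _ q _
      have h : q ∈ orbF M24 p := by rw [orbF_M24]; exact Finset.mem_univ _
      exact mem_orbF.1 h)
    (by
      intro p _ q _ hqp
      obtain ⟨r, hr1, hr2, -⟩ := exists_ne3 p q q
      obtain ⟨c, hc1, hc2, hc3⟩ := exists_ne3 p q r
      obtain ⟨σ, hσ, h1, h2, -⟩ := m24_map3 (a := p) (b := q) (c := c) (a' := p) (b' := r) (c' := c)
        (Ne.symm hqp) (Ne.symm hc1) (Ne.symm hc2) (Ne.symm hr1) (Ne.symm hc1) (Ne.symm hc3)
      exact ⟨σ, hσ, h1, by rw [h2]; exact hr2⟩)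
    (by
      intro K hK
      have h1 := hK none (Set.notMem_empty _)
      rw [card_ptStab] at h1
      have h2 : Nat.card (M24 ⊓ MulAction.stabilizer (Equiv.Perm GolayPt) (none : GolayPt) : Subgroup _) = 10200960 :=
        card_M23'
      rw [h2] at h1
      obtain ⟨q, hq⟩ := fix_of_index24 (K.map M24.subtype) (fun g hg => map_sub_le K hg) (by rw [card_map_sub, h1])
      exact ⟨q, Set.notMem_empty _, le_ptStab_of hq⟩) α
  refine ⟨π, ?_, hπ⟩
  apply mem_M24_of_octads
  intro s hs _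
  apply octad_of_conj hs
  intro σ hσ
  have h1 := hπ ⟨σ, (mem_fixM24.1 hσ).1⟩
  rw [← h1]
  exact (α _).2

theorem aut_M23 (α : MulAut Spor.M23) :
    ∃ π ∈ Spor.M23, ∀ g : Spor.M23, ((α g : Spor.M23) : Equiv.Perm GolayPt) = π * g * π⁻¹ := by
  obtain ⟨π, hπ0, hπ⟩ := exists_perm_of_aut Spor.M23 {none}
    (by rintro g hg p rfl; exact (mem_M23_iff.1 hg).2)
    (by
      intro p hp q hq
      have h : q ∈ orbF Spor.M23 p := by
        rw [orbF_M23 hp, Finset.mem_erase]
        exact ⟨hq, Finset.mem_univ _⟩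
      exact mem_orbF.1 h)
    (by
      intro p hp q hq hqp
      obtain ⟨r, hr1, hr2, hr3⟩ := exists_ne3 none p q
      obtain ⟨σ, hσ, h1, h2, h3⟩ := m24_map3 (a := none) (b := p) (c := q) (a' := none) (b' := p) (c' := r)
        (Ne.symm hp) (Ne.symm hq) (Ne.symm hqp) (Ne.symm hp) (Ne.symm hr1) (Ne.symm hr2)
      exact ⟨σ, mem_M23_iff.2 ⟨hσ, h1⟩, h2, by rw [h3]; exact hr3⟩)
    (by
      intro K hK
      have h1 := hK (some 0) (by simp)
      rw [card_ptStab] at h1
      have h2 : Nat.card (Spor.M23 ⊓ MulAction.stabilizer (Equiv.Perm GolayPt) (some 0 : GolayPt) : Subgroup _) =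
        443520 := card_M22'
      rw [h2] at h1
      obtain ⟨q, hq1, hq⟩ := fix_of_index23 (K.map Spor.M23.subtype) (fun g hg => (map_sub_le K hg).1) (a := none)
        (fun g hg => (map_sub_le K hg).2) (by rw [card_map_sub, h1])
      exact ⟨q, hq1, le_ptStab_of hq⟩) α
  have hπ0' : π none = none := hπ0 none rfl
  refine ⟨π, ⟨?_, hπ0'⟩, hπ⟩
  apply mem_M24_of_octads
  intro s hs hs0
  apply octad_of_conj hs
  intro σ hσ
  have hσ' := mem_fixM24.1 hσ
  have h1 := hπ ⟨σ, hσ'.1, hσ'.2 none hs0⟩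
  have h2 : ((⟨σ, hσ'.1, hσ'.2 none hs0⟩ : Spor.M23) : Equiv.Perm GolayPt) = σ := rfl
  rw [h2] at h1
  rw [← h1]
  exact (α _).2.1

theorem aut_M22 (α : MulAut Spor.M22) :
    ∃ π ∈ M24, ((π none = none ∧ π (some 0) = some 0) ∨ (π none = some 0 ∧ π (some 0) = none)) ∧
      ∀ g : Spor.M22, ((α g : Spor.M22) : Equiv.Perm GolayPt) = π * g * π⁻¹ := by
  have hst : Nat.card (Spor.M22 ⊓ MulAction.stabilizer (Equiv.Perm GolayPt) (some 1 : GolayPt) : Subgroup _) =
      20160 := by
    apply card_stab_general (K := Spor.M22) (n := 22) (m := 20160) (by rw [card_M22']) (by norm_num)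
    rw [orbF_M22 (by decide) (by decide), Finset.card_erase_of_mem, Finset.card_erase_of_mem (Finset.mem_univ _),
      Finset.card_univ, card_golayPt]
    rw [Finset.mem_erase]; exact ⟨by decide, Finset.mem_univ _⟩
  obtain ⟨π, hπ0, hπ⟩ := exists_perm_of_aut Spor.M22 {none, some 0}
    (by
      rintro g hg p (rfl | rfl)
      · exact (mem_M22_iff.1 hg).1.2
      · exact (mem_M22_iff.1 hg).2)
    (by
      intro p hp q hq
      rw [Set.mem_insert_iff, Set.mem_singleton_iff, not_or] at hp hq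
      have h : q ∈ orbF Spor.M22 p := by
        rw [orbF_M22 hp.1 hp.2, Finset.mem_erase, Finset.mem_erase]
        exact ⟨hq.2, hq.1, Finset.mem_univ _⟩
      exact mem_orbF.1 h)
    (by
      intro p hp q hq hqp
      rw [Set.mem_insert_iff, Set.mem_singleton_iff, not_or] at hp hq
      obtain ⟨r, hr1, hr2, hr3, hr4⟩ := exists_ne4 none (some 0) p q
      obtain ⟨σ, hσ, h1, h2, h3, h4⟩ := m24_map4 (a := none) (b := some 0) (c := p) (d := q) (a' := none)
        (b' := some 0) (c' := p) (d' := r) (by decide) (Ne.symm hp.1) (Ne.symm hq.1) (Ne.symm hp.2)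
        (Ne.symm hq.2) (Ne.symm hqp) (by decide) (Ne.symm hp.1) (Ne.symm hr1) (Ne.symm hp.2) (Ne.symm hr2)
        (Ne.symm hr3)
      exact ⟨σ, mem_M22_iff.2 ⟨⟨hσ, h1⟩, h2⟩, h3, by rw [h4]; exact hr4⟩)
    (by
      intro K hK
      have h1 := hK (some 1) (by
        rw [Set.mem_insert_iff, Set.mem_singleton_iff, not_or]; exact ⟨by decide, by decide⟩)
      rw [card_ptStab, hst] at h1
      obtain ⟨q, hq1, hq2, hq⟩ := fix_of_index22 (K.map Spor.M22.subtype) (fun g hg => (map_sub_le K hg).1.1)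
        (a := none) (b := some 0) (by decide)
        (fun g hg => (map_sub_le K hg).1.2) (fun g hg => (map_sub_le K hg).2) (by rw [card_map_sub, h1])
      refine ⟨q, ?_, le_ptStab_of hq⟩
      rw [Set.mem_insert_iff, Set.mem_singleton_iff, not_or]
      exact ⟨hq1, hq2⟩) α
  have hπa : π none = none := hπ0 none (Or.inl rfl)
  have hπb : π (some 0) = some 0 := hπ0 (some 0) (Or.inr rfl)
  have hoct : ∀ s ∈ octads, none ∈ s → some 0 ∈ s → π • s ∈ octads := by
    intro s hs hs0 hs1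
    apply octad_of_conj hs
    intro σ hσ
    have hσ' := mem_fixM24.1 hσ
    have h1 := hπ ⟨σ, ⟨hσ'.1, hσ'.2 none hs0⟩, hσ'.2 _ hs1⟩
    have h2 : ((⟨σ, ⟨hσ'.1, hσ'.2 none hs0⟩, hσ'.2 _ hs1⟩ : Spor.M22) : Equiv.Perm GolayPt) = σ := rfl
    rw [h2] at h1
    rw [← h1]
    exact (α _).2.1.1
  rcases swap_or π hπa hπb hoct with h | h
  · exact ⟨π, h, Or.inl ⟨hπa, hπb⟩, hπ⟩
  · refine ⟨_, h, Or.inr ⟨?_, ?_⟩, ?_⟩
    · show Equiv.swap (none : GolayPt) (some 0) (π none) = some 0
      rw [hπa, Equiv.swap_apply_left]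
    · show Equiv.swap (none : GolayPt) (some 0) (π (some 0)) = none
      rw [hπb, Equiv.swap_apply_right]
    · intro g
      -- conjugation by the transposition is trivial on the image
      have h1 : ((α g : Spor.M22) : Equiv.Perm GolayPt) =
          Equiv.swap (none : GolayPt) (some 0) * (α g : Equiv.Perm GolayPt) * (Equiv.swap (none : GolayPt) (some 0))⁻¹ := by
        ext1 p
        have h2 := (mem_M22_iff.1 (α g).2).1.2
        have h3 := (mem_M22_iff.1 (α g).2).2
        show _ = Equiv.swap (none : GolayPt) (some 0) ((α g : Equiv.Perm GolayPt) ((Equiv.swap (none : GolayPt) (some 0))⁻¹ p))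
        rw [Equiv.swap_inv]
        by_cases h4 : p = none
        · rw [h4, Equiv.swap_apply_left, h2, h3, Equiv.swap_apply_right]
        · by_cases h5 : p = some 0
          · rw [h5, Equiv.swap_apply_right, h2, h3, Equiv.swap_apply_left]
          · rw [Equiv.swap_apply_of_ne_of_ne h4 h5, Equiv.swap_apply_of_ne_of_ne]
            · intro h6; exact h4 ((α g).1.injective (h6.trans h2.symm))
            · intro h6; exact h5 ((α g).1.injective (h6.trans h3.symm))
      rw [h1, hπ g]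
      group

/-! ### The outer automorphism groups -/

theorem out_card_one {G : Type*} [Group G] (h : ∀ α : MulAut G, α ∈ Inn G) : Nat.card (Out G) = 1 := by
  have h1 : Inn G = ⊤ := (Subgroup.eq_top_iff' _).2 h
  show Nat.card (MulAut G ⧸ Inn G) = 1
  have h2 : (Inn G).index = 1 := by rw [h1, Subgroup.index_top]
  exact h2

theorem mem_inn_of_perm {G : Subgroup (Equiv.Perm GolayPt)} {α : MulAut G} {π : Equiv.Perm GolayPt} (hπ : π ∈ G)
    (h : ∀ g : G, ((α g : G) : Equiv.Perm GolayPt) = π * g * π⁻¹) : α ∈ Inn G := by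
  refine ⟨⟨π, hπ⟩, ?_⟩
  ext1 g
  apply Subtype.ext
  rw [h g]; rfl

theorem final_2064 : Nat.card (Out M24) = 1 := by
  apply out_card_one
  intro α
  obtain ⟨π, hπ, h⟩ := aut_M24 α
  exact mem_inn_of_perm hπ h

theorem final_2063 : Nat.card (Out Spor.M23) = 1 := by
  apply out_card_one
  intro α
  obtain ⟨π, hπ, h⟩ := aut_M23 α
  exact mem_inn_of_perm hπ h

theorem final_2062 : Nat.card (Out Spor.M22) = 2 := by
  show (Inn Spor.M22).index = 2
  rw [Subgroup.index_eq_two_iff]
  -- an element interchanging the two points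
  obtain ⟨c, hc1, hc2, -⟩ := exists_ne3 none (some 0) (some 0)
  obtain ⟨ρ, hρ, hρ0, hρ1, -⟩ := m24_map3 (a := none) (b := some 0) (c := c) (a' := some 0) (b' := none) (c' := c)
    (by decide) (Ne.symm hc1) (Ne.symm hc2) (by decide) (Ne.symm hc2) (Ne.symm hc1)
  have hρ0' : ρ⁻¹ (some 0) = none := Equiv.Perm.inv_eq_iff_eq.2 hρ0.symm
  have hρ1' : ρ⁻¹ none = some 0 := Equiv.Perm.inv_eq_iff_eq.2 hρ1.symm
  have hmem : ∀ g ∈ Spor.M22, ρ * g * ρ⁻¹ ∈ Spor.M22 := by
    intro g hg
    obtain ⟨⟨h1, h2⟩, h3⟩ := mem_M22_iff.1 hg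
    refine mem_M22_iff.2 ⟨⟨M24.mul_mem (M24.mul_mem hρ h1) (M24.inv_mem hρ), ?_⟩, ?_⟩
    · show ρ (g (ρ⁻¹ none)) = none
      rw [hρ1', h3, hρ1]
    · show ρ (g (ρ⁻¹ (some 0))) = some 0
      rw [hρ0', h2, hρ0]
  have hmem' : ∀ g ∈ Spor.M22, ρ⁻¹ * g * ρ ∈ Spor.M22 := by
    intro g hg
    obtain ⟨⟨h1, h2⟩, h3⟩ := mem_M22_iff.1 hg
    refine mem_M22_iff.2 ⟨⟨M24.mul_mem (M24.mul_mem (M24.inv_mem hρ) h1) hρ, ?_⟩, ?_⟩
    · show ρ⁻¹ (g (ρ none)) = none
      rw [hρ0, h3, hρ0']
    · show ρ⁻¹ (g (ρ (some 0))) = some 0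
      rw [hρ1, h2, hρ1']
  let β : MulAut Spor.M22 :=
    { toFun := fun g => ⟨ρ * g.1 * ρ⁻¹, hmem g.1 g.2⟩
      invFun := fun g => ⟨ρ⁻¹ * g.1 * ρ, hmem' g.1 g.2⟩
      left_inv := fun g => Subtype.ext (by
        show ρ⁻¹ * (ρ * g.1 * ρ⁻¹) * ρ = g.1
        group)
      right_inv := fun g => Subtype.ext (by
        show ρ * (ρ⁻¹ * g.1 * ρ) * ρ⁻¹ = g.1
        group)
      map_mul' := fun g h => Subtype.ext (by
        show ρ * (g.1 * h.1) * ρ⁻¹ = (ρ * g.1 * ρ⁻¹) * (ρ * h.1 * ρ⁻¹)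
        group) }
  have hβ : ∀ g : Spor.M22, ((β g : Spor.M22) : Equiv.Perm GolayPt) = ρ * g * ρ⁻¹ := fun g => rfl
  -- permutations centralizing `M22`
  have hcent : ∀ π ∈ M24, π none = some 0 → π (some 0) = none →
      ¬ ∀ g ∈ Spor.M22, π * g = g * π := by
    intro π hπ hπ0 hπ1 hcomm
    have hpres : ∀ k, k ≠ none → k ≠ some 0 → π k ≠ none ∧ π k ≠ some 0 := by
      intro k hk1 hk2
      constructor
      · intro h; exact hk2 (π.injective (h.trans hπ1.symm))
      · intro h; exact hk1 (π.injective (h.trans hπ0.symm))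
    have hrest : ∀ k, k ≠ none → k ≠ some 0 → π k = k := by
      intro k hk1 hk2
      by_contra hne
      obtain ⟨h5, h6⟩ := hpres k hk1 hk2
      obtain ⟨l, hl1, hl2, hl3, hl4⟩ := exists_ne4 none (some 0) k (π k)
      obtain ⟨τ, hτ, t1, t2, t3, t4⟩ := m24_map4 (a := none) (b := some 0) (c := k) (d := π k)
        (a' := none) (b' := some 0) (c' := k) (d' := l) (by decide) (Ne.symm hk1) (Ne.symm h5)
        (Ne.symm hk2) (Ne.symm h6) (Ne.symm hne) (by decide) (Ne.symm hk1) (Ne.symm hl1)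
        (Ne.symm hk2) (Ne.symm hl2) (Ne.symm hl3)
      have h7 := congrArg (fun f : Equiv.Perm GolayPt => f k) (hcomm τ (mem_M22_iff.2 ⟨⟨hτ, t1⟩, t2⟩))
      have h8 : π (τ k) = τ (π k) := h7
      rw [t3, t4] at h8
      exact hl4 h8.symm
    -- the fixed points
    have h22 : (fixS π).card = 22 := by
      have h1 : fixS π = (Finset.univ.erase none).erase (some 0) := by
        ext p
        rw [mem_fixS, Finset.mem_erase, Finset.mem_erase]
        constructor
        · intro h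
          refine ⟨?_, ?_, Finset.mem_univ _⟩
          · rintro rfl; rw [hπ1] at h; exact absurd h (by decide)
          · rintro rfl; rw [hπ0] at h; exact absurd h (by decide)
        · rintro ⟨h1, h2, -⟩; exact hrest p h2 h1
      rw [h1, Finset.card_erase_of_mem, Finset.card_erase_of_mem (Finset.mem_univ _), Finset.card_univ,
        card_golayPt]
      rw [Finset.mem_erase]; exact ⟨by decide, Finset.mem_univ _⟩
    have h2 : π * π = 1 := by
      ext1 p
      show π (π p) = p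
      by_cases h3 : p = none
      · rw [h3, hπ0, hπ1]
      · by_cases h4 : p = some 0
        · rw [h4, hπ1, hπ0]
        · rw [hrest p h3 h4, hrest p h3 h4]
    have h3 : π ≠ 1 := by
      rintro rfl
      exact absurd hπ0 (by decide)
    have h4 := inv_fix_card hπ h2 h3
    omega
  have hβout : β ∉ Inn Spor.M22 := by
    rintro ⟨h, hh⟩
    obtain ⟨⟨h1, h2⟩, h3⟩ := mem_M22_iff.1 h.2
    have h1' : h.1⁻¹ ∈ M24 := M24.inv_mem h1
    apply hcent (h.1⁻¹ * ρ) (M24.mul_mem h1' hρ)
    · show h.1⁻¹ (ρ none) = some 0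
      rw [hρ0]; exact Equiv.Perm.inv_eq_iff_eq.2 h3.symm
    · show h.1⁻¹ (ρ (some 0)) = none
      rw [hρ1]; exact Equiv.Perm.inv_eq_iff_eq.2 h2.symm
    · intro g hg
      have h4 := congrArg (fun f : MulAut Spor.M22 => ((f ⟨g, hg⟩ : Spor.M22) : Equiv.Perm GolayPt)) hh
      have h5 : h.1 * g * h.1⁻¹ = ρ * g * ρ⁻¹ := h4
      have h6 : h.1⁻¹ * ρ * g = h.1⁻¹ * (ρ * g * ρ⁻¹) * ρ := by group
      rw [h6, ← h5]; group
  refine ⟨β, fun γ => ?_⟩
  obtain ⟨π, hπ, hcase, hγ⟩ := aut_M22 γ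
  rcases hcase with ⟨h1, h2⟩ | ⟨h1, h2⟩
  · have hin : γ ∈ Inn Spor.M22 := mem_inn_of_perm (mem_M22_iff.2 ⟨⟨hπ, h1⟩, h2⟩) hγ
    right
    refine ⟨hin, fun h => hβout ?_⟩
    have h3 := Subgroup.mul_mem _ (Subgroup.inv_mem _ hin) h
    rwa [inv_mul_cancel_left] at h3
  · left
    have hin : γ * β ∈ Inn Spor.M22 := by
      apply mem_inn_of_perm (π := π * ρ)
      · refine mem_M22_iff.2 ⟨⟨M24.mul_mem hπ hρ, ?_⟩, ?_⟩
        · show π (ρ none) = none
          rw [hρ0, h2]
        · show π (ρ (some 0)) = some 0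
          rw [hρ1, h1]
      · intro g
        show ((γ (β g) : Spor.M22) : Equiv.Perm GolayPt) = _
        rw [hγ, hβ]; group
    refine ⟨hin, fun h => hβout ?_⟩
    have h3 := Subgroup.mul_mem _ (Subgroup.inv_mem _ h) hin
    rwa [inv_mul_cancel_left] at h3

end Cfsg.Agent.H90
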