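import Cfsg.Agent.H90.CoRel
import Cfsg.Agent.H90.CoData3
import Cfsg.Agent.H90.OutMathieu
import Cfsg.Agent.Leech.RankThm

/-!
# Every automorphism of `Co3` is inner (owner: helper90)
-/

set_option autoImplicit false

namespace Cfsg.Agent.H90.Co

open Cfsg Cfsg.Agent.Golay Cfsg.Agent.LeechSimple Cfsg.Agent.Leech MulAction
open scoped Pointwise

theorem u5_fix_V : u5 • Spor.leechV = Spor.leechV := piHom_fix_V u_none

theorem u5_fix_e8 : u5 • e8 none = e8 none := piHom_fix_e8 u_none

/-- the stabiliser of a vector of the second shortest length -/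
abbrev G3 : Subgroup Co0 := stabilizer Co0 Spor.leechV

theorem card_G3 : Nat.card G3 = 495766656000 := card_stab_48 _ (by decide +kernel)

/-- `x` -/
def X3 : G3 := ⟨x23, x23_fix_V⟩
/-- `y` -/
def Y3 : G3 := ⟨x11, x11_fix_V⟩
/-- `u` -/
noncomputable def U3 : G3 := ⟨u5, u5_fix_V⟩
/-- `t` -/
noncomputable def T3' : G3 := ⟨tt, tt_V⟩

theorem mem_of_mem_G3 {x g : G3} (h : g * x * g⁻¹ ∈ Subgroup.zpowers x) :
    (g : Co0) * x * (g : Co0)⁻¹ ∈ Subgroup.zpowers (x : Co0) := by
  obtain ⟨k, hk⟩ := h
  exact ⟨k, congrArg Subtype.val hk⟩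

theorem smul_of_pow {x : Co0} {v : leechLattice} (h : x • v = v) (n : ℕ) : x ^ n • v = v := by
  induction n with
  | zero => rw [pow_zero, one_smul]
  | succ n ih => rw [pow_succ, mul_smul, h, ih]

theorem neg_V_ne : -Spor.leechV ≠ Spor.leechV := by
  intro h
  have h1 := congrFun (congrArg Subtype.val h) none
  have h2 : ((-Spor.leechV : leechLattice) : GolayPt → ℤ) none = -(Spor.leechV : GolayPt → ℤ) none := rfl
  have h3 : (Spor.leechV : GolayPt → ℤ) none = -5 := rfl
  change ((-Spor.leechV : leechLattice) : GolayPt → ℤ) none = (Spor.leechV : GolayPt → ℤ) none at h1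
  rw [h2, h3] at h1
  norm_num at h1

theorem norm23_G3 {g : Co0} (hV : g • Spor.leechV = Spor.leechV) (h : g * x23 * g⁻¹ ∈ Subgroup.zpowers x23) :
    ∃ a b : ℕ, g = x23 ^ a * x11 ^ b := by
  obtain ⟨a, b, hab | hab⟩ := norm23 h
  · exact ⟨a, b, hab⟩
  · exfalso
    rw [hab, mul_smul, mul_smul, smul_of_pow x11_fix_V, smul_of_pow x23_fix_V, negElt_smul] at hV
    exact neg_V_ne hV

/-- centraliser of `x11` in `Co3` -/
theorem cent_co3 {g : Co0} (hV : g • Spor.leechV = Spor.leechV) (h : g * x11 = x11 * g) :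
    ∃ i : ℕ, g = x11 ^ i ∨ g = x11 ^ i * tt := by
  have hg1 : g * x11 * g⁻¹ = x11 ^ 1 := by rw [h, mul_inv_cancel_right, pow_one]
  obtain ⟨i, j, hij⟩ := norm_co3 hV (mem_zpow hg1)
  have hu : u5 ^ j = 1 := by
    have h8 := k_mul (s := x11 ^ i) (k := 1) (by group) (u5_pow_x11 j)
    rw [one_mul] at h8
    have hexp : 4 ^ j % 11 = 1 % 11 := by
      apply x11_pow_inj
      rw [← hg1]
      rcases hij with hij | hij
      · rw [hij, h8]
      · rw [hij]
        have h9 := k_mul h8 tt_k
        rw [h9, mul_one]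
    rw [← Nat.div_add_mod j 5, four_pow_one hexp, add_zero, pow_mul, u5_pow, one_pow]
  rw [hu, mul_one] at hij
  exact ⟨i, hij⟩

theorem tt_ne_e8 : tt • e8 none ≠ e8 none := by
  intro h
  have h1 := tt_e8.1
  rw [h, e8_val, if_pos rfl] at h1
  norm_num at h1

theorem x11_sq_one {i : ℕ} (h : x11 ^ i * x11 ^ i = 1) : x11 ^ i = 1 := by
  rw [← pow_add] at h
  have h1 := x11_pow_inj (a := i + i) (b := 0) (by rw [h, pow_zero])
  rw [x11_pow_mod]
  have : i % 11 = 0 := by omega
  rw [this, pow_zero]

/-- **Generation of `Co3`.** -/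
theorem gen_G3 : Subgroup.closure ({X3, Y3, U3, T3'} : Set G3) = ⊤ := by
  set H : Subgroup G3 := Subgroup.closure ({X3, Y3, U3, T3'} : Set G3) with hH
  have mX : X3 ∈ H := Subgroup.subset_closure (by simp)
  have mY : Y3 ∈ H := Subgroup.subset_closure (by simp)
  have mU : U3 ∈ H := Subgroup.subset_closure (by simp)
  have mT : T3' ∈ H := Subgroup.subset_closure (by simp)
  set H' : Subgroup Co0 := H.map G3.subtype with hH'
  have mx : x23 ∈ H' := ⟨X3, mX, rfl⟩
  have my : x11 ∈ H' := ⟨Y3, mY, rfl⟩
  have mu : u5 ∈ H' := ⟨U3, mU, rfl⟩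
  have mt : tt ∈ H' := ⟨T3', mT, rfl⟩
  have hcard : Nat.card H' = Nat.card H :=
    (Nat.card_congr (H.equivMapOfInjective G3.subtype G3.subtype_injective).toEquiv).symm
  -- the factor 25
  have h275 : 275 ∣ Nat.card H := by
    rw [← hcard]
    have hmh : matElt mhR mhC mhM ∈ H' := by
      have e : matElt mhR mhC mhM = wd gs ([3, 0, 3, 0, 3] ++ List.replicate 22 0 ++ [3] ++ List.replicate 22 0) := by
        have hA : ∀ i ∈ [7], Act ((fun i => if i = 7 then matElt mhR mhC mhM else gs i) i) ((qs ++ [(mhQ, mhK)]).getD i ([], 0)) := by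
          intro i hi
          rw [List.mem_singleton] at hi
          subst hi
          exact act_mat mhM mhP
        have hA' : ∀ i ∈ ([3, 0, 3, 0, 3] ++ List.replicate 22 0 ++ [3] ++ List.replicate 22 0),
            Act ((fun i => if i = 7 then matElt mhR mhC mhM else gs i) i) ((qs ++ [(mhQ, mhK)]).getD i ([], 0)) := by
          intro i hi
          have h1 : i = 0 ∨ i = 3 := by
            simp at hi
            omega
          rcases h1 with rfl | rfl
          · exact act_gs 0 (by norm_num)
          · exact act_gs 3 (by norm_num)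
        have h1 := eq_of_eqW hA hA' (by decide +kernel)
        have h2 : wd (fun i => if i = 7 then matElt mhR mhC mhM else gs i) [7] = matElt mhR mhC mhM := by
          rw [wd_cons, wd_nil, one_mul, if_pos rfl]
        rw [h2] at h1
        rw [h1]
        apply wd_congr
        intro i hi
        have h1 : i = 0 ∨ i = 3 := by
          simp at hi
          omega
        rcases h1 with rfl | rfl <;> rfl
      rw [e]
      apply wd_mem
      intro i hi
      have h1 : i = 0 ∨ i = 3 := by
        simp at hi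
        omega
      rcases h1 with rfl | rfl
      · exact mx
      · exact mt
    set S : Subgroup Co0 := H' ⊓ (stabilizer Co0 Spor.leechV ⊓ stabilizer Co0 (-Spor.leechU)) with hS
    have g0 : IsGen S (myQ, myK) := by
      apply isGen_of myM myP
      rw [my_eq]
      refine ⟨my, x11_fix_V, ?_⟩
      show x11 • (-Spor.leechU) = -Spor.leechU
      rw [co0_neg, ← my_eq, fix_of myM myP (c := cU) (by decide +kernel) cU_eq (by rw [norm_leechU]; norm_num) (by decide +kernel)]
    have g1 : IsGen S (mhQ, mhK) := by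
      apply isGen_of mhM mhP
      refine ⟨hmh, ?_, ?_⟩
      · exact fix_of mhM mhP (c := cV) (by decide +kernel) cV_eq (by rw [norm_leechV]) (by decide +kernel)
      · show matElt mhR mhC mhM • (-Spor.leechU) = -Spor.leechU
        rw [co0_neg, fix_of mhM mhP (c := cU) (by decide +kernel) cU_eq (by rw [norm_leechU]; norm_num) (by decide +kernel)]
    have hge : 275 ≤ (orbit S p275).ncard := by
      refine orbit_ge (gens := [(myQ, myK), (mhQ, mhK)]) (G := p3G) S p275 (c0 := 519899659641680805127698729222554000) rfl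
        (by rw [norm_p275]; norm_num) ?_ (by decide +kernel) (min_finite.subset (orbit_subset_min norm_p275))
      intro g hg
      have h : g = 0 ∨ g = 1 := by
        have : [(myQ, myK), (mhQ, mhK)].length = 2 := rfl
        omega
      rcases h with rfl | rfl
      · exact g0
      · exact g1
    have horb : orbit S p275 = T3 Spor.leechV (-Spor.leechU) 24 16 :=
      orbit_eq_of_ge (T3_finite _ _ _ _) T275_ncard
        (orbit_subset_T3 ⟨norm_p275, by decide +kernel, by decide +kernel⟩ (inf_le_right.trans inf_le_left)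
          (inf_le_right.trans inf_le_right)) hge
    have h1 : Nat.card (orbit S p275) = 275 := by
      rw [horb]
      exact T275_ncard
    have h2 : 275 ∣ Nat.card S := by
      rw [← h1, Nat.card_congr (orbitEquivQuotientStabilizer S p275)]
      exact Subgroup.card_quotient_dvd_card _
    exact h2.trans (Subgroup.card_dvd_of_le inf_le_left)
  -- the index
  have ox : orderOf X3 = 23 := by
    rw [← orderOf_x23]; exact (Subgroup.orderOf_coe X3).symm
  have oy : orderOf Y3 = 11 := by
    rw [← orderOf_x11]; exact (Subgroup.orderOf_coe Y3).symm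
  have : Fact (Nat.Prime 23) := ⟨by norm_num⟩
  have : Fact (Nat.Prime 11) := ⟨by norm_num⟩
  have i23 : H.index % 23 = 1 := by
    refine Rig.index_mod ox (by rw [card_G3]; norm_num) H mX fun g hg => ?_
    obtain ⟨a, b, hab⟩ := norm23_G3 g.2 (mem_of_mem_G3 hg)
    have : g = X3 ^ a * Y3 ^ b := Subtype.ext hab
    rw [this]
    exact H.mul_mem (H.pow_mem mX a) (H.pow_mem mY b)
  have i11 : H.index % 11 = 1 := by
    refine Rig.index_mod oy (by rw [card_G3]; norm_num) H mY fun g hg => ?_
    obtain ⟨a, b, hab | hab⟩ := norm_co3 g.2 (mem_of_mem_G3 hg)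
    · have : g = Y3 ^ a * U3 ^ b := Subtype.ext hab
      rw [this]
      exact H.mul_mem (H.pow_mem mY a) (H.pow_mem mU b)
    · have : g = Y3 ^ a * U3 ^ b * T3' := Subtype.ext hab
      rw [this]
      exact H.mul_mem (H.mul_mem (H.pow_mem mY a) (H.pow_mem mU b)) mT
  have hmul := H.index_mul_card
  rw [card_G3] at hmul
  obtain ⟨k, hk⟩ := h275
  have hd1 : H.index ∣ 2 ^ 10 * (3 ^ 7 * (5 ^ 1 * 7 ^ 1)) := by
    have h1 : H.index ∣ 2 ^ 10 * (3 ^ 7 * (5 ^ 1 * 7 ^ 1)) * 23 := by
      have h2 : H.index * k * 275 = 2 ^ 10 * (3 ^ 7 * (5 ^ 1 * 7 ^ 1)) * 23 * 275 := by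
        rw [mul_assoc, mul_comm k, ← hk, hmul]; norm_num
      exact Dvd.intro k (Nat.eq_of_mul_eq_mul_right (by norm_num) h2)
    apply Nat.Coprime.dvd_of_dvd_mul_right _ h1
    rw [Nat.coprime_comm, Nat.Prime.coprime_iff_not_dvd (by norm_num)]
    omega
  have h1 : H.index = 1 := eq_one_of_chk (m := 253) hd1 (by omega) (by decide +kernel)
  exact Subgroup.index_eq_one.1 h1

/-- Every automorphism of `Co3` is inner. -/
theorem aut_G3 (α : MulAut G3) : α ∈ Inn G3 := by
  have ox : orderOf X3 = 23 := by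
    rw [← orderOf_x23]; exact (Subgroup.orderOf_coe X3).symm
  obtain ⟨g, h1, h2, h3⟩ := Rig.rigid (x := X3) (y := Y3) (u := U3) ox (by rw [card_G3]; norm_num)
    (by
      intro g hg
      obtain ⟨a, b, hab⟩ := norm23_G3 g.2 (mem_of_mem_G3 hg)
      exact ⟨a, b, Subtype.ext hab⟩)
    (Subtype.ext x11_pow_11) (Subtype.ext x11_x23) (Subtype.ext u5_x11) (Subtype.ext u5_pow)
    (by
      intro c hc1 hc2
      obtain ⟨i, hi | hi⟩ := cent_co3 c.2 (congrArg Subtype.val hc1)
      · exact ⟨i, Subtype.ext hi⟩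
      · exfalso
        have h1 : (u5 * (c : Co0)) ^ 5 = 1 := congrArg Subtype.val hc2
        rw [hi, ← mul_assoc] at h1
        have hcom : Commute (u5 * x11 ^ i) tt :=
          Commute.mul_left (tt_u5.symm : u5 * tt = tt * u5) (Commute.pow_left (tt_x11.symm : x11 * tt = tt * x11) i)
        rw [hcom.mul_pow] at h1
        have h2 : tt ^ 5 = tt := by
          have : tt ^ 5 = (tt * tt) * (tt * tt) * tt := by
            simp only [pow_succ, pow_zero, one_mul, mul_assoc]
          rw [this, tt_sq, one_mul, one_mul]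
        rw [h2] at h1
        have h3 : ((u5 * x11 ^ i) ^ 5 * tt) • e8 none = e8 none := by rw [h1, one_smul]
        have h4 : (u5 * x11 ^ i) • e8 none = e8 none := by rw [mul_smul, smul_of_pow x11_fix_e8, u5_fix_e8]
        rw [mul_smul, ← eq_inv_smul_iff] at h3
        apply tt_ne_e8
        rw [h3, inv_smul_eq_iff, smul_of_pow h4])
    (by
      intro β m i hm hi hx hy hu
      have hr : (X3 ^ 8 * U3 ^ 2) ^ 4 = 1 := Subtype.ext rel_one
      have h1 := congrArg β hr
      rw [map_pow, map_mul, map_pow, map_pow, map_one, hx, hu] at h1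
      exact rel_cases hm hi (congrArg Subtype.val h1))
    α
  refine mem_inn_of_fix gen_G3 (g := g) ?_
  set β := MulAut.conj g * α with hβ
  intro s hs
  simp only [Set.mem_insert_iff, Set.mem_singleton_iff] at hs
  rcases hs with rfl | rfl | rfl | rfl
  · exact h1
  · exact h2
  · exact h3
  · have e1 : T3' * Y3 = Y3 * T3' := Subtype.ext tt_x11
    have e2 : T3' * T3' = 1 := Subtype.ext tt_sq
    have e3 := congrArg β e1
    rw [map_mul, map_mul, h2] at e3
    have e4 := congrArg β e2
    rw [map_mul, map_one] at e4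
    have e4' : ((β T3' : G3) : Co0) * ((β T3' : G3) : Co0) = 1 := congrArg Subtype.val e4
    obtain ⟨i, hi | hi⟩ := cent_co3 (β T3').2 (congrArg Subtype.val e3)
    · exfalso
      rw [hi] at e4'
      rw [x11_sq_one e4'] at hi
      have h5 : β T3' = 1 := Subtype.ext hi
      have h6 : T3' = 1 := β.injective (h5.trans (map_one β).symm)
      have h7 : tt = 1 := congrArg Subtype.val h6
      apply tt_ne_e8
      rw [h7, one_smul]
    · rw [hi] at e4'
      have h5 : x11 ^ i * x11 ^ i = 1 := by
        have hcom : Commute (x11 ^ i) tt := Commute.pow_left (tt_x11.symm : x11 * tt = tt * x11) i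
        have : x11 ^ i * tt * (x11 ^ i * tt) = x11 ^ i * x11 ^ i * (tt * tt) := by
          rw [mul_assoc, ← mul_assoc tt, ← hcom.eq]; group
        rw [this, tt_sq, mul_one] at e4'
        exact e4'
      rw [x11_sq_one h5, one_mul] at hi
      exact Subtype.ext hi

end Cfsg.Agent.H90.Co
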