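import Cfsg.Agent.H90.CoRel
import Cfsg.Agent.H90.CoThree

/-!
# Relations in `Co0` for the automorphisms of `Co1` (owner: helper90)
-/

set_option autoImplicit false

namespace Cfsg.Agent.H90.Co

open Cfsg Cfsg.Agent.Golay Cfsg.Agent.LeechSimple Cfsg.Agent.Leech MulAction
open scoped Pointwise

theorem wd_pow {G : Type*} [Monoid G] (gs : ℕ → G) (w : List ℕ) (n : ℕ) :
    wd gs (List.replicate n w).flatten = wd gs w ^ n := by
  induction n with
  | zero => rw [List.replicate_zero, List.flatten_nil, wd_nil, pow_zero]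
  | succ n ih => rw [List.replicate_succ, List.flatten_cons, wd_append, ih, pow_succ]

/-! ### The element `-1` -/

theorem neg_sq : negElt * negElt = 1 := by
  apply co0_ext
  intro x
  rw [mul_smul, negElt_smul, negElt_smul, neg_neg, one_smul]

theorem neg_ne_one : negElt ≠ 1 := by
  intro h
  apply neg_ne V_ne_zero
  rw [h, one_smul]

theorem qC_one {a : Co0} (h : qC a = 1) : a = 1 ∨ a = negElt :=
  center_cases ((QuotientGroup.eq_one_iff a).1 h)

theorem qC_neg : qC negElt = 1 := (QuotientGroup.eq_one_iff negElt).2 neg_mem_center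

theorem qC_eq {a b : Co0} (h : qC a = qC b) : a = b ∨ a = negElt * b := by
  have h1 : qC (a * b⁻¹) = 1 := by rw [map_mul, map_inv, h, mul_inv_cancel]
  rcases qC_one h1 with h2 | h2
  · left; rwa [mul_inv_eq_one] at h2
  · right; rwa [mul_inv_eq_iff_eq_mul] at h2

theorem neg_pow_odd' {n : ℕ} (hn : n % 2 = 1) : negElt ^ n = negElt := by
  conv_lhs => rw [← Nat.div_add_mod n 2, hn, pow_succ, pow_mul, pow_two, neg_sq, one_pow, one_mul]

/-- elements of odd order are determined by their images -/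
theorem lift_odd {a b : Co0} {n : ℕ} (hn : n % 2 = 1) (ha : a ^ n = 1) (hb : b ^ n = 1) (h : qC a = qC b) : a = b := by
  rcases qC_eq h with h1 | h1
  · exact h1
  · exfalso
    rw [h1, (show Commute negElt b from neg_comm b).mul_pow, hb, mul_one, neg_pow_odd' hn] at ha
    exact neg_ne_one ha

/-- `w` is not in the centre -/
theorem notCenter_wd (w : List ℕ) (h1 : okW w = true) (h : neW qs w c0 = true) (h' : neW qs (w ++ [6]) c0 = true) :
    qC (wd gs w) ≠ 1 := by
  intro h2
  rcases qC_one h2 with h3 | h3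
  · exact ne_wd w h1 h h3
  · have h4 := ne_wd (w ++ [6]) (by
      unfold okW at *
      rw [List.all_append, h1]; rfl) h'
    apply h4
    rw [wd_append, h3, wd_cons, wd_nil, one_mul]
    exact neg_sq

/-! ### The relation `[s, s^x] = 1` -/

/-- the word of `s (x s x⁻¹)` -/
def wA (s : List ℕ) : List ℕ := List.replicate 22 0 ++ (s ++ ([0] ++ s))

theorem wd_wA (s : List ℕ) : wd gs (wA s) = wd gs s * (x23 * wd gs s * x23 ^ 22) := by
  unfold wA
  rw [wd_append, wd_append, wd_append, wd_replicate, wd_cons, wd_nil, one_mul]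
  show wd gs s * x23 * wd gs s * x23 ^ 22 = _
  simp only [mul_assoc]

/-- the word of `x y^4 s` -/
def wB (s : List ℕ) : List ℕ := s ++ (List.replicate 4 1 ++ [0])

theorem wd_wB (s : List ℕ) : wd gs (wB s) = x23 * x11 ^ 4 * wd gs s := by
  unfold wB
  rw [wd_append, wd_append, wd_replicate, wd_cons, wd_nil, one_mul]
  rfl

/-- `s (x s x⁻¹)` -/
def fA {G : Type*} [Group G] (x s : G) : G := (s * (x * s * x ^ 22)) ^ 2
/-- `(x y^4 s)^10` -/
def fB {G : Type*} [Group G] (x y s : G) : G := (x * y ^ 4 * s) ^ 10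

theorem map_fA {G H : Type*} [Group G] [Group H] (f : G →* H) (x s : G) : f (fA x s) = fA (f x) (f s) := by
  unfold fA
  simp only [map_pow, map_mul]

theorem map_fB {G H : Type*} [Group G] [Group H] (f : G →* H) (x y s : G) : f (fB x y s) = fB (f x) (f y) (f s) := by
  unfold fB
  simp only [map_pow, map_mul]

theorem wd_fA (s : List ℕ) : wd gs (List.replicate 2 (wA s)).flatten = fA x23 (wd gs s) := by
  rw [wd_pow, wd_wA]; rfl

theorem wd_fB (s : List ℕ) : wd gs (List.replicate 10 (wB s)).flatten = fB x23 x11 (wd gs s) := by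
  rw [wd_pow, wd_wB]; rfl

theorem wd_e : wd gs [5] = ee := by rw [wd_cons, wd_nil, one_mul]; rfl
theorem wd_t : wd gs [3] = tt := by rw [wd_cons, wd_nil, one_mul]; rfl
theorem wd_ete : wd gs [5, 3, 5] = ee * tt * ee := by simp only [wd_cons, wd_nil, one_mul]; rfl

theorem fA_e : fA x23 ee = 1 := by
  rw [← wd_e, ← wd_fA]
  exact eq_wd _ [] (by decide) (by decide) (by decide +kernel)

theorem fA_t : qC (fA x23 tt) ≠ 1 := by
  rw [← wd_t, ← wd_fA]
  exact notCenter_wd _ (by decide) (by decide +kernel) (by decide +kernel)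

theorem fA_ete : qC (fA x23 (ee * tt * ee)) ≠ 1 := by
  rw [← wd_ete, ← wd_fA]
  exact notCenter_wd _ (by decide) (by decide +kernel) (by decide +kernel)

theorem fB_t : fB x23 x11 tt = 1 := by
  rw [← wd_t, ← wd_fB]
  exact eq_wd _ [] (by decide) (by decide) (by decide +kernel)

theorem fB_ete : qC (fB x23 x11 (ee * tt * ee)) ≠ 1 := by
  rw [← wd_ete, ← wd_fB]
  exact notCenter_wd _ (by decide) (by decide +kernel) (by decide +kernel)

/-! ### An element of order 11 inverted by `e` -/

/-- the word of `e (w t w⁻¹)`, `w = x t e t x` -/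
def wY : List ℕ := List.replicate 22 0 ++ ([3, 5, 3] ++ (List.replicate 22 0 ++ ([3] ++ ([0, 3, 5, 3, 0] ++ [5]))))

/-- `w t w⁻¹` -/
noncomputable def bb : Co0 := (x23 * tt * ee * tt * x23) * tt * (x23 * tt * ee * tt * x23)⁻¹

theorem ww_inv : (x23 * tt * ee * tt * x23)⁻¹ = x23 ^ 22 * (tt * ee * tt) * x23 ^ 22 := by
  have h1 : x23⁻¹ = x23 ^ 22 := by
    rw [inv_eq_iff_mul_eq_one, ← pow_succ']; exact x23_pow_23
  have t1 : tt⁻¹ = tt := inv_eq_of_mul_eq_one_right tt_sq
  have t2 : ee⁻¹ = ee := inv_eq_of_mul_eq_one_right ee_sq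
  rw [mul_inv_rev, mul_inv_rev, mul_inv_rev, mul_inv_rev, h1, t1, t2]
  simp only [mul_assoc]

theorem wd_wY : wd gs wY = ee * bb := by
  unfold wY bb
  rw [ww_inv]
  simp only [wd_append, wd_replicate, wd_cons, wd_nil, one_mul, mul_assoc]
  rfl

theorem bb_sq : bb * bb = 1 := by
  unfold bb
  have : ∀ w : Co0, w * tt * w⁻¹ * (w * tt * w⁻¹) = w * (tt * tt) * w⁻¹ := fun w => by group
  rw [this, tt_sq, mul_one, mul_inv_cancel]

theorem eb_pow : (ee * bb) ^ 11 = negElt := by
  rw [← wd_wY, ← wd_pow]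
  have h := eq_wd (List.replicate 11 wY).flatten [6] (by decide +kernel) (by decide) (by decide +kernel)
  rw [h, wd_cons, wd_nil, one_mul]; rfl

theorem eb_ne : qC (ee * bb) ≠ 1 := by
  rw [← wd_wY]
  exact notCenter_wd _ (by decide +kernel) (by decide +kernel) (by decide +kernel)

theorem e8_ne_zero : e8 none ≠ 0 := by
  intro h
  have h1 := norm_e8 (none : GolayPt)
  rw [h] at h1
  have h2 : sqNorm ((0 : leechLattice) : GolayPt → ℤ) = 0 := by
    show sqNorm (0 : GolayPt → ℤ) = 0
    simp [sqNorm]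
  rw [h2] at h1
  norm_num at h1

theorem ee_ne : qC ee ≠ 1 := by
  intro h
  rcases qC_one h with h1 | h1
  · have h2 := ne_wd [5] (by decide) (by decide +kernel)
    rw [wd_e] at h2
    exact h2 h1
  · apply neg_ne e8_ne_zero
    rw [← h1]
    exact ee_e8

end Cfsg.Agent.H90.Co
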