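import Cfsg.Agent.H90.OutMathieu
import Cfsg.Prelude.Def_Spor_Conway

/-!
# Transfer to the subgroups of `Equiv.Perm leechLattice` (owner: helper90)
-/

set_option autoImplicit false

namespace Cfsg.Agent.H90.Co

open Cfsg MulAction

theorem inn_transfer {G H : Type*} [Group G] [Group H] (e : G ≃* H) (h : ∀ α : MulAut G, α ∈ Inn G) (β : MulAut H) :
    β ∈ Inn H := by
  obtain ⟨g, hg⟩ := h ((e.trans β).trans e.symm)
  refine ⟨e g, ?_⟩
  ext x
  have h1 := DFunLike.congr_fun hg (e.symm x)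
  change g * e.symm x * g⁻¹ = e.symm (β (e (e.symm x))) at h1
  rw [MulEquiv.apply_symm_apply] at h1
  show e g * x * (e g)⁻¹ = β x
  have h2 := congrArg e h1
  rw [map_mul, map_mul, MulEquiv.apply_symm_apply, MulEquiv.apply_symm_apply, map_inv] at h2
  exact h2

/-- a subgroup of a subgroup as a subgroup of the whole group -/
noncomputable def equivOf {P : Type*} [Group P] {C : Subgroup P} {S : Subgroup C} {T : Subgroup P} (h : S.map C.subtype = T) :
    S ≃* T :=
  (S.equivMapOfInjective C.subtype C.subtype_injective).trans (MulEquiv.subgroupCongr h)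

theorem stab_map (v : leechLattice) : (stabilizer Co0 v).map Co0.subtype = Co0 ⊓ stabilizer (Equiv.Perm leechLattice) v := by
  ext g
  constructor
  · rintro ⟨h, hh, rfl⟩
    exact ⟨h.2, hh⟩
  · rintro ⟨h1, h2⟩
    exact ⟨⟨g, h1⟩, h2, rfl⟩

theorem stab_map2 (v w : leechLattice) : (stabilizer Co0 v ⊓ stabilizer Co0 w).map Co0.subtype =
    (Co0 ⊓ stabilizer (Equiv.Perm leechLattice) v) ⊓ stabilizer (Equiv.Perm leechLattice) w := by
  ext g
  constructor
  · rintro ⟨h, hh, rfl⟩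
    exact ⟨⟨h.2, hh.1⟩, hh.2⟩
  · rintro ⟨⟨h1, h2⟩, h3⟩
    exact ⟨⟨g, h1⟩, ⟨h2, h3⟩, rfl⟩

/-- `Co3` -/
noncomputable def isoCo3 : stabilizer Co0 Spor.leechV ≃* Spor.Co3 := equivOf (stab_map Spor.leechV)
/-- `Co2` -/
noncomputable def isoCo2 : stabilizer Co0 Spor.leechU ≃* Spor.Co2 := equivOf (stab_map Spor.leechU)
/-- `McL` -/
noncomputable def isoMcL : ↥(stabilizer Co0 Spor.leechV ⊓ stabilizer Co0 Spor.leechU) ≃* Spor.McL :=
  equivOf (stab_map2 Spor.leechV Spor.leechU)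
/-- `HS` -/
noncomputable def isoHS : ↥(stabilizer Co0 Spor.leechV ⊓ stabilizer Co0 Spor.leechU') ≃* Spor.HS :=
  equivOf (stab_map2 Spor.leechV Spor.leechU')

end Cfsg.Agent.H90.Co
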