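import Cfsg.Agent.H90.CoThree
import Cfsg.Agent.H90.CoData2
import Cfsg.Agent.Leech.Orders

/-!
# Every automorphism of `Co2` is inner (owner: helper90)
-/

set_option autoImplicit false

namespace Cfsg.Agent.H90.Co

open Cfsg Cfsg.Agent.Golay Cfsg.Agent.LeechSimple Cfsg.Agent.Leech MulAction
open scoped Pointwise

theorem x23_fix_w : x23 • w32 = w32 := by unfold w32; rw [co0_add, x23_fix_V, x23_fix_e8]
theorem x11_fix_w : x11 • w32 = w32 := by unfold w32; rw [co0_add, x11_fix_V, x11_fix_e8]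
theorem u5_fix_w : u5 • w32 = w32 := by unfold w32; rw [co0_add, u5_fix_V, u5_fix_e8]

/-- the stabiliser of a minimal vector -/
abbrev G2 : Subgroup Co0 := stabilizer Co0 w32

theorem card_G2 : Nat.card G2 = 42305421312000 := card_stab_32 _ norm_w32

/-- `x` -/
def X2 : G2 := ⟨x23, x23_fix_w⟩
/-- `y` -/
def Y2 : G2 := ⟨x11, x11_fix_w⟩
/-- `u` -/
noncomputable def U2 : G2 := ⟨u5, u5_fix_w⟩
/-- `z` -/
noncomputable def Z2 : G2 := ⟨zz, zz_w32⟩

theorem mem_of_mem_G2 {x g : G2} (h : g * x * g⁻¹ ∈ Subgroup.zpowers x) :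
    (g : Co0) * x * (g : Co0)⁻¹ ∈ Subgroup.zpowers (x : Co0) := by
  obtain ⟨k, hk⟩ := h
  exact ⟨k, congrArg Subtype.val hk⟩

theorem neg_w_ne : -w32 ≠ w32 := by
  intro h
  have h1 := congrFun (congrArg Subtype.val h) none
  have h2 : ((-w32 : leechLattice) : GolayPt → ℤ) none = -(w32 : GolayPt → ℤ) none := rfl
  have h3 : (w32 : GolayPt → ℤ) none = 3 := rfl
  change ((-w32 : leechLattice) : GolayPt → ℤ) none = (w32 : GolayPt → ℤ) none at h1
  rw [h2, h3] at h1
  norm_num at h1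

theorem norm23_G2 {g : Co0} (hV : g • w32 = w32) (h : g * x23 * g⁻¹ ∈ Subgroup.zpowers x23) :
    ∃ a b : ℕ, g = x23 ^ a * x11 ^ b := by
  obtain ⟨a, b, hab | hab⟩ := norm23 h
  · exact ⟨a, b, hab⟩
  · exfalso
    rw [hab, mul_smul, mul_smul, smul_of_pow x11_fix_w, smul_of_pow x23_fix_w, negElt_smul] at hV
    exact neg_w_ne hV

theorem zi_k : zz⁻¹ * x11 * (zz⁻¹)⁻¹ = x11 ^ 6 := by
  have h1 : zz * x11 ^ 6 * zz⁻¹ = x11 := by
    rw [← conj_pow, zz_k, ← pow_mul, x11_pow_mod]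
    exact pow_one _
  rw [inv_inv]
  calc zz⁻¹ * x11 * zz = zz⁻¹ * (zz * x11 ^ 6 * zz⁻¹) * zz := by rw [h1]
    _ = x11 ^ 6 := by group

/-- centraliser of `x11` in `Co2` -/
theorem cent_co2 {g : Co0} (hV : g • w32 = w32) (h : g * x11 = x11 * g) : ∃ i : ℕ, g = x11 ^ i := by
  have hg1 : g * x11 * g⁻¹ = x11 ^ 1 := by rw [h, mul_inv_cancel_right, pow_one]
  obtain ⟨i, j, hij⟩ := norm_co2 hV (mem_zpow hg1)
  have h8 := k_mul (s := x11 ^ i) (k := 1) (by group) (u5_pow_x11 j)
  rw [one_mul] at h8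
  rcases hij with hij | hij
  · have hexp : 4 ^ j % 11 = 1 % 11 := by
      apply x11_pow_inj
      rw [← hg1, hij, h8]
    have hu : u5 ^ j = 1 := by
      rw [← Nat.div_add_mod j 5, four_pow_one hexp, add_zero, pow_mul, u5_pow, one_pow]
    rw [hu, mul_one] at hij
    exact ⟨i, hij⟩
  · exfalso
    have hexp : (4 ^ j * 6) % 11 = 1 % 11 := by
      apply x11_pow_inj
      rw [← hg1, hij]
      exact (k_mul h8 zi_k).symm
    have := four_pow j
    omega

/-- **Generation of `Co2`.** -/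
theorem gen_G2 : Subgroup.closure ({X2, Y2, U2, Z2} : Set G2) = ⊤ := by
  set H : Subgroup G2 := Subgroup.closure ({X2, Y2, U2, Z2} : Set G2) with hH
  have mX : X2 ∈ H := Subgroup.subset_closure (by simp)
  have mY : Y2 ∈ H := Subgroup.subset_closure (by simp)
  have mU : U2 ∈ H := Subgroup.subset_closure (by simp)
  have mZ : Z2 ∈ H := Subgroup.subset_closure (by simp)
  set H' : Subgroup Co0 := H.map G2.subtype with hH'
  have mx : x23 ∈ H' := ⟨X2, mX, rfl⟩
  have mz : zz ∈ H' := ⟨Z2, mZ, rfl⟩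
  have hcard : Nat.card H' = Nat.card H :=
    (Nat.card_congr (H.equivMapOfInjective G2.subtype G2.subtype_injective).toEquiv).symm
  have hle : H' ≤ stabilizer Co0 w32 := by
    rintro _ ⟨g, _, rfl⟩
    exact g.2
  -- the factor 25
  have h4600 : 4600 ∣ Nat.card H := by
    rw [← hcard]
    have g0 : IsGen H' (mxQ, mxK) := by
      apply isGen_of mxM mxP
      rw [mx_eq]
      exact mx
    have g1 : IsGen H' (mzQ, mzK) := isGen_of mzM mzP mz
    set p : leechLattice := ⟨vecOf 519899659641680805127698729222554132, mem_of_test (by decide +kernel)⟩ with hp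
    have hpn : sqNorm (p : GolayPt → ℤ) = 32 := by decide +kernel
    have hge : 4600 ≤ (orbit H' p).ncard := by
      refine orbit_ge (gens := [(mxQ, mxK), (mzQ, mzK)]) (G := p4600G) H' p (c0 := 519899659641680805127698729222554132) rfl
        (by rw [hpn]; norm_num) ?_ (by decide +kernel) (min_finite.subset (orbit_subset_min hpn))
      intro g hg
      have h : g = 0 ∨ g = 1 := by
        have : [(mxQ, mxK), (mzQ, mzK)].length = 2 := rfl
        omega
      rcases h with rfl | rfl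
      · exact g0
      · exact g1
    have horb : orbit H' p = {x : leechLattice | sqNorm (x : GolayPt → ℤ) = 32 ∧
        dotInt (w32 : GolayPt → ℤ) (x : GolayPt → ℤ) = -16} := by
      refine orbit_eq_of_ge (min_finite.subset (fun _ h => h.1)) (census32_m16 w32 norm_w32) ?_ hge
      rintro y hy
      refine ⟨orbit_subset_min hpn hy, ?_⟩
      rw [orbit_dot hle hy]
      decide +kernel
    have h1 : Nat.card (orbit H' p) = 4600 := by
      rw [horb]
      exact census32_m16 w32 norm_w32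
    rw [← h1, Nat.card_congr (orbitEquivQuotientStabilizer H' p)]
    exact Subgroup.card_quotient_dvd_card _
  -- the index
  have ox : orderOf X2 = 23 := by
    rw [← orderOf_x23]; exact (Subgroup.orderOf_coe X2).symm
  have oy : orderOf Y2 = 11 := by
    rw [← orderOf_x11]; exact (Subgroup.orderOf_coe Y2).symm
  have : Fact (Nat.Prime 23) := ⟨by norm_num⟩
  have : Fact (Nat.Prime 11) := ⟨by norm_num⟩
  have i23 : H.index % 23 = 1 := by
    refine Rig.index_mod ox (by rw [card_G2]; norm_num) H mX fun g hg => ?_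
    obtain ⟨a, b, hab⟩ := norm23_G2 g.2 (mem_of_mem_G2 hg)
    have : g = X2 ^ a * Y2 ^ b := Subtype.ext hab
    rw [this]
    exact H.mul_mem (H.pow_mem mX a) (H.pow_mem mY b)
  have i11 : H.index % 11 = 1 := by
    refine Rig.index_mod oy (by rw [card_G2]; norm_num) H mY fun g hg => ?_
    obtain ⟨a, b, hab | hab⟩ := norm_co2 g.2 (mem_of_mem_G2 hg)
    · have : g = Y2 ^ a * U2 ^ b := Subtype.ext hab
      rw [this]
      exact H.mul_mem (H.pow_mem mY a) (H.pow_mem mU b)
    · have : g = Y2 ^ a * U2 ^ b * Z2⁻¹ := Subtype.ext hab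
      rw [this]
      exact H.mul_mem (H.mul_mem (H.pow_mem mY a) (H.pow_mem mU b)) (H.inv_mem mZ)
  have hmul := H.index_mul_card
  rw [card_G2] at hmul
  obtain ⟨k, hk⟩ := h4600
  have hd1 : H.index ∣ 2 ^ 18 * (3 ^ 6 * (5 ^ 1 * 7 ^ 1)) := by
    have h1 : H.index ∣ 2 ^ 18 * (3 ^ 6 * (5 ^ 1 * 7 ^ 1)) * (11 * 23) := by
      have h2 : H.index * (k * 184) * 25 = 2 ^ 18 * (3 ^ 6 * (5 ^ 1 * 7 ^ 1)) * (11 * 23) * 25 := by
        have : H.index * (k * 184) * 25 = H.index * (4600 * k) := by ring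
        rw [this, ← hk, hmul]; norm_num
      exact Dvd.intro _ (Nat.eq_of_mul_eq_mul_right (by norm_num) h2)
    apply Nat.Coprime.dvd_of_dvd_mul_right _ h1
    apply Nat.Coprime.mul_right
    · rw [Nat.coprime_comm, Nat.Prime.coprime_iff_not_dvd (by norm_num)]
      omega
    · rw [Nat.coprime_comm, Nat.Prime.coprime_iff_not_dvd (by norm_num)]
      omega
  have h1 : H.index = 1 := eq_one_of_chk (m := 253) hd1 (by omega) (by decide +kernel)
  exact Subgroup.index_eq_one.1 h1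

/-- Every automorphism of `Co2` is inner. -/
theorem aut_G2 (α : MulAut G2) : α ∈ Inn G2 := by
  have ox : orderOf X2 = 23 := by
    rw [← orderOf_x23]; exact (Subgroup.orderOf_coe X2).symm
  obtain ⟨g, h1, h2, h3⟩ := Rig.rigid (x := X2) (y := Y2) (u := U2) ox (by rw [card_G2]; norm_num)
    (by
      intro g hg
      obtain ⟨a, b, hab⟩ := norm23_G2 g.2 (mem_of_mem_G2 hg)
      exact ⟨a, b, Subtype.ext hab⟩)
    (Subtype.ext x11_pow_11) (Subtype.ext x11_x23) (Subtype.ext u5_x11) (Subtype.ext u5_pow)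
    (by
      intro c hc1 hc2
      obtain ⟨i, hi⟩ := cent_co2 c.2 (congrArg Subtype.val hc1)
      exact ⟨i, Subtype.ext hi⟩)
    (by
      intro β m i hm hi hx hy hu
      have hr : (X2 ^ 8 * U2 ^ 2) ^ 4 = 1 := Subtype.ext rel_one
      have h1 := congrArg β hr
      rw [map_pow, map_mul, map_pow, map_pow, map_one, hx, hu] at h1
      exact rel_cases hm hi (congrArg Subtype.val h1))
    α
  refine mem_inn_of_fix gen_G2 (g := g) ?_
  set β := MulAut.conj g * α with hβ
  intro s hs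
  simp only [Set.mem_insert_iff, Set.mem_singleton_iff] at hs
  rcases hs with rfl | rfl | rfl | rfl
  · exact h1
  · exact h2
  · exact h3
  · have e1 : Z2 * Y2 * Z2⁻¹ = Y2 ^ 2 := Subtype.ext zz_k
    have e2 : Z2 * Z2 = U2 := Subtype.ext zz_sq
    have e3 := congrArg β e1
    rw [map_mul, map_mul, h2, map_inv, map_pow, h2] at e3
    have e4 := congrArg β e2
    rw [map_mul, h3] at e4
    have e5 : (Z2⁻¹ * β Z2) * Y2 = Y2 * (Z2⁻¹ * β Z2) := by
      have h6 : Z2⁻¹ * β Z2 * Y2 * (Z2⁻¹ * β Z2)⁻¹ = Y2 := by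
        calc Z2⁻¹ * β Z2 * Y2 * (Z2⁻¹ * β Z2)⁻¹ = Z2⁻¹ * (β Z2 * Y2 * (β Z2)⁻¹) * Z2 := by group
          _ = Y2 := by rw [e3, ← e1]; group
      exact mul_inv_eq_iff_eq_mul.1 h6
    obtain ⟨i, hi⟩ := cent_co2 (Z2⁻¹ * β Z2).2 (congrArg Subtype.val e5)
    have hi' : Z2⁻¹ * β Z2 = Y2 ^ i := Subtype.ext hi
    have hz : β Z2 = Z2 * Y2 ^ i := by rw [← hi', mul_inv_cancel_left]
    rw [hz] at e4
    have e6 : zz * x11 ^ i * (zz * x11 ^ i) = u5 := congrArg Subtype.val e4
    have e7 : zz * x11 ^ i = x11 ^ (2 * i) * zz := by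
      rw [← mul_inv_eq_iff_eq_mul, ← conj_pow, zz_k, ← pow_mul]
    have e8' : u5 * x11 ^ i = x11 ^ (4 * i) * u5 := by
      rw [← mul_inv_eq_iff_eq_mul, ← conj_pow, u5_x11, ← pow_mul]
    have e9 : x11 ^ (6 * i) * u5 = u5 := by
      calc x11 ^ (6 * i) * u5 = x11 ^ (2 * i) * (x11 ^ (4 * i) * u5) := by rw [← mul_assoc, ← pow_add]; congr 2; ring
        _ = x11 ^ (2 * i) * (zz * zz * x11 ^ i) := by rw [← e8', zz_sq]
        _ = (x11 ^ (2 * i) * zz) * (zz * x11 ^ i) := by group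
        _ = u5 := by rw [← e7, e6]
    have e10 : x11 ^ (6 * i) = x11 ^ 0 := by
      rw [pow_zero]
      exact mul_eq_right.1 e9
    have e11 := x11_pow_inj e10
    have e12 : x11 ^ i = 1 := by
      rw [x11_pow_mod]
      have : i % 11 = 0 := by omega
      rw [this, pow_zero]
    rw [hz]
    apply Subtype.ext
    show zz * x11 ^ i = zz
    rw [e12, mul_one]

/-- all minimal vectors are equivalent -/
theorem isoG2 : Nonempty (stabilizer Co0 w32 ≃* stabilizer Co0 Spor.leechU) := by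
  obtain ⟨g, hg⟩ := trans_32 w32 Spor.leechU norm_w32 norm_leechU
  exact ⟨stabilizerEquivStabilizer hg.symm⟩

end Cfsg.Agent.H90.Co
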