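import Cfsg.Agent.Leech.Bfs

/-!
# Words in explicit elements of `Co0`, evaluated by the orbit engine (owner: helper90)

`wd gs w` is the product of the generators along the word `w`, applied from left to right.
`run qs w c k` applies the word to the vector with code `c` and tests the code of the image with `k`.
`eqW`: two words are equal (checked on 24 vectors); `neW`: a word is not the identity (checked on one vector).
-/

set_option autoImplicit false

namespace Cfsg.Agent.H90.Co

open Cfsg Cfsg.Agent.Leech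
open Cfsg.Agent.Golay (fz fz_eq)

/-! ### Words -/

/-- The product along the word, the first letter acting first. -/
def wd {G : Type*} [Monoid G] (gs : ℕ → G) : List ℕ → G
  | [] => 1
  | i :: w => wd gs w * gs i

theorem wd_nil {G : Type*} [Monoid G] (gs : ℕ → G) : wd gs [] = 1 := rfl
theorem wd_cons {G : Type*} [Monoid G] (gs : ℕ → G) (i : ℕ) (w : List ℕ) : wd gs (i :: w) = wd gs w * gs i := rfl

theorem wd_append {G : Type*} [Monoid G] (gs : ℕ → G) (w w' : List ℕ) : wd gs (w ++ w') = wd gs w' * wd gs w := by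
  induction w with
  | nil => rw [List.nil_append, wd_nil, mul_one]
  | cons i w ih => rw [List.cons_append, wd_cons, ih, wd_cons, mul_assoc]

theorem map_wd {G H : Type*} [Monoid G] [Monoid H] (f : G →* H) (gs : ℕ → G) (w : List ℕ) :
    f (wd gs w) = wd (fun i => f (gs i)) w := by
  induction w with
  | nil => exact map_one f
  | cons i w ih => rw [wd_cons, wd_cons, map_mul, ih]

theorem wd_congr {G : Type*} [Monoid G] {gs gs' : ℕ → G} {w : List ℕ} (h : ∀ i ∈ w, gs i = gs' i) :
    wd gs w = wd gs' w := by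
  induction w with
  | nil => rfl
  | cons i w ih =>
    rw [wd_cons, wd_cons, ih (fun j hj => h j (List.mem_cons_of_mem _ hj)), h i List.mem_cons_self]

theorem wd_mem {G : Type*} [Group G] {S : Subgroup G} {gs : ℕ → G} {w : List ℕ} (h : ∀ i ∈ w, gs i ∈ S) :
    wd gs w ∈ S := by
  induction w with
  | nil => exact S.one_mem
  | cons i w ih =>
    rw [wd_cons]
    exact S.mul_mem (ih (fun j hj => h j (List.mem_cons_of_mem _ hj))) (h i List.mem_cons_self)

/-- substitution of words for the letters -/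
def sub (s : ℕ → List ℕ) : List ℕ → List ℕ
  | [] => []
  | i :: w => s i ++ sub s w

theorem wd_sub {G : Type*} [Monoid G] (gs : ℕ → G) (s : ℕ → List ℕ) (w : List ℕ) :
    wd gs (sub s w) = wd (fun i => wd gs (s i)) w := by
  induction w with
  | nil => rfl
  | cons i w ih =>
    show wd gs (s i ++ sub s w) = _
    rw [wd_append, ih, wd_cons]

theorem wd_replicate {G : Type*} [Monoid G] (gs : ℕ → G) (n i : ℕ) : wd gs (List.replicate n i) = gs i ^ n := by
  induction n with
  | zero => rw [List.replicate_zero, pow_zero]; rfl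
  | succ n ih => rw [List.replicate_succ, wd_cons, ih, pow_succ]

/-! ### The action on codes -/

/-- `q` computes the action of `g`. -/
def Act (g : Co0) (q : List ℕ × ℕ) : Prop :=
  ∀ (x : leechLattice) (c d : ℕ), d < 32 ^ 24 → (x : GolayPt → ℤ) = vecOf c → sqNorm (x : GolayPt → ℤ) ≤ 48 →
    Nat.beq (Nat.land (appL q.1 q.2 c) M128) (Nat.mul 8 d) = true → ((g • x : leechLattice) : GolayPt → ℤ) = vecOf d

theorem act_mat {R C Q : List ℕ} {K : ℕ} (hM : matOK R C = true) (hP : packOK R Q K = true) :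
    Act (matElt R C hM) (Q, K) := fun _ _ _ hd hx hn h => app_spec hM hP hd hx hn h

/-- `32 ^ 24` -/
def B24 : ℕ := 1329227995784915872903807060280344576

theorem B24_eq : B24 = 32 ^ 24 := by norm_num [B24]

/-- apply the word `w` to the code `c` and test the result with `k` -/
def run (qs : List (List ℕ × ℕ)) (w : List ℕ) : ℕ → (ℕ → Bool) → Bool :=
  List.rec (motive := fun _ => ℕ → (ℕ → Bool) → Bool) (fun c k => k c)
    (fun i _ ih c k => fz (Nat.land (appL (qs.getD i ([], 0)).1 (qs.getD i ([], 0)).2 c) M128) fun e =>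
      fz (Nat.shiftRight e 3) fun d => match Nat.beq e (Nat.mul 8 d) && Nat.blt d B24 with
        | true => ih d k
        | false => false) w

theorem run_nil (qs : List (List ℕ × ℕ)) (c : ℕ) (k : ℕ → Bool) : run qs [] c k = k c := rfl

theorem run_cons {qs : List (List ℕ × ℕ)} {i : ℕ} {w : List ℕ} {c : ℕ} {k : ℕ → Bool} (h : run qs (i :: w) c k = true) :
    ∃ d, d < 32 ^ 24 ∧ Nat.beq (Nat.land (appL (qs.getD i ([], 0)).1 (qs.getD i ([], 0)).2 c) M128) (Nat.mul 8 d) = true ∧
      run qs w d k = true := by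
  have h0 : run qs (i :: w) c k = (fz (Nat.land (appL (qs.getD i ([], 0)).1 (qs.getD i ([], 0)).2 c) M128) fun e =>
      fz (Nat.shiftRight e 3) fun d => match Nat.beq e (Nat.mul 8 d) && Nat.blt d B24 with
        | true => run qs w d k
        | false => false) := rfl
  rw [h0, fz_eq, fz_eq] at h
  set e := Nat.land (appL (qs.getD i ([], 0)).1 (qs.getD i ([], 0)).2 c) M128 with he
  cases h2 : (Nat.beq e (Nat.mul 8 (Nat.shiftRight e 3)) && Nat.blt (Nat.shiftRight e 3) B24) with
  | false => rw [h2] at h; exact absurd h (by simp)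
  | true =>
    rw [h2] at h
    rw [Bool.and_eq_true, Nat.blt_eq, B24_eq] at h2
    exact ⟨_, h2.2, h2.1, h⟩

theorem run_spec {qs : List (List ℕ × ℕ)} {gs : ℕ → Co0} {w : List ℕ} (hA : ∀ i ∈ w, Act (gs i) (qs.getD i ([], 0))) :
    ∀ {c : ℕ} {k : ℕ → Bool}, c < 32 ^ 24 → run qs w c k = true → ∃ d, d < 32 ^ 24 ∧ k d = true ∧
      ∀ x : leechLattice, (x : GolayPt → ℤ) = vecOf c → sqNorm (x : GolayPt → ℤ) ≤ 48 →
        ((wd gs w • x : leechLattice) : GolayPt → ℤ) = vecOf d := by
  induction w with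
  | nil =>
    intro c k hc h
    exact ⟨c, hc, h, fun x hx _ => by rw [wd_nil, one_smul, hx]⟩
  | cons i w ih =>
    intro c k hc h
    obtain ⟨d, hd, h1, h2⟩ := run_cons h
    obtain ⟨e, he, hk, h3⟩ := ih (fun j hj => hA j (List.mem_cons_of_mem _ hj)) hd h2
    refine ⟨e, he, hk, fun x hx hn => ?_⟩
    rw [wd_cons, mul_smul]
    apply h3
    · exact hA i List.mem_cons_self x c d hd hx hn h1
    · rw [co0_norm]; exact hn

/-! ### A spanning set -/

/-- codes of `4 e_0 + 4 e_i` (`1 ≤ i < 24`) -/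
def basP (i : ℕ) : ℕ := Nat.add (Nat.mul 16 EE) (Nat.add 4 (Nat.shiftLeft 4 (Nat.mul 5 i)))

/-- code of `4 e_0 - 4 e_1` -/
def basM : ℕ := Nat.sub (Nat.add (Nat.mul 16 EE) 4) 128

theorem basP_lt : ∀ i < 24, basP i < 32 ^ 24 := by decide +kernel
theorem basM_lt : basM < 32 ^ 24 := by decide +kernel

theorem basP_vec : ∀ i < 24, i ≠ 0 → ∀ j < 24, dg (basP i) j = if j = 0 ∨ j = i then 20 else 16 := by decide +kernel
theorem basM_vec : ∀ j < 24, dg basM j = if j = 0 then 20 else if j = 1 then 12 else 16 := by decide +kernel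

theorem basP_test : ∀ i < 24, i ≠ 0 → leechTest (vecOf (basP i)) = true := by decide +kernel
theorem basM_test : leechTest (vecOf basM) = true := by decide +kernel

/-- `4 e_0 + 4 e_i` -/
def vP (i : ℕ) (h : i < 24 ∧ i ≠ 0) : leechLattice := ⟨vecOf (basP i), mem_of_test (basP_test i h.1 h.2)⟩
/-- `4 e_0 - 4 e_1` -/
def vM : leechLattice := ⟨vecOf basM, mem_of_test basM_test⟩

theorem vP_apply (i : ℕ) (h : i < 24 ∧ i ≠ 0) (p : GolayPt) : (vP i h : GolayPt → ℤ) p =
    if Golay.idx p = 0 ∨ Golay.idx p = i then 4 else 0 := by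
  show (dg (basP i) (Golay.idx p) : ℤ) - 16 = _
  rw [basP_vec i h.1 h.2 _ (Golay.idx_lt p)]
  split_ifs <;> norm_num

theorem vM_apply (p : GolayPt) : (vM : GolayPt → ℤ) p =
    if Golay.idx p = 0 then 4 else if Golay.idx p = 1 then -4 else 0 := by
  show (dg basM (Golay.idx p) : ℤ) - 16 = _
  rw [basM_vec _ (Golay.idx_lt p)]
  split_ifs <;> norm_num

theorem norm_vP (i : ℕ) (h : i < 24 ∧ i ≠ 0) : sqNorm (vP i h : GolayPt → ℤ) = 32 := by
  unfold sqNorm
  rw [sum_pts]
  simp only [vP_apply]
  obtain ⟨h1, h2⟩ := h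
  interval_cases i <;> first | (exact absurd rfl h2) | decide +kernel

theorem norm_vM : sqNorm (vM : GolayPt → ℤ) = 32 := by
  unfold sqNorm
  rw [sum_pts]
  simp only [vM_apply]
  decide +kernel

theorem e8_zero : e8 (Golay.pt 0) = vP 1 (by norm_num) + vM := by
  apply Subtype.ext
  funext p
  rw [AddSubgroup.coe_add, Pi.add_apply, e8_apply, vP_apply, vM_apply]
  have h : p = Golay.pt 0 ↔ Golay.idx p = 0 := by
    constructor
    · intro h; rw [h]; exact Golay.idx_pt (by norm_num)
    · intro h; rw [← h]; exact (Golay.pt_idx p).symm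
  simp only [h]
  split_ifs <;> first | rfl | (exfalso; omega) | norm_num

theorem e8_succ (i : ℕ) (h : i < 24 ∧ i ≠ 0) : e8 (Golay.pt i) = vP i h + vP i h - e8 (Golay.pt 0) := by
  apply Subtype.ext
  funext p
  rw [AddSubgroup.coe_sub, AddSubgroup.coe_add, Pi.sub_apply, Pi.add_apply, e8_apply, e8_apply, vP_apply]
  have h0 : p = Golay.pt 0 ↔ Golay.idx p = 0 := by
    constructor
    · intro h; rw [h]; exact Golay.idx_pt (by norm_num)
    · intro h; rw [← h]; exact (Golay.pt_idx p).symm
  have h1 : p = Golay.pt i ↔ Golay.idx p = i := by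
    constructor
    · intro h'; rw [h']; exact Golay.idx_pt h.1
    · intro h; rw [← h]; exact (Golay.pt_idx p).symm
  simp only [h0, h1]
  have := h.2
  split_ifs <;> first | rfl | (exfalso; omega) | norm_num

theorem eq_of_basis {g h : Co0} (hP : ∀ i (hi : i < 24 ∧ i ≠ 0), g • vP i hi = h • vP i hi) (hM : g • vM = h • vM) :
    g = h := by
  have h0 : g • e8 (Golay.pt 0) = h • e8 (Golay.pt 0) := by rw [e8_zero, co0_add, co0_add, hP, hM]
  have h1 : ∀ i < 24, g • e8 (Golay.pt i) = h • e8 (Golay.pt i) := by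
    intro i hi
    by_cases hi0 : i = 0
    · rw [hi0]; exact h0
    · rw [e8_succ i ⟨hi, hi0⟩, co0_sub, co0_sub, co0_add, co0_add, hP, h0]
  have h2 : h⁻¹ * g = 1 := by
    apply eq_one_of_fix_e8
    intro p
    rw [mul_smul, inv_smul_eq_iff]
    have := h1 _ (Golay.idx_lt p)
    rwa [Golay.pt_idx] at this
  exact (inv_mul_eq_one.1 h2).symm

/-- the codes of the spanning vectors -/
def basL : List ℕ := basM :: (List.range 23).map (fun i => basP (i + 1))

/-- the words `w` and `w'` are equal -/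
def eqW (qs : List (List ℕ × ℕ)) (w w' : List ℕ) : Bool :=
  basL.all fun c => run qs w c fun d => run qs w' c fun e => Nat.beq d e

/-- the word `w` moves the vector with code `c` -/
def neW (qs : List (List ℕ × ℕ)) (w : List ℕ) (c : ℕ) : Bool := run qs w c fun d => !(Nat.beq d c)

theorem eq_of_eqW {qs : List (List ℕ × ℕ)} {gs : ℕ → Co0} {w w' : List ℕ}
    (hA : ∀ i ∈ w, Act (gs i) (qs.getD i ([], 0))) (hA' : ∀ i ∈ w', Act (gs i) (qs.getD i ([], 0)))
    (h : eqW qs w w' = true) : wd gs w = wd gs w' := by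
  have key : ∀ c ∈ basL, c < 32 ^ 24 → ∀ x : leechLattice, (x : GolayPt → ℤ) = vecOf c → sqNorm (x : GolayPt → ℤ) = 32 →
      wd gs w • x = wd gs w' • x := by
    intro c hc hc2 x hx hn
    have h1 := List.all_eq_true.1 h c hc
    obtain ⟨d, hd, h2, h3⟩ := run_spec hA hc2 h1
    obtain ⟨e, he, h4, h5⟩ := run_spec hA' hc2 h2
    have h6 : d = e := Nat.eq_of_beq_eq_true h4
    apply Subtype.ext
    rw [h3 x hx (by rw [hn]; norm_num), h5 x hx (by rw [hn]; norm_num), h6]
  apply eq_of_basis
  · intro i hi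
    apply key (basP i) _ (basP_lt i hi.1) _ rfl (norm_vP i hi)
    unfold basL
    rw [List.mem_cons]; right
    rw [List.mem_map]
    exact ⟨i - 1, List.mem_range.2 (by omega), by congr 1; omega⟩
  · exact key basM List.mem_cons_self basM_lt _ rfl norm_vM

theorem ne_of_neW {qs : List (List ℕ × ℕ)} {gs : ℕ → Co0} {w : List ℕ}
    (hA : ∀ i ∈ w, Act (gs i) (qs.getD i ([], 0))) {c : ℕ} (hc : c < 32 ^ 24) (hv : leechTest (vecOf c) = true)
    (hn : sqNorm (vecOf c) ≤ 48) (h : neW qs w c = true) : wd gs w ≠ 1 := by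
  obtain ⟨d, hd, h2, h3⟩ := run_spec hA hc h
  intro h4
  have h5 := h3 ⟨vecOf c, mem_of_test hv⟩ rfl hn
  rw [h4, one_smul] at h5
  have h6 : c = d := vecOf_inj hc hd h5
  rw [← h6, Nat.beq_refl] at h2
  exact absurd h2 (by decide)

/-! ### Matrices of permutations and sign changes -/

def permChk (R : List ℕ) (f : ℕ → ℕ) : Bool :=
  allK (fun i => allK (fun j => Nat.beq (dg (R.getD i 0) j) (if Nat.beq j (f i) then 24 else 16)) 24) 24

theorem matElt_perm {R C : List ℕ} (hM : matOK R C = true) {f : ℕ → ℕ} (hR : permChk R f = true)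
    {σ : Equiv.Perm GolayPt} (hσ : σ ∈ M24) (hf : ∀ i < 24, Golay.idx (σ (Golay.pt i)) = f i) :
    matElt R C hM = permElt σ hσ := by
  apply co0_ext
  intro x
  apply Subtype.ext
  funext p
  have h1 := matElt_apply R C hM x p
  rw [permElt_apply]
  have h2 : act8 R x p = 8 * (x : GolayPt → ℤ) (σ.symm p) := by
    unfold act8
    rw [Finset.sum_eq_single (Golay.idx (σ.symm p))]
    · rw [Golay.pt_idx]
      have h3 := Nat.eq_of_beq_eq_true (allK_iff.1 (allK_iff.1 hR _ (Golay.idx_lt (σ.symm p))) _ (Golay.idx_lt p))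
      have h4 : Nat.beq (Golay.idx p) (f (Golay.idx (σ.symm p))) = true := by
        rw [← hf _ (Golay.idx_lt _), Golay.pt_idx, Equiv.apply_symm_apply]; exact Nat.beq_refl _
      rw [h4, if_pos rfl] at h3
      unfold matA
      rw [h3]; ring
    · intro i hi hne
      have hi' := Finset.mem_range.1 hi
      have h3 := Nat.eq_of_beq_eq_true (allK_iff.1 (allK_iff.1 hR _ hi') _ (Golay.idx_lt p))
      have h4 : Nat.beq (Golay.idx p) (f i) = false := by
        cases h5 : Nat.beq (Golay.idx p) (f i) with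
        | false => rfl
        | true =>
          exfalso
          have h6 := Nat.eq_of_beq_eq_true h5
          rw [← hf i hi', Golay.idx_inj] at h6
          apply hne
          rw [h6, Equiv.symm_apply_apply, Golay.idx_pt hi']
      rw [h4] at h3
      unfold matA
      rw [h3]
      norm_num
    · intro h; exact absurd (Finset.mem_range.2 (Golay.idx_lt _)) h
  omega

end Cfsg.Agent.H90.Co
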