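import Cfsg.Agent.H90.Large

/-!
Pairs `z, s = z^g ∈ Q` for a pre-large extraspecial `Q` of width at least 2: then `z ∈ Q^g`.
-/
set_option autoImplicit false

namespace Cfsg.Agent.H90

open Cfsg
open scoped commutatorElement

theorem PL.conj {G : Type*} [Group G] {Q : Subgroup G} {z : G} (h : PL Q z) (g : G) :
    PL (Q.map (MulAut.conj g).toMonoidHom) (g * z * g⁻¹) where
  toXS := h.toXS.conj g
  cent := by
    intro x hx
    have h1 := h.cent (g⁻¹ * x * g) (fun q hq => by
      have := hx (g * q * g⁻¹) ⟨q, hq, rfl⟩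
      have h2 : g⁻¹ * (x * (g * q * g⁻¹)) * g = g⁻¹ * (g * q * g⁻¹ * x) * g := by rw [this]
      calc g⁻¹ * x * g * q = g⁻¹ * (x * (g * q * g⁻¹)) * g := by group
        _ = g⁻¹ * (g * q * g⁻¹ * x) * g := h2
        _ = q * (g⁻¹ * x * g) := by group)
    rcases h1 with h1 | h1
    · left
      have : g * (g⁻¹ * x * g) * g⁻¹ = g * 1 * g⁻¹ := by rw [h1]
      simpa [mul_assoc] using this
    · right
      rw [← h1]; group
  norm := by
    rintro x hx _ ⟨q, hq, rfl⟩
    have h1 : g⁻¹ * x * g * z = z * (g⁻¹ * x * g) := by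
      have h2 : g⁻¹ * (x * (g * z * g⁻¹)) * g = g⁻¹ * (g * z * g⁻¹ * x) * g := by rw [hx]
      calc g⁻¹ * x * g * z = g⁻¹ * (x * (g * z * g⁻¹)) * g := by group
        _ = g⁻¹ * (g * z * g⁻¹ * x) * g := h2
        _ = z * (g⁻¹ * x * g) := by group
    have h2 := h.norm _ h1 q hq
    refine ⟨_, h2, ?_⟩
    simp only [MulEquiv.toMonoidHom_eq_coe, MonoidHom.coe_coe, MulAut.conj_apply]
    group

theorem card_map_conj {G : Type*} [Group G] (Q : Subgroup G) (g : G) :
    Nat.card ↥(Q.map (MulAut.conj g).toMonoidHom) = Nat.card Q :=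
  (Nat.card_congr (Q.equivMapOfInjective (MulAut.conj g).toMonoidHom (MulAut.conj g).injective).toEquiv).symm

/-- anything conjugating `z` to `g z g⁻¹` conjugates `Q` to `Q^g`. -/
theorem PL.conj_mem {G : Type*} [Group G] {Q : Subgroup G} {z : G} (h : PL Q z) (g x : G)
    (hx : x * z * x⁻¹ = g * z * g⁻¹) {q : G} (hq : q ∈ Q) :
    x * q * x⁻¹ ∈ Q.map (MulAut.conj g).toMonoidHom := by
  have h1 : g⁻¹ * x * z = z * (g⁻¹ * x) := by
    have : g⁻¹ * (x * z * x⁻¹) * x = g⁻¹ * (g * z * g⁻¹) * x := by rw [hx]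
    calc g⁻¹ * x * z = g⁻¹ * (x * z * x⁻¹) * x := by group
      _ = g⁻¹ * (g * z * g⁻¹) * x := this
      _ = z * (g⁻¹ * x) := by group
  refine ⟨_, h.norm _ h1 q hq, ?_⟩
  simp only [MulEquiv.toMonoidHom_eq_coe, MonoidHom.coe_coe, MulAut.conj_apply]
  group

section double

variable {G : Type*} [Group G] {Q : Subgroup G} {z : G}

/-- the four-group `⟨z, s⟩` has order 4 -/
theorem card_sup_zpowers_of_involutions {s : G} (hz : z * z = 1) (hs : s * s = 1) (hz1 : z ≠ 1)
    (hs1 : s ≠ 1) (hsz : s ≠ z) (hc : s * z = z * s) :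
    ∀ x, x ∈ Subgroup.zpowers z ⊔ Subgroup.zpowers s ↔ x = 1 ∨ x = z ∨ x = s ∨ x = z * s := by
  intro x
  constructor
  · intro hx
    rw [Subgroup.zpowers_eq_closure, Subgroup.zpowers_eq_closure, ← Subgroup.closure_union] at hx
    induction hx using Subgroup.closure_induction with
    | mem x hx =>
      rcases hx with hx | hx
      · right; left; exact hx
      · right; right; left; exact hx
    | one => left; rfl
    | mul x y _ _ ihx ihy =>
      have e2 : s * (z * s) = z := by rw [← hc, ← mul_assoc, hs, one_mul]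
      have e3 : z * (z * s) = s := by rw [← mul_assoc, hz, one_mul]
      have e4 : z * s * z = s := by rw [← hc, mul_assoc, hz, mul_one]
      have e5 : z * s * s = z := by rw [mul_assoc, hs, mul_one]
      have e6 : z * s * (z * s) = 1 := by rw [mul_assoc, e2, hz]
      rcases ihx with h1 | h1 | h1 | h1 <;> rcases ihy with h2 | h2 | h2 | h2 <;>
        rw [h1, h2] <;> simp [hz, hs, hc, e2, e3, e4, e5, e6]
    | inv x _ ih =>
      have hzi : z⁻¹ = z := inv_eq_of_mul_eq_one_left hz
      have hsi : s⁻¹ = s := inv_eq_of_mul_eq_one_left hs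
      rcases ih with rfl | rfl | rfl | rfl
      · simp
      · right; left; exact hzi
      · right; right; left; exact hsi
      · right; right; right; rw [mul_inv_rev, hzi, hsi, hc]
  · rintro (rfl | rfl | rfl | rfl)
    · exact Subgroup.one_mem _
    · exact Subgroup.mem_sup_left (Subgroup.mem_zpowers _)
    · exact Subgroup.mem_sup_right (Subgroup.mem_zpowers _)
    · exact Subgroup.mul_mem _ (Subgroup.mem_sup_left (Subgroup.mem_zpowers _))
        (Subgroup.mem_sup_right (Subgroup.mem_zpowers _))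

theorem card_four_group {s : G} (hz : z * z = 1) (hs : s * s = 1) (hz1 : z ≠ 1)
    (hs1 : s ≠ 1) (hsz : s ≠ z) (hc : s * z = z * s) :
    Nat.card ↥(Subgroup.zpowers z ⊔ Subgroup.zpowers s) = 4 := by
  have h1 : ((Subgroup.zpowers z ⊔ Subgroup.zpowers s : Subgroup G) : Set G) =
      {1, z, s, z * s} := by
    ext x
    rw [SetLike.mem_coe, card_sup_zpowers_of_involutions hz hs hz1 hs1 hsz hc x]
    simp
  have h2 : Nat.card ↥(Subgroup.zpowers z ⊔ Subgroup.zpowers s) =
      Set.ncard ((Subgroup.zpowers z ⊔ Subgroup.zpowers s : Subgroup G) : Set G) := rfl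
  have hzs1 : 1 ≠ z * s := by
    intro h
    apply hsz
    have : z * (z * s) = z * 1 := by rw [← h]
    rw [← mul_assoc, hz, one_mul, mul_one] at this
    exact this
  rw [h2, h1, Set.ncard_insert_of_notMem, Set.ncard_insert_of_notMem, Set.ncard_pair]
  · intro h
    apply hz1
    exact (mul_eq_right.mp h.symm)
  · simp only [Set.mem_insert_iff, Set.mem_singleton_iff, not_or]
    refine ⟨fun h => hsz h.symm, fun h => hs1 ?_⟩
    exact (mul_eq_left.mp h.symm)
  · simp only [Set.mem_insert_iff, Set.mem_singleton_iff, not_or]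
    exact ⟨fun h => hz1 h.symm, fun h => hs1 h.symm, hzs1⟩

theorem XS.four_le (h : XS Q z) {s : G} (hs : s ∈ Q) :
    Subgroup.zpowers z ⊔ Subgroup.zpowers s ≤ Q := by
  rw [sup_le_iff, Subgroup.zpowers_le, Subgroup.zpowers_le]
  exact ⟨h.mem, hs⟩

theorem XS.centralizer_four (h : XS Q z) {s : G} :
    Q ⊓ Subgroup.centralizer ((Subgroup.zpowers z ⊔ Subgroup.zpowers s : Subgroup G) : Set G) =
      Q ⊓ Subgroup.centralizer ({s} : Set G) := by
  rw [inf_centralizer_sup]
  congr 1
  rw [inf_eq_left]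
  intro q hq
  rw [Subgroup.mem_centralizer_iff]
  intro t ht
  have : Subgroup.zpowers z ≤ Subgroup.centralizer ({q} : Set G) := by
    rw [Subgroup.zpowers_le, Subgroup.mem_centralizer_singleton_iff]
    exact (h.central q hq).symm
  have := this ht
  rw [Subgroup.mem_centralizer_singleton_iff] at this
  exact this

variable [Finite G]

/-- `|C_Q(s)| = |Q|/2` for an involution `s ∈ Q` other than `z`. -/
theorem XS.card_centralizer (h : XS Q z) {s : G} (hs : s ∈ Q) (hs2 : s * s = 1) (hs1 : s ≠ 1)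
    (hsz : s ≠ z) : 2 * Nat.card ↥(Q ⊓ Subgroup.centralizer ({s} : Set G)) = Nat.card Q := by
  have h1 := h.dual (Subgroup.zpowers z ⊔ Subgroup.zpowers s) (h.four_le hs)
    (Subgroup.mem_sup_left (Subgroup.mem_zpowers z))
  rw [card_four_group h.sq hs2 h.ne_one hs1 hsz (h.central s hs), h.centralizer_four] at h1
  omega

/-- The double centralizer of an involution in an extraspecial group. -/
theorem XS.double (h : XS Q z) {s : G} (hs : s ∈ Q) (hs2 : s * s = 1) (hs1 : s ≠ 1)
    (hsz : s ≠ z) :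
    Q ⊓ Subgroup.centralizer ((Q ⊓ Subgroup.centralizer ({s} : Set G) : Subgroup G) : Set G) =
      Subgroup.zpowers z ⊔ Subgroup.zpowers s := by
  have hcard := h.card_centralizer hs hs2 hs1 hsz
  have hzP : z ∈ Q ⊓ Subgroup.centralizer ({s} : Set G) := by
    refine ⟨h.mem, ?_⟩
    change z ∈ Subgroup.centralizer ({s} : Set G)
    rw [Subgroup.mem_centralizer_singleton_iff]
    exact (h.central s hs).symm
  have h1 := h.dual (Q ⊓ Subgroup.centralizer ({s} : Set G)) inf_le_left hzP
  have hpos : 0 < Nat.card ↥(Q ⊓ Subgroup.centralizer ({s} : Set G)) := Nat.card_pos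
  have h2 : Nat.card ↥(Q ⊓ Subgroup.centralizer
      ((Q ⊓ Subgroup.centralizer ({s} : Set G) : Subgroup G) : Set G)) = 4 := by
    have : Nat.card ↥(Q ⊓ Subgroup.centralizer ({s} : Set G)) * Nat.card ↥(Q ⊓ Subgroup.centralizer
      ((Q ⊓ Subgroup.centralizer ({s} : Set G) : Subgroup G) : Set G)) =
      Nat.card ↥(Q ⊓ Subgroup.centralizer ({s} : Set G)) * 4 := by rw [h1]; omega
    exact Nat.eq_of_mul_eq_mul_left hpos this
  symm
  apply Subgroup.eq_of_le_of_card_ge
  · rw [sup_le_iff, Subgroup.zpowers_le, Subgroup.zpowers_le]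
    refine ⟨⟨h.mem, ?_⟩, ⟨hs, ?_⟩⟩
    · change z ∈ Subgroup.centralizer _
      rw [Subgroup.mem_centralizer_iff]
      intro x hx
      exact h.central x hx.1
    · change s ∈ Subgroup.centralizer _
      rw [Subgroup.mem_centralizer_iff]
      intro x hx
      have := hx.2
      change x ∈ Subgroup.centralizer ({s} : Set G) at this
      rw [Subgroup.mem_centralizer_singleton_iff] at this
      exact this
  · rw [h2, card_four_group h.sq hs2 h.ne_one hs1 hsz (h.central s hs)]

end double

/-- Double centralizer theorem in `Q` for subgroups containing `z`. -/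
theorem XS.double_centralizer {G : Type*} [Group G] [Finite G] {Q : Subgroup G} {z : G}
    (h : XS Q z) (W : Subgroup G) (hW : W ≤ Q) (hz : z ∈ W) :
    Q ⊓ Subgroup.centralizer ((Q ⊓ Subgroup.centralizer (W : Set G) : Subgroup G) : Set G) = W := by
  have h1 := h.dual W hW hz
  have hz2 : z ∈ Q ⊓ Subgroup.centralizer (W : Set G) := by
    refine ⟨h.mem, ?_⟩
    change z ∈ Subgroup.centralizer (W : Set G)
    rw [Subgroup.mem_centralizer_iff]
    intro x hx
    exact h.central x (hW hx)
  have h2 := h.dual (Q ⊓ Subgroup.centralizer (W : Set G)) inf_le_left hz2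
  symm
  apply Subgroup.eq_of_le_of_card_ge
  · intro w hw
    refine ⟨hW hw, ?_⟩
    change w ∈ Subgroup.centralizer _
    rw [Subgroup.mem_centralizer_iff]
    intro x hx
    have := hx.2
    change x ∈ Subgroup.centralizer _ at this
    rw [Subgroup.mem_centralizer_iff] at this
    exact (this w hw).symm
  · have hpos : 0 < Nat.card ↥(Q ⊓ Subgroup.centralizer (W : Set G)) := Nat.card_pos
    rw [← h1, mul_comm] at h2
    exact (Nat.eq_of_mul_eq_mul_right hpos h2).le

section core

variable {G : Type*} [Group G] [Finite G] {Q Q' : Subgroup G} {z s : G}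

/-- **Main lemma**: if `s = z^g ∈ Q`, `s ≠ z` and `|Q| > 8` then `z ∈ Q^g`. Abstract form: `Q'` is the extraspecial
group belonging to `s`, and any element swapping `z` and `s` conjugates `Q` into `Q'`. -/
theorem PL.mem_of_mem (h : PL Q z) (h' : PL Q' s) (hcard : 8 < Nat.card Q)
    (hsQ : s ∈ Q) (hsz : s ≠ z)
    (hswap : ∀ x : G, x * z * x⁻¹ = s → x * s * x⁻¹ = z → z ∈ Q') : z ∈ Q' := by
  by_contra hzQ'
  have hsc : s * z = z * s := h.central s hsQ
  have hz2 := h.sq
  have hs2 := h'.sq
  have hs1 := h'.ne_one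
  obtain ⟨q, hq, hqs⟩ := h.exists_conj hsQ hs1 hsz
  have hqz : q * z = z * q := h.central q hq
  -- Case B
  have hB : ∀ v ∈ Q', v * z ≠ z * s * v := by
    intro v hv hvz
    apply hzQ'
    have hvs : v * s = s * v := h'.central v hv
    have hqs' : q * s = s * z * q := by rw [← hqs]; group
    apply hswap (q * v * q)
    · rw [mul_inv_eq_iff_eq_mul]
      calc q * v * q * z = q * v * (q * z) := by group
        _ = q * (v * z) * q := by rw [hqz]; group
        _ = q * (z * s) * v * q := by rw [hvz]; group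
        _ = (q * z) * s * v * q := by group
        _ = z * (q * s) * v * q := by rw [hqz]; group
        _ = (z * (s * z)) * (q * v * q) := by rw [hqs']; group
        _ = s * (q * v * q) := by
            have : z * (s * z) = s := by rw [hsc, ← mul_assoc, hz2, one_mul]
            rw [this]
    · rw [mul_inv_eq_iff_eq_mul]
      calc q * v * q * s = q * v * (q * s) := by group
        _ = q * (v * s) * z * q := by rw [hqs']; group
        _ = q * s * (v * z) * q := by rw [hvs]; group
        _ = q * (s * (z * s)) * v * q := by rw [hvz]; group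
        _ = q * z * v * q := by
            have : s * (z * s) = z := by rw [← hsc, ← mul_assoc, hs2, one_mul]
            rw [this]
        _ = z * (q * v * q) := by rw [hqz]; group
  -- Step 1
  have hint : ∀ r, r ∈ Q → r ∈ Q' → r = 1 ∨ r = s := by
    intro r hr hr'
    by_contra hcon
    push Not at hcon
    have hrs : r * s = s * r := h'.central r hr'
    have hr0 : r ∉ Subgroup.zpowers z ⊔ Subgroup.zpowers s := by
      rw [card_sup_zpowers_of_involutions hz2 hs2 h.ne_one hs1 hsz hsc]
      rintro (h1 | h1 | h1 | h1)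
      · exact hcon.1 h1
      · exact hzQ' (h1 ▸ hr')
      · exact hcon.2 h1
      · apply hzQ'
        have : z = r * s := by rw [h1, mul_assoc, hs2, mul_one]
        rw [this]; exact Q'.mul_mem hr' h'.mem
    rw [← h.double hsQ hs2 hs1 hsz] at hr0
    have : ∃ x ∈ Q, x * s = s * x ∧ ¬ x * r = r * x := by
      by_contra hc
      push Not at hc
      apply hr0
      refine ⟨hr, ?_⟩
      change r ∈ Subgroup.centralizer _
      rw [Subgroup.mem_centralizer_iff]
      intro x hx
      have hx2 := hx.2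
      change x ∈ Subgroup.centralizer ({s} : Set G) at hx2
      rw [Subgroup.mem_centralizer_singleton_iff] at hx2
      exact hc x hx.1 hx2
    obtain ⟨x, hx, hxs, hxr⟩ := this
    have h1 := (h.comm x hx r hr).resolve_left hxr
    have h2 := h'.norm x hxs r hr'
    have h3 : x * r * x⁻¹ = z * r := by rw [h1]; group
    rw [h3] at h2
    apply hzQ'
    have := Q'.mul_mem h2 (Q'.inv_mem hr')
    simpa using this
  -- Step 2
  have hPY : ∀ x ∈ Q, x * s = s * x → ∀ y ∈ Q', y * z = z * y →
      x * y * x⁻¹ = y ∨ x * y * x⁻¹ = y * s := by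
    intro x hx hxs y hy hyz
    have h1 : x * y * x⁻¹ ∈ Q' := h'.norm x hxs y hy
    have h2 : y * x⁻¹ * y⁻¹ ∈ Q := h.norm y hyz _ (Q.inv_mem hx)
    have h3 := hint (x * y * x⁻¹ * y⁻¹) (by
      have := Q.mul_mem hx h2
      convert this using 1; group) (Q'.mul_mem h1 (Q'.inv_mem hy))
    rcases h3 with h3 | h3
    · left; rw [mul_inv_eq_one] at h3; exact h3
    · right; rw [h'.central y hy, ← h3]; group
  -- Step 3
  set Y : Subgroup G := Q' ⊓ Subgroup.centralizer ({z} : Set G) with hYdef
  have memY : ∀ y, y ∈ Y ↔ y ∈ Q' ∧ y * z = z * y := by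
    intro y
    rw [hYdef, Subgroup.mem_inf, Subgroup.mem_centralizer_singleton_iff]
  have hD : ∀ x ∈ Q, x * s = s * x → ∀ v ∈ Q',
      x * v * x⁻¹ * v⁻¹ ∈ Q' ⊓ Subgroup.centralizer (Y : Set G) := by
    intro x hx hxs v hv
    have ha : x * v * x⁻¹ ∈ Q' := h'.norm x hxs v hv
    refine ⟨Q'.mul_mem ha (Q'.inv_mem hv), ?_⟩
    change _ ∈ Subgroup.centralizer (Y : Set G)
    rw [Subgroup.mem_centralizer_iff]
    intro y hy
    obtain ⟨hyQ, hyz⟩ := (memY y).mp hy
    have hxs' : x⁻¹ * s = s * x⁻¹ := by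
      rw [inv_mul_eq_iff_eq_mul, ← mul_assoc, hxs]; group
    have hys : y * s = s * y := h'.central y hyQ
    have hvs : v * s = s * v := h'.central v hv
    have key : (x * v * x⁻¹) * y * (x * v * x⁻¹)⁻¹ = v * y * v⁻¹ := by
      rcases hPY x hx hxs y hyQ hyz with h1 | h1
      · have h2 : x⁻¹ * y * x = y := by
          calc x⁻¹ * y * x = x⁻¹ * (x * y * x⁻¹) * x := by rw [h1]
            _ = y := by group
        rcases h'.conj_eq hyQ hv with h3 | h3
        · calc (x * v * x⁻¹) * y * (x * v * x⁻¹)⁻¹ = x * (v * (x⁻¹ * y * x) * v⁻¹) * x⁻¹ := by group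
            _ = y := by rw [h2, h3, h1]
            _ = v * y * v⁻¹ := h3.symm
        · calc (x * v * x⁻¹) * y * (x * v * x⁻¹)⁻¹ = x * (v * (x⁻¹ * y * x) * v⁻¹) * x⁻¹ := by group
            _ = x * y * (s * x⁻¹) := by rw [h2, h3]; group
            _ = (x * y * x⁻¹) * s := by rw [← hxs']; group
            _ = v * y * v⁻¹ := by rw [h1, h3]
      · have h2 : x⁻¹ * y * x = y * s := by
          have : x⁻¹ * (x * y * x⁻¹) * x = x⁻¹ * (y * s) * x := by rw [h1]
          have e1 : y = x⁻¹ * y * (s * x) := by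
            calc y = x⁻¹ * (x * y * x⁻¹) * x := by group
              _ = x⁻¹ * (y * s) * x := this
              _ = x⁻¹ * y * (s * x) := by group
          rw [← hxs] at e1
          have e2 : y * s = x⁻¹ * y * (x * s) * s := by rw [← e1]
          rw [e2]
          calc x⁻¹ * y * x = x⁻¹ * y * x * (s * s) := by rw [hs2, mul_one]
            _ = _ := by group
        rcases h'.conj_eq hyQ hv with h3 | h3
        · calc (x * v * x⁻¹) * y * (x * v * x⁻¹)⁻¹ = x * (v * (x⁻¹ * y * x) * v⁻¹) * x⁻¹ := by group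
            _ = x * (v * y * (s * v⁻¹)) * x⁻¹ := by rw [h2]; group
            _ = x * ((v * y * v⁻¹) * s) * x⁻¹ := by rw [← h'.central _ (Q'.inv_mem hv)]; group
            _ = x * y * (s * x⁻¹) := by rw [h3]; group
            _ = (x * y * x⁻¹) * s := by rw [← hxs']; group
            _ = y := by rw [h1, mul_assoc, hs2, mul_one]
            _ = v * y * v⁻¹ := h3.symm
        · calc (x * v * x⁻¹) * y * (x * v * x⁻¹)⁻¹ = x * (v * (x⁻¹ * y * x) * v⁻¹) * x⁻¹ := by group
            _ = x * (v * y * (s * v⁻¹)) * x⁻¹ := by rw [h2]; group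
            _ = x * ((v * y * v⁻¹) * s) * x⁻¹ := by rw [← h'.central _ (Q'.inv_mem hv)]; group
            _ = x * y * x⁻¹ := by rw [h3, mul_assoc y s s, hs2, mul_one]
            _ = v * y * v⁻¹ := by rw [h1, h3]
    have key2 : (x * v * x⁻¹) * y = v * y * v⁻¹ * (x * v * x⁻¹) := by
      rw [← key]; group
    -- w = a v⁻¹
    rcases h'.conj_eq hyQ hv with h3 | h3
    · have h4 : v⁻¹ * y = y * v⁻¹ := by
        calc v⁻¹ * y = v⁻¹ * (v * y * v⁻¹) := by rw [h3]
          _ = y * v⁻¹ := by group
      rw [h3] at key2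
      calc y * (x * v * x⁻¹ * v⁻¹) = (y * (x * v * x⁻¹)) * v⁻¹ := by group
        _ = (x * v * x⁻¹) * (y * v⁻¹) := by rw [← key2]; group
        _ = x * v * x⁻¹ * v⁻¹ * y := by rw [← h4]; group
    · have h4 : v⁻¹ * y = y * s * v⁻¹ := by
        have e1 : v⁻¹ * (v * y * v⁻¹) = v⁻¹ * (y * s) := by rw [h3]
        have e2 : y * v⁻¹ = v⁻¹ * y * s := by
          calc y * v⁻¹ = v⁻¹ * (v * y * v⁻¹) := by group
            _ = v⁻¹ * (y * s) := e1
            _ = v⁻¹ * y * s := by group
        calc v⁻¹ * y = v⁻¹ * y * (s * s) := by rw [hs2, mul_one]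
          _ = (y * v⁻¹) * s := by rw [e2]; group
          _ = y * (v⁻¹ * s) := by group
          _ = y * s * v⁻¹ := by rw [h'.central _ (Q'.inv_mem hv)]; group
      rw [h3] at key2
      calc y * (x * v * x⁻¹ * v⁻¹) = (y * (s * s) * (x * v * x⁻¹)) * v⁻¹ := by rw [hs2]; group
        _ = y * s * (s * (x * v * x⁻¹)) * v⁻¹ := by group
        _ = (y * s * (x * v * x⁻¹)) * s * v⁻¹ := by rw [← h'.central _ ha]; group
        _ = (x * v * x⁻¹) * (y * s * v⁻¹) := by rw [← key2]; group
        _ = x * v * x⁻¹ * v⁻¹ * y := by rw [← h4]; group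
  -- Step 4
  have hzn : ∀ v ∈ Q', z * v * z⁻¹ ∈ Q' := fun v hv => h'.norm z hsc.symm v hv
  have hzi : z⁻¹ = z := h.inv_z
  set W : Subgroup G := Subgroup.closure ({w | ∃ v ∈ Q', w = v * z * v⁻¹ * z⁻¹} ∪ {s}) with hWdef
  have hWY : W ≤ Y := by
    rw [hWdef, Subgroup.closure_le]
    rintro w (⟨v, hv, rfl⟩ | hw)
    · change _ ∈ Y
      have hwQ : v * z * v⁻¹ * z⁻¹ ∈ Q' := by
        have := Q'.mul_mem hv (hzn _ (Q'.inv_mem hv))
        convert this using 1; group
      rw [memY]
      refine ⟨hwQ, ?_⟩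
      set w := v * z * v⁻¹ * z⁻¹ with hw
      have e1 : z * w * z⁻¹ = w⁻¹ := by
        rw [hw, hzi]
        calc z * (v * z * v⁻¹ * z) * z = z * v * z * v⁻¹ * (z * z) := by group
          _ = z * v * z⁻¹ * v⁻¹ := by rw [hz2, hzi]; group
          _ = (v * z * v⁻¹ * z)⁻¹ := by rw [mul_inv_rev, mul_inv_rev, mul_inv_rev, hzi]; group
      rcases h'.sqr hwQ with h1 | h1
      · have h2 : w⁻¹ = w := inv_eq_of_mul_eq_one_left h1
        rw [h2, mul_inv_eq_iff_eq_mul] at e1
        exact e1.symm
      · exfalso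
        have h2 : w⁻¹ = w * s := by
          rw [inv_eq_iff_mul_eq_one, ← mul_assoc, h1, hs2]
        rw [h2, mul_inv_eq_iff_eq_mul] at e1
        apply hB w hwQ
        have : w * s = s * w := h'.central w hwQ
        calc w * z = w * (s * s) * z := by rw [hs2, mul_one]
          _ = (s * w) * (s * z) := by rw [← this]; group
          _ = s * (w * s * z) := by group
          _ = s * (z * w) := by rw [← e1]
          _ = z * s * w := by rw [← mul_assoc, hsc]
    · rw [Set.mem_singleton_iff] at hw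
      rw [hw]
      change s ∈ Y
      rw [memY]
      exact ⟨h'.mem, hsc⟩
  have hWQ' : W ≤ Q' := hWY.trans inf_le_left
  have hsW : s ∈ W := Subgroup.subset_closure (Or.inr rfl)
  have hCW : Q' ⊓ Subgroup.centralizer (W : Set G) ≤ Y := by
    rintro u ⟨hu, hu'⟩
    rw [memY]
    refine ⟨hu, ?_⟩
    change u ∈ Subgroup.centralizer (W : Set G) at hu'
    rw [Subgroup.mem_centralizer_iff] at hu'
    -- u⁻¹ * (z u z⁻¹) is central in Q'
    have hu1 : z * u * z⁻¹ ∈ Q' := hzn u hu
    have hcen : ∀ v ∈ Q', (z * u * z⁻¹ * u⁻¹) * v = v * (z * u * z⁻¹ * u⁻¹) := by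
      intro v hv
      -- apply commutation with w = v₁ z v₁⁻¹ z⁻¹ for v₁ = z v z⁻¹
      have hv1 : z * v * z⁻¹ ∈ Q' := hzn v hv
      have h1 := hu' (v * z * v⁻¹ * z⁻¹) (Subgroup.subset_closure (Or.inl ⟨v, hv, rfl⟩))
      have hu2 := hu1
      have hzu : ∀ t, z * (z * t) = t := fun t => by rw [← mul_assoc, hz2, one_mul]
      rcases h'.conj_eq hv hu with h2 | h2
      · -- u commutes with v
        have h3 : u * v = v * u := mul_inv_eq_iff_eq_mul.mp h2
        -- so u commutes with z v z⁻¹
        have h4 : u * (z * v * z⁻¹) = z * v * z⁻¹ * u := by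
          have e1 : z * v * z⁻¹ = (v * z * v⁻¹ * z⁻¹)⁻¹ * v := by group
          have h5 : (v * z * v⁻¹ * z⁻¹)⁻¹ * u = u * (v * z * v⁻¹ * z⁻¹)⁻¹ := by
            rw [inv_mul_eq_iff_eq_mul, ← mul_assoc, h1]; group
          rw [e1, ← mul_assoc, ← h5, mul_assoc, h3]; group
        have h6 : (z * u * z⁻¹) * v = v * (z * u * z⁻¹) := by
          have h7 : z * (u * (z * v * z⁻¹)) * z = z * (z * v * z⁻¹ * u) * z := by rw [h4]
          rw [hzi] at h7 ⊢
          calc z * u * z * v = z * (u * (z * v * z)) * z := by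
                rw [show z * (u * (z * v * z)) * z = z * u * z * v * (z * z) by group, hz2, mul_one]
            _ = z * (z * v * z * u) * z := h7
            _ = v * (z * u * z) := by
                rw [show z * (z * v * z * u) * z = (z * z) * (v * (z * u * z)) by group, hz2, one_mul]
        calc z * u * z⁻¹ * u⁻¹ * v = z * u * z⁻¹ * (u⁻¹ * v * u) * u⁻¹ := by group
          _ = z * u * z⁻¹ * v * u⁻¹ := by rw [mul_assoc u⁻¹, ← h3]; group
          _ = v * (z * u * z⁻¹ * u⁻¹) := by rw [h6]; group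
      · -- u v = v s u
        have h3 : u * v = v * s * u := by rw [← h2]; group
        have h4 : u * (z * v * z⁻¹) = z * v * z⁻¹ * s * u := by
          have e1 : z * v * z⁻¹ = (v * z * v⁻¹ * z⁻¹)⁻¹ * v := by group
          have h5 : (v * z * v⁻¹ * z⁻¹)⁻¹ * u = u * (v * z * v⁻¹ * z⁻¹)⁻¹ := by
            rw [inv_mul_eq_iff_eq_mul, ← mul_assoc, h1]; group
          rw [e1, ← mul_assoc, ← h5, mul_assoc, h3]; group
        have h6 : (z * u * z⁻¹) * v = v * s * (z * u * z⁻¹) := by
          have h7 : z * (u * (z * v * z⁻¹)) * z = z * (z * v * z⁻¹ * s * u) * z := by rw [h4]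
          rw [hzi] at h7 ⊢
          calc z * u * z * v = z * (u * (z * v * z)) * z := by
                rw [show z * (u * (z * v * z)) * z = z * u * z * v * (z * z) by group, hz2, mul_one]
            _ = z * (z * v * z * s * u) * z := h7
            _ = v * (z * s) * u * z := by
                rw [show z * (z * v * z * s * u) * z = (z * z) * (v * (z * s) * u * z) by group,
                  hz2, one_mul]
            _ = v * s * (z * u * z) := by rw [← hsc]; group
        have h8 : u⁻¹ * v = v * s * u⁻¹ := by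
          have e : v * s = u * v * u⁻¹ := by rw [h3]; group
          have e2 : v = u * (v * s) * u⁻¹ := by
            calc v = (v * s) * s := by rw [mul_assoc, hs2, mul_one]
              _ = u * v * (u⁻¹ * s) := by rw [e]; group
              _ = u * (v * s) * u⁻¹ := by rw [h'.central _ (Q'.inv_mem hu)]; group
          calc u⁻¹ * v = u⁻¹ * (u * (v * s) * u⁻¹) := by rw [← e2]
            _ = v * s * u⁻¹ := by group
        calc z * u * z⁻¹ * u⁻¹ * v = z * u * z⁻¹ * (u⁻¹ * v) := by group
          _ = (z * u * z⁻¹ * v) * s * u⁻¹ := by rw [h8]; group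
          _ = v * s * ((z * u * z⁻¹) * s) * u⁻¹ := by rw [h6]; group
          _ = v * (s * s) * (z * u * z⁻¹) * u⁻¹ := by rw [h'.central _ hu1]; group
          _ = v * (z * u * z⁻¹ * u⁻¹) := by rw [hs2]; group
    rcases h'.nondeg _ (Q'.mul_mem hu1 (Q'.inv_mem hu)) hcen with h2 | h2
    · rw [mul_inv_eq_one, mul_inv_eq_iff_eq_mul] at h2
      exact h2.symm
    · exfalso
      apply hB u hu
      have h3 : z * u = s * u * z := by
        rw [← h2]; group
      calc u * z = (s * s) * (u * z) := by rw [hs2, one_mul]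
        _ = s * (s * u * z) := by group
        _ = s * (z * u) := by rw [h3]
        _ = z * s * u := by rw [← mul_assoc, hsc]
  have hDW : Q' ⊓ Subgroup.centralizer (Y : Set G) ≤ W := by
    rw [← h'.double_centralizer W hWQ' hsW]
    exact inf_le_inf_left _ (Subgroup.centralizer_le hCW)
  -- Step 6
  have hnc : ∃ x ∈ Q, ∃ x' ∈ Q, x * s = s * x ∧ x' * s = s * x' ∧ x * x' ≠ x' * x := by
    by_contra hc
    push Not at hc
    have h1 : Q ⊓ Subgroup.centralizer ({s} : Set G) ≤
        Q ⊓ Subgroup.centralizer ((Q ⊓ Subgroup.centralizer ({s} : Set G) : Subgroup G) : Set G) := by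
      rintro x ⟨hx, hx'⟩
      change x ∈ Subgroup.centralizer ({s} : Set G) at hx'
      rw [Subgroup.mem_centralizer_singleton_iff] at hx'
      refine ⟨hx, ?_⟩
      change x ∈ Subgroup.centralizer _
      rw [Subgroup.mem_centralizer_iff]
      rintro y ⟨hy, hy'⟩
      change y ∈ Subgroup.centralizer ({s} : Set G) at hy'
      rw [Subgroup.mem_centralizer_singleton_iff] at hy'
      exact hc y hy x hx hy' hx'
    rw [h.double hsQ hs2 hs1 hsz] at h1
    have h2 := Subgroup.card_le_of_le h1
    rw [card_four_group hz2 hs2 h.ne_one hs1 hsz hsc] at h2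
    have h3 := h.card_centralizer hsQ hs2 hs1 hsz
    omega
  obtain ⟨x, hx, x', hx', hxs, hxs', hxx⟩ := hnc
  have hxz := (h.comm x hx x' hx').resolve_left hxx
  -- Step 5
  have hfin : ∀ v ∈ Q', z * v = v * z := by
    intro v hv
    have hxx's : (x' * x)⁻¹ * s = s * (x' * x)⁻¹ := by
      rw [inv_mul_eq_iff_eq_mul, ← mul_assoc, mul_assoc x' x s, hxs, ← mul_assoc, hxs']
      group
    have hv2 := h'.norm _ hxx's v hv
    set v2 := (x' * x)⁻¹ * v * (x' * x)⁻¹⁻¹ with hv2def
    have hw := hDW (hD x hx hxs v2 hv2)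
    have hw' := hDW (hD x' hx' hxs' v2 hv2)
    have hwD := (hD x hx hxs v2 hv2).2
    change _ ∈ Subgroup.centralizer (Y : Set G) at hwD
    rw [Subgroup.mem_centralizer_iff] at hwD
    have hcomm := hwD _ (hWY hw')
    have hwY := (memY _).mp (hWY hw)
    have hwY' := (memY _).mp (hWY hw')
    have e1 := hPY x' hx' hxs' _ hwY.1 hwY.2
    have e2 := hPY x hx hxs _ hwY'.1 hwY'.2
    set w := x * v2 * x⁻¹ * v2⁻¹ with hwdef
    set w' := x' * v2 * x'⁻¹ * v2⁻¹ with hwdef'
    have f1 : v = x' * w * x'⁻¹ * w' * v2 := by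
      rw [hwdef, hwdef', hv2def]; group
    have f2 : z * v * z⁻¹ = x * w' * x⁻¹ * w * v2 := by
      have e3 : z * (x' * x) = x * x' := hxz.symm
      calc z * v * z⁻¹ = (z * (x' * x)) * v2 * (z * (x' * x))⁻¹ := by rw [hv2def]; group
        _ = x * x' * v2 * (x * x')⁻¹ := by rw [e3]
        _ = _ := by rw [hwdef, hwdef']; group
    have hsw : s * w = w * s := (h'.central w hwY.1).symm
    have hsw' : s * w' = w' * s := (h'.central w' hwY'.1).symm
    have hsv2 : s * v2 = v2 * s := (h'.central v2 hv2).symm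
    have hres : z * v * z⁻¹ = v ∨ z * v * z⁻¹ = v * s := by
      rcases e1 with e1 | e1 <;> rcases e2 with e2 | e2
      · left
        rw [f2, f1, e1, e2, hcomm]
      · right
        rw [f2, f1, e1, e2]
        calc w' * s * w * v2 = (w' * w) * (s * v2) := by rw [mul_assoc w' s w, hsw]; group
          _ = w * w' * v2 * s := by rw [hcomm, hsv2]; group
      · right
        rw [f2, f1, e1, e2]
        calc w' * w * v2 = w * w' * v2 * (s * s) := by rw [hcomm, hs2, mul_one]
          _ = w * w' * (s * v2) * s := by rw [hsv2]; group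
          _ = w * (s * w') * v2 * s := by rw [hsw']; group
          _ = w * s * w' * v2 * s := by group
      · left
        rw [f2, f1, e1, e2]
        calc w' * s * w * v2 = (w' * w) * (s * v2) := by rw [mul_assoc w' s w, hsw]; group
          _ = w * (w' * s) * v2 := by rw [hcomm]; group
          _ = w * s * w' * v2 := by rw [← hsw']; group
    rcases hres with h1 | h1
    · rw [mul_inv_eq_iff_eq_mul] at h1; exact h1
    · exfalso
      apply hB v hv
      rw [mul_inv_eq_iff_eq_mul] at h1
      have hvs : v * s = s * v := h'.central v hv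
      calc v * z = (s * s) * (v * z) := by rw [hs2, one_mul]
        _ = s * (s * v * z) := by group
        _ = s * (z * v) := by rw [← hvs, ← h1]
        _ = z * s * v := by rw [← mul_assoc, hsc]
  rcases h'.cent z hfin with h1 | h1
  · exact h.ne_one h1
  · exact hsz h1.symm

end core

end Cfsg.Agent.H90
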