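import Cfsg.Agent.H90.M24Fix

/-!
# Subgroups of small index in the large Mathieu groups (owner: helper90)
-/

set_option autoImplicit false

namespace Cfsg.Agent.H90

open Cfsg Cfsg.Agent.Golay

/-- A Sylow count when the Sylow subgroup has prime order and is its own centralizer. -/
theorem sylow_count {G : Type*} [Group G] [Finite G] {p : ℕ} [Fact p.Prime] (P : Sylow p G)
    (hP : Nat.card P = p) (hC : Nat.card (Subgroup.centralizer ((P : Subgroup G) : Set G)) = p) :
    ∃ m, m ∣ p - 1 ∧ Nat.card (Sylow p G) * (p * m) = Nat.card G ∧ Nat.card (Sylow p G) ≡ 1 [MOD p] := by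
  have hcyc : IsCyclic P := isCyclic_of_prime_card hP
  have key := Subgroup.card_dvd_of_injective _ (QuotientGroup.kerLift_injective P.normalizerMonoidHom)
  rw [hcyc.card_mulAut, hP, Nat.totient_prime (Fact.out : p.Prime)] at key
  refine ⟨_, key, ?_, card_sylow_modEq_one p G⟩
  have h1 := (P.normalizerMonoidHom.ker).card_mul_index
  have h2 : Nat.card P.normalizerMonoidHom.ker = Nat.card (Subgroup.centralizer ((P : Subgroup G) : Set G)) := by
    rw [Subgroup.normalizerMonoidHom_ker]
    apply Nat.card_congr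
    exact (Subgroup.subgroupOfEquivOfLe (Subgroup.centralizer_le_normalizer _)).toEquiv
  rw [h2, hC] at h1
  have h3 : Nat.card (Subgroup.normalizer ((P : Subgroup G) : Set G)) * Nat.card (Sylow p G) = Nat.card G := by
    rw [P.card_eq_index_normalizer]
    exact (Subgroup.normalizer ((P : Subgroup G) : Set G)).card_mul_index
  rw [← h3, ← h1, mul_comm]
  rfl

theorem card_eq_prime_of_unique {n p N : ℕ} (hn : n ∣ N) (hp : p.Prime) (hpn : p ∣ n) (hN : ¬ p ^ 2 ∣ N)
    (h0 : n ≠ 0) (h : ∀ q, q.Prime → q ∣ n → q = p) : n = p := by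
  have h1 := Nat.eq_prime_pow_of_unique_prime_dvd h0 (fun {d} hd hdn => h d hd hdn)
  rw [h1] at hn hpn ⊢
  have h2 : n.primeFactorsList.length ≤ 1 := by
    by_contra hlt
    apply hN
    exact (pow_dvd_pow p (by omega)).trans hn
  have h3 : n.primeFactorsList.length ≠ 0 := by
    intro h3
    rw [h3, pow_zero] at hpn
    exact hp.one_lt.ne' (Nat.dvd_one.1 hpn)
  have h4 : n.primeFactorsList.length = 1 := by omega
  rw [h4, pow_one]

theorem no_18480 (K : Subgroup (Equiv.Perm GolayPt)) (hK : K ≤ M24) {q r : GolayPt} (hqr : q ≠ r)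
    (hq : ∀ g ∈ K, g q = q) (hr : ∀ g ∈ K, g r = r) (hc : Nat.card K = 18480) : False := by
  have : Fact (Nat.Prime 11) := ⟨by norm_num⟩
  obtain ⟨P⟩ : Nonempty (Sylow 11 K) := inferInstance
  have hP : Nat.card P = 11 := by
    have h1 := P.card_eq_multiplicity
    rw [hc] at h1
    rw [h1]
    have : (18480 : ℕ).factorization 11 = 1 := by
      rw [Nat.factorization_def _ (by norm_num)]
      have h2 : (18480 : ℕ) = 11 ^ 1 * 1680 := by norm_num
      rw [h2, padicValNat.mul (by norm_num) (by norm_num), padicValNat.prime_pow,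
        padicValNat.eq_zero_of_not_dvd (by norm_num)]
    rw [this]; norm_num
  obtain ⟨x, hx⟩ := exists_prime_orderOf_dvd_card' (G := P) 11 (by rw [hP])
  have hxo : orderOf (x.1.1 : Equiv.Perm GolayPt) = 11 :=
    ((Subgroup.orderOf_coe x.1).trans (Subgroup.orderOf_coe x)).trans hx
  have hx11 : (x.1.1 : Equiv.Perm GolayPt) ^ 11 = 1 := orderOf_dvd_iff_pow_eq_one.1 (dvd_of_eq hxo)
  have hfx := fix_order11 (hK x.1.2) hxo
  have hfx2 : fixS x.1.1 = {q, r} := by
    symm
    apply Finset.eq_of_subset_of_card_le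
    · intro a ha
      rw [Finset.mem_insert, Finset.mem_singleton] at ha
      rw [mem_fixS]
      rcases ha with rfl | rfl
      · exact hq _ x.1.2
      · exact hr _ x.1.2
    · rw [hfx, Finset.card_pair hqr]
  have hC : Nat.card (Subgroup.centralizer ((P : Subgroup K) : Set K)) = 11 := by
    apply card_eq_prime_of_unique (N := 18480) (p := 11)
    · rw [← hc]; exact Subgroup.card_subgroup_dvd_card _
    · norm_num
    · have : (P : Subgroup K) ≤ Subgroup.centralizer ((P : Subgroup K) : Set K) := by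
        have hcyc : IsCyclic P := isCyclic_of_prime_card hP
        have hcomm : ∀ a b : P, a * b = b * a := by
          intro a b
          obtain ⟨g, hg⟩ := hcyc.exists_generator
          obtain ⟨m, rfl⟩ := hg a
          obtain ⟨n, rfl⟩ := hg b
          exact (Commute.zpow_zpow_self g m n)
        intro a ha
        rw [Subgroup.mem_centralizer_iff]
        intro b hb
        exact congrArg Subtype.val (hcomm ⟨b, hb⟩ ⟨a, ha⟩)
      have h1 := Subgroup.card_dvd_of_le this
      exact (dvd_of_eq hP.symm).trans h1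
    · norm_num
    · exact Nat.card_pos.ne'
    · intro ℓ hℓ hd
      by_contra hne
      have : Fact ℓ.Prime := ⟨hℓ⟩
      obtain ⟨i, hi⟩ := exists_prime_orderOf_dvd_card' ℓ hd
      have hio : orderOf (i.1.1 : Equiv.Perm GolayPt) = ℓ := by
        rw [← hi, Subgroup.orderOf_coe, Subgroup.orderOf_coe]
      have hcomm : i.1.1 * x.1.1 = x.1.1 * i.1.1 :=
        (congrArg Subtype.val ((Subgroup.mem_centralizer_iff.1 i.2) x.1 x.2)).symm
      -- x acts on the fixed points of i
      have h1 := fix_in_mod (x := x.1.1) (p := 11) (by norm_num) hx11 (fixS i.1.1) (by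
          intro a ha
          rw [mem_fixS] at ha ⊢
          have h2 := congrArg (fun f : Equiv.Perm GolayPt => f a) hcomm
          have h3 : i.1.1 (x.1.1 a) = x.1.1 (i.1.1 a) := h2
          rw [h3, ha])
      have h2 : fixS i.1.1 ∩ fixS x.1.1 = {q, r} := by
        rw [hfx2]
        apply Finset.inter_eq_right.2
        intro a ha
        rw [Finset.mem_insert, Finset.mem_singleton] at ha
        rw [mem_fixS]
        rcases ha with rfl | rfl
        · exact hq _ i.1.2
        · exact hr _ i.1.2
      rw [h2, Finset.card_pair hqr] at h1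
      have h24 := card_le24 (fixS i.1.1)
      have h3 : (fixS i.1.1).card = 2 ∨ (fixS i.1.1).card = 13 ∨ (fixS i.1.1).card = 24 := by
        unfold Nat.ModEq at h1; omega
      have hne1 : i.1.1 ≠ 1 := by
        intro h
        rw [h, orderOf_one] at hio
        exact hℓ.one_lt.ne hio
      have h24' : (fixS i.1.1).card ≠ 24 := by
        intro h
        apply hne1
        have h4 : fixS i.1.1 = Finset.univ := by
          apply Finset.eq_univ_of_card
          rw [h, card_golayPt]
        ext1 a
        have h5 : a ∈ fixS i.1.1 := by rw [h4]; exact Finset.mem_univ _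
        exact mem_fixS.1 h5
      have hdvd : ℓ ∣ 18480 := by
        rw [← hc]; exact hd.trans (Subgroup.card_subgroup_dvd_card _)
      have hcases : ℓ = 2 ∨ ℓ = 3 ∨ ℓ = 5 ∨ ℓ = 7 := by
        have h5 : (18480 : ℕ) = 2 ^ 4 * 3 * 5 * 7 * 11 := by norm_num
        rw [h5] at hdvd
        have h6 : ∀ p : ℕ, p.Prime → ℓ ∣ p → ℓ = p := fun p hp h => (Nat.prime_dvd_prime_iff_eq hℓ hp).1 h
        rcases hℓ.dvd_mul.1 hdvd with h | h
        · rcases hℓ.dvd_mul.1 h with h | h
          · rcases hℓ.dvd_mul.1 h with h | h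
            · rcases hℓ.dvd_mul.1 h with h | h
              · exact Or.inl (h6 2 (by norm_num) (hℓ.dvd_of_dvd_pow h))
              · exact Or.inr (Or.inl (h6 3 (by norm_num) h))
            · exact Or.inr (Or.inr (Or.inl (h6 5 (by norm_num) h)))
          · exact Or.inr (Or.inr (Or.inr (h6 7 (by norm_num) h)))
        · exact absurd (h6 11 (by norm_num) h) hne
      rcases hcases with rfl | rfl | rfl | rfl
      · have h5 := inv_fix_card (hK i.1.2) (by rw [← pow_two, ← hio]; exact pow_orderOf_eq_one _) hne1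
        omega
      · have h5 := fix_order3_mod hio
        omega
      · have h5 := fix_order5 (hK i.1.2) hio
        omega
      · have h5 := fix_order7 (hK i.1.2) hio
        omega
  obtain ⟨m, hm, h1, h2⟩ := sylow_count P hP hC
  rw [hc] at h1
  have hm' : m = 1 ∨ m = 2 ∨ m = 5 ∨ m = 10 := by
    have : m ≤ 10 := Nat.le_of_dvd (by norm_num) hm
    interval_cases m <;> omega
  unfold Nat.ModEq at h2
  rcases hm' with rfl | rfl | rfl | rfl <;> omega

/-- Subgroups of index 24 of `M24` fix a point. -/
theorem fix_of_index24 (K : Subgroup (Equiv.Perm GolayPt)) (hK : K ≤ M24) (hc : Nat.card K = 10200960) :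
    ∃ q, ∀ g ∈ K, g q = q := by
  obtain ⟨x, hxK, hx⟩ := exists_order (K := K) (p := 23) (by norm_num) (by rw [hc]; norm_num)
  have hfx := fix_order23 (hK hxK) hx
  obtain ⟨q, hq⟩ := Finset.card_eq_one.1 hfx
  refine ⟨q, ?_⟩
  have h1 := fix_in_mod (x := x) (p := 23) (by norm_num) (by rw [← hx]; exact pow_orderOf_eq_one _) (orbF K q)
    (orbF_inv hxK)
  have h2 : orbF K q ∩ fixS x = {q} := by
    rw [hq]; exact Finset.inter_eq_right.2 (Finset.singleton_subset_iff.2 (self_mem_orbF K q))
  rw [h2, Finset.card_singleton] at h1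
  have h24 := card_le24 (orbF K q)
  have h3 : (orbF K q).card = 1 ∨ (orbF K q).card = 24 := by unfold Nat.ModEq at h1; omega
  rcases h3 with h3 | h3
  · intro g hg
    have h4 : orbF K q = {q} := by
      rw [Finset.card_eq_one] at h3
      obtain ⟨a, ha⟩ := h3
      have := self_mem_orbF K q
      rw [ha, Finset.mem_singleton] at this
      rw [ha, this]
    have h5 := orbF_inv hg q (self_mem_orbF K q)
    rw [h4, Finset.mem_singleton] at h5
    exact h5
  · exfalso
    have hc1 := card_orbF_mul K q
    rw [h3, hc] at hc1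
    set K1 := K ⊓ MulAction.stabilizer (Equiv.Perm GolayPt) q with hK1
    have hc1' : Nat.card K1 = 425040 := by omega
    have hq1 : ∀ g ∈ K1, g q = q := fun g hg => hg.2
    obtain ⟨y, hyK, hy⟩ := exists_order (K := K1) (p := 23) (by norm_num) (by rw [hc1']; norm_num)
    have hfy := fix_order23 (hK hyK.1) hy
    obtain ⟨r, hr⟩ : ∃ r, r ≠ q := by
      by_cases h : q = none
      · exact ⟨some 0, by rw [h]; decide⟩
      · exact ⟨none, fun h' => h h'.symm⟩
    have hyq : fixS y = {q} := by
      obtain ⟨a, ha⟩ := Finset.card_eq_one.1 hfy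
      have h5 : q ∈ fixS y := mem_fixS.2 (hq1 y hyK)
      rw [ha, Finset.mem_singleton] at h5
      rw [ha, h5]
    have hqr : q ∉ orbF K1 r := by
      intro h
      obtain ⟨g, hg, hgr⟩ := mem_orbF.1 h
      have h5 := hq1 g hg
      exact hr (g.injective (hgr.trans h5.symm))
    have h4 := fix_in_mod (x := y) (p := 23) (by norm_num) (by rw [← hy]; exact pow_orderOf_eq_one _)
      (orbF K1 r) (orbF_inv hyK)
    have h5 : orbF K1 r ∩ fixS y = ∅ := by
      rw [hyq]
      exact Finset.disjoint_iff_inter_eq_empty.1 (Finset.disjoint_singleton_right.2 hqr)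
    rw [h5, Finset.card_empty] at h4
    have h6 : 1 ≤ (orbF K1 r).card := Finset.card_pos.2 ⟨r, self_mem_orbF K1 r⟩
    have h7 := card_le24 (orbF K1 r)
    have h8 : (orbF K1 r).card = 23 := by unfold Nat.ModEq at h4; omega
    have hc2 := card_orbF_mul K1 r
    rw [h8, hc1'] at hc2
    set K2 := K1 ⊓ MulAction.stabilizer (Equiv.Perm GolayPt) r with hK2
    have hc2' : Nat.card K2 = 18480 := by omega
    exact no_18480 K2 (fun g hg => hK hg.1.1) (Ne.symm hr) (fun g hg => hq1 g hg.1) (fun g hg => hg.2) hc2'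

theorem fixed_of_orb_one {K : Subgroup (Equiv.Perm GolayPt)} {q : GolayPt} (h3 : (orbF K q).card = 1) :
    ∀ g ∈ K, g q = q := by
  intro g hg
  have h4 : orbF K q = {q} := by
    rw [Finset.card_eq_one] at h3
    obtain ⟨a, ha⟩ := h3
    have := self_mem_orbF K q
    rw [ha, Finset.mem_singleton] at this
    rw [ha, this]
  have h5 := orbF_inv hg q (self_mem_orbF K q)
  rw [h4, Finset.mem_singleton] at h5
  exact h5

theorem not_mem_orb {K : Subgroup (Equiv.Perm GolayPt)} {q r : GolayPt} (hq : ∀ g ∈ K, g q = q) (hr : r ≠ q) :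
    q ∉ orbF K r := by
  intro h
  obtain ⟨g, hg, hgr⟩ := mem_orbF.1 h
  exact hr (g.injective (hgr.trans (hq g hg).symm))

/-- Subgroups of index 23 of `M23` fix a second point. -/
theorem fix_of_index23 (K : Subgroup (Equiv.Perm GolayPt)) (hK : K ≤ M24) {a : GolayPt}
    (ha : ∀ g ∈ K, g a = a) (hc : Nat.card K = 443520) : ∃ q, q ≠ a ∧ ∀ g ∈ K, g q = q := by
  obtain ⟨x, hxK, hx⟩ := exists_order (K := K) (p := 11) (by norm_num) (by rw [hc]; norm_num)
  obtain ⟨y, hyK, hy⟩ := exists_order (K := K) (p := 7) (by norm_num) (by rw [hc]; norm_num)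
  have hfx := fix_order11 (hK hxK) hx
  have hfy := fix_order7 (hK hyK) hy
  have hax : a ∈ fixS x := mem_fixS.2 (ha x hxK)
  obtain ⟨q, hq, hqa⟩ : ∃ q ∈ fixS x, q ≠ a := by
    have h1 : 1 < (fixS x).card := by omega
    obtain ⟨q, hq, h⟩ := Finset.exists_mem_ne h1 a
    exact ⟨q, hq, h⟩
  have hfx2 : fixS x = {a, q} := by
    symm
    apply Finset.eq_of_subset_of_card_le
    · intro b hb
      rw [Finset.mem_insert, Finset.mem_singleton] at hb
      rcases hb with rfl | rfl
      · exact hax
      · exact hq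
    · rw [hfx, Finset.card_pair (Ne.symm hqa)]
  refine ⟨q, hqa, ?_⟩
  have haq := not_mem_orb ha hqa
  have h1 := fix_in_mod (x := x) (p := 11) (by norm_num) (by rw [← hx]; exact pow_orderOf_eq_one _) (orbF K q)
    (orbF_inv hxK)
  have h2 : orbF K q ∩ fixS x = {q} := by
    rw [hfx2]
    ext b
    rw [Finset.mem_inter, Finset.mem_insert, Finset.mem_singleton]
    constructor
    · rintro ⟨h3, h4 | h4⟩
      · exact absurd (h4 ▸ h3) haq
      · exact h4
    · rintro rfl; exact ⟨self_mem_orbF K b, Or.inr rfl⟩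
  rw [h2, Finset.card_singleton] at h1
  have h24 := card_le24 (orbF K q)
  have hdvd := card_orbF_dvd K q
  rw [hc] at hdvd
  have h3 : (orbF K q).card = 1 ∨ (orbF K q).card = 12 := by
    unfold Nat.ModEq at h1
    have h4 : (orbF K q).card = 1 ∨ (orbF K q).card = 12 ∨ (orbF K q).card = 23 := by omega
    rcases h4 with h4 | h4 | h4
    · exact Or.inl h4
    · exact Or.inr h4
    · rw [h4] at hdvd; norm_num at hdvd
  rcases h3 with h3 | h3
  · exact fixed_of_orb_one h3
  · exfalso
    have h4 := fix_in_mod (x := y) (p := 7) (by norm_num) (by rw [← hy]; exact pow_orderOf_eq_one _)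
      (orbF K q) (orbF_inv hyK)
    have h5 : (orbF K q ∩ fixS y).card ≤ 3 := by
      rw [← hfy]; exact Finset.card_le_card Finset.inter_subset_right
    rw [h3] at h4
    unfold Nat.ModEq at h4; omega

/-- Subgroups of index 22 of `M22` fix a third point. -/
theorem fix_of_index22 (K : Subgroup (Equiv.Perm GolayPt)) (hK : K ≤ M24) {a b : GolayPt} (hab : a ≠ b)
    (ha : ∀ g ∈ K, g a = a) (hb : ∀ g ∈ K, g b = b) (hc : Nat.card K = 20160) :
    ∃ q, q ≠ a ∧ q ≠ b ∧ ∀ g ∈ K, g q = q := by
  obtain ⟨x, hxK, hx⟩ := exists_order (K := K) (p := 5) (by norm_num) (by rw [hc]; norm_num)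
  obtain ⟨y, hyK, hy⟩ := exists_order (K := K) (p := 7) (by norm_num) (by rw [hc]; norm_num)
  have hfx := fix_order5 (hK hxK) hx
  have hfy := fix_order7 (hK hyK) hy
  have hax : a ∈ fixS x := mem_fixS.2 (ha x hxK)
  have hbx : b ∈ fixS x := mem_fixS.2 (hb x hxK)
  have hay : a ∈ fixS y := mem_fixS.2 (ha y hyK)
  have hby : b ∈ fixS y := mem_fixS.2 (hb y hyK)
  obtain ⟨q, hq, hqa, hqb⟩ : ∃ q ∈ fixS y, q ≠ a ∧ q ≠ b := by
    have h1 : ((fixS y).erase a).card = 2 := by rw [Finset.card_erase_of_mem hay, hfy]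
    obtain ⟨q, hq, h⟩ := Finset.exists_mem_ne (by omega : 1 < ((fixS y).erase a).card) b
    exact ⟨q, Finset.mem_of_mem_erase hq, Finset.ne_of_mem_erase hq, h⟩
  have hfy2 : fixS y = {a, b, q} := by
    symm
    apply Finset.eq_of_subset_of_card_le
    · intro c hc
      rw [Finset.mem_insert, Finset.mem_insert, Finset.mem_singleton] at hc
      rcases hc with rfl | rfl | rfl
      · exact hay
      · exact hby
      · exact hq
    · rw [hfy, Finset.card_eq_three.2 ⟨a, b, q, hab, Ne.symm hqa, Ne.symm hqb, rfl⟩]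
  refine ⟨q, hqa, hqb, ?_⟩
  have haq := not_mem_orb ha hqa
  have hbq := not_mem_orb hb hqb
  have h1 := fix_in_mod (x := y) (p := 7) (by norm_num) (by rw [← hy]; exact pow_orderOf_eq_one _) (orbF K q)
    (orbF_inv hyK)
  have h2 : orbF K q ∩ fixS y = {q} := by
    rw [hfy2]
    ext c
    rw [Finset.mem_inter, Finset.mem_insert, Finset.mem_insert, Finset.mem_singleton]
    constructor
    · rintro ⟨h3, h4 | h4 | h4⟩
      · exact absurd (h4 ▸ h3) haq
      · exact absurd (h4 ▸ h3) hbq
      · exact h4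
    · rintro rfl; exact ⟨self_mem_orbF K c, Or.inr (Or.inr rfl)⟩
  rw [h2, Finset.card_singleton] at h1
  have h22 : (orbF K q).card ≤ 22 := by
    have h3 : orbF K q ⊆ (Finset.univ.erase a).erase b := by
      intro c hc
      rw [Finset.mem_erase, Finset.mem_erase]
      exact ⟨fun h => hbq (h ▸ hc), fun h => haq (h ▸ hc), Finset.mem_univ _⟩
    have h4 := Finset.card_le_card h3
    rwa [Finset.card_erase_of_mem (Finset.mem_erase.2 ⟨Ne.symm hab, Finset.mem_univ _⟩),
      Finset.card_erase_of_mem (Finset.mem_univ _), Finset.card_univ, card_golayPt] at h4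
  have hdvd := card_orbF_dvd K q
  rw [hc] at hdvd
  have h3 : (orbF K q).card = 1 ∨ (orbF K q).card = 8 ∨ (orbF K q).card = 15 := by
    unfold Nat.ModEq at h1
    have h4 : (orbF K q).card = 1 ∨ (orbF K q).card = 8 ∨ (orbF K q).card = 15 ∨ (orbF K q).card = 22 := by omega
    rcases h4 with h4 | h4 | h4 | h4
    · exact Or.inl h4
    · exact Or.inr (Or.inl h4)
    · exact Or.inr (Or.inr h4)
    · rw [h4] at hdvd; norm_num at hdvd
  rcases h3 with h3 | h3 | h3
  · exact fixed_of_orb_one h3
  · exfalso
    have h4 := fix_in_mod (x := x) (p := 5) (by norm_num) (by rw [← hx]; exact pow_orderOf_eq_one _)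
      (orbF K q) (orbF_inv hxK)
    have h5 : (orbF K q ∩ fixS x).card ≤ 2 := by
      have h6 : orbF K q ∩ fixS x ⊆ ((fixS x).erase a).erase b := by
        intro c hc
        rw [Finset.mem_inter] at hc
        rw [Finset.mem_erase, Finset.mem_erase]
        exact ⟨fun h => hbq (h ▸ hc.1), fun h => haq (h ▸ hc.1), hc.2⟩
      have h7 := Finset.card_le_card h6
      rwa [Finset.card_erase_of_mem (Finset.mem_erase.2 ⟨Ne.symm hab, hbx⟩),
        Finset.card_erase_of_mem hax, hfx] at h7
    rw [h3] at h4
    unfold Nat.ModEq at h4; omega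
  · exfalso
    -- the remaining seven points
    let O : Finset GolayPt := ((Finset.univ \ orbF K q).erase a).erase b
    have hO : ∀ c, c ∈ O ↔ c ≠ b ∧ c ≠ a ∧ c ∉ orbF K q := by
      intro c
      simp only [O, Finset.mem_erase, Finset.mem_sdiff, Finset.mem_univ, true_and]
    have hOc : O.card = 7 := by
      have h4 : (Finset.univ \ orbF K q).card = 9 := by
        rw [Finset.card_sdiff_of_subset (Finset.subset_univ _), Finset.card_univ, card_golayPt, h3]
      show (((Finset.univ \ orbF K q).erase a).erase b).card = 7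
      rw [Finset.card_erase_of_mem, Finset.card_erase_of_mem, h4]
      · rw [Finset.mem_sdiff]; exact ⟨Finset.mem_univ _, haq⟩
      · rw [Finset.mem_erase, Finset.mem_sdiff]; exact ⟨Ne.symm hab, Finset.mem_univ _, hbq⟩
    have hOinv : ∀ g ∈ K, ∀ c ∈ O, g c ∈ O := by
      intro g hg c hc
      rw [hO] at hc ⊢
      refine ⟨fun h => hc.1 (g.injective (h.trans (hb g hg).symm)),
        fun h => hc.2.1 (g.injective (h.trans (ha g hg).symm)), fun h => hc.2.2 ?_⟩
      have h4 := orbF_inv (K.inv_mem hg) _ h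
      rwa [show g⁻¹ (g c) = c from g.symm_apply_apply c] at h4
    -- action on O
    let φ : K →* Equiv.Perm O :=
      { toFun := fun g =>
          { toFun := fun c => ⟨g.1 c.1, hOinv _ g.2 _ c.2⟩
            invFun := fun c => ⟨g.1⁻¹ c.1, hOinv _ (K.inv_mem g.2) _ c.2⟩
            left_inv := fun c => Subtype.ext (g.1.symm_apply_apply c.1)
            right_inv := fun c => Subtype.ext (g.1.apply_symm_apply c.1) }
        map_one' := by ext1 c; rfl
        map_mul' := by intro g h; ext1 c; rfl }
    have h4 := φ.ker.card_mul_index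
    have h5 : φ.ker.index ≤ 5040 := by
      rw [Subgroup.index_ker]
      have h6 := Nat.card_le_card_of_injective _ (Subtype.val_injective : Function.Injective (fun a : φ.range => (a : Equiv.Perm O)))
      have h7 : Nat.card (Equiv.Perm O) = 5040 := by
        rw [Nat.card_eq_fintype_card, Fintype.card_perm, Fintype.card_coe, hOc]; rfl
      rw [h7] at h6; exact h6
    rw [hc] at h4
    have h6 : 4 ≤ Nat.card φ.ker := by
      by_contra h7
      have : Nat.card φ.ker ≤ 3 := by omega
      have := Nat.mul_le_mul this h5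
      omega
    let N : Subgroup (Equiv.Perm GolayPt) := φ.ker.map K.subtype
    have hN : ∀ n ∈ N, n ∈ K ∧ ∀ c ∈ O, n c = c := by
      rintro _ ⟨g, hg, rfl⟩
      refine ⟨g.2, fun c hc => ?_⟩
      have h7 := congrArg (fun f : Equiv.Perm O => (f ⟨c, hc⟩ : GolayPt)) (MonoidHom.mem_ker.1 hg)
      exact h7
    have hNc : Nat.card N = Nat.card φ.ker :=
      (Nat.card_congr (φ.ker.equivMapOfInjective K.subtype K.subtype_injective).toEquiv).symm
    have h7 : Nat.card N ∣ 48 := card_dvd_of_fix_five N (fun n hn => hK (hN n hn).1) O (by rw [hOc]; norm_num)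
      (fun n hn => (hN n hn).2)
    rw [← hNc] at h6
    have h8 : 2 ∣ Nat.card N := by
      have h9 : Nat.card N ≤ 48 := Nat.le_of_dvd (by norm_num) h7
      interval_cases Nat.card N <;> omega
    obtain ⟨i, hiN, hi⟩ := exists_order (K := N) Nat.prime_two h8
    have hi1 : i ≠ 1 := by intro h; rw [h, orderOf_one] at hi; omega
    have h9 := inv_fix_card (hK (hN i hiN).1) (by rw [← pow_two, ← hi]; exact pow_orderOf_eq_one _) hi1
    have h10 : insert a (insert b O) ⊆ fixS i := by
      intro c hc
      rw [Finset.mem_insert, Finset.mem_insert] at hc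
      rw [mem_fixS]
      rcases hc with rfl | rfl | hc
      · exact ha i (hN i hiN).1
      · exact hb i (hN i hiN).1
      · exact (hN i hiN).2 c hc
    have h11 := Finset.card_le_card h10
    rw [Finset.card_insert_of_notMem, Finset.card_insert_of_notMem, hOc] at h11
    · omega
    · rw [hO]; exact fun h => h.1 rfl
    · rw [Finset.mem_insert, not_or]
      exact ⟨hab, fun h => ((hO a).1 h).2.1 rfl⟩

end Cfsg.Agent.H90
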