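import Cfsg.Agent.H90.OutM12

/-!
# The outer automorphism group of `M11` (owner: helper90)
-/

set_option autoImplicit false

namespace Cfsg.Agent.H90

open Cfsg Cfsg.Agent.Golay
open scoped Pointwise

/-! ### Automorphisms of `M11` -/

theorem card_Mst_two {d : Finset GolayPt} (hd : d ∈ dodecads) {s p : GolayPt} (hs : s ∈ d) (hp : p ∈ d) (hps : p ≠ s) :
    Nat.card (Mst1 d s ⊓ MulAction.stabilizer (Equiv.Perm GolayPt) p : Subgroup _) = 720 := by
  apply card_stab_general (K := Mst1 d s) (n := 11) (m := 720) (by rw [card_Mst1 hd hs]) (by norm_num)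
  have h1 : orbF (Mst1 d s) p = d.erase s := by
    ext q
    rw [mem_orbF, Finset.mem_erase]
    constructor
    · rintro ⟨g, hg, rfl⟩
      exact ⟨fun h => hps (g.injective (h.trans hg.2.symm)), (Mst_mem hg.1 p).2 hp⟩
    · rintro ⟨hqs, hq⟩
      have hd' := compl_dodecad hd
      obtain ⟨r, hr, -⟩ := exists_mem_ne3 (s := dᶜ) (by rw [card_compl_dod hd]; norm_num) s s s
      have hn : ∀ a ∈ d, a ∉ dᶜ := fun a ha => by rw [Finset.mem_compl, not_not]; exact ha
      obtain ⟨g, hg, -, h1, h2⟩ := Mst_map2 hd' hr (hn s hs) (hn p hp) (hn s hs) (hn q hq) (Ne.symm hps) (Ne.symm hqs)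
      rw [Mst_compl] at hg
      exact ⟨g, ⟨hg, h1⟩, h2⟩
  rw [h1, Finset.card_erase_of_mem hs, card_dodecad hd]

/-- Subgroups of index 11 of `M11` fix a second point. -/
theorem fix_of_720 {d : Finset GolayPt} (hd : d ∈ dodecads) (K : Subgroup (Equiv.Perm GolayPt)) (hK : K ≤ Mst d)
    {s : GolayPt} (hs : s ∈ d) (hsK : ∀ g ∈ K, g s = s) (hc : Nat.card K = 720) :
    ∃ r ∈ d, r ≠ s ∧ ∀ g ∈ K, g r = r := by
  obtain ⟨x, hxK, hx⟩ := exists_order (K := K) (p := 5) (by norm_num) (by rw [hc]; norm_num)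
  have hx1 : x ≠ 1 := by intro h; rw [h, orderOf_one] at hx; omega
  have h1 := dod_fix_mod hd (hK hxK) (by norm_num) hx
  have h2 : ¬ 5 ≤ (d ∩ fixS x).card := fun h => hx1 (Mst_unique hd (hK hxK) h)
  have h3 : (d ∩ fixS x).card = 2 := by unfold Nat.ModEq at h1; omega
  have hsx : s ∈ d ∩ fixS x := Finset.mem_inter.2 ⟨hs, mem_fixS.2 (hsK x hxK)⟩
  obtain ⟨r, hr, hrs⟩ := Finset.exists_mem_ne (by omega : 1 < (d ∩ fixS x).card) s
  have hfx : d ∩ fixS x = {s, r} := by
    symm
    apply Finset.eq_of_subset_of_card_le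
    · intro a ha
      rw [Finset.mem_insert, Finset.mem_singleton] at ha
      rcases ha with rfl | rfl
      · exact hsx
      · exact hr
    · rw [h3, Finset.card_pair (Ne.symm hrs)]
  rw [Finset.mem_inter] at hr
  refine ⟨r, hr.1, hrs, ?_⟩
  have hod : orbF K r ⊆ d.erase s := by
    intro b hb
    obtain ⟨g, hg, rfl⟩ := mem_orbF.1 hb
    rw [Finset.mem_erase]
    exact ⟨fun h => hrs (g.injective (h.trans (hsK g hg).symm)), (Mst_mem (hK hg) r).2 hr.1⟩
  have h4 := fix_in_mod (x := x) (p := 5) (by norm_num) (by rw [← hx]; exact pow_orderOf_eq_one _) (orbF K r)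
    (orbF_inv hxK)
  have h5 : orbF K r ∩ fixS x = {r} := by
    ext b
    rw [Finset.mem_inter, Finset.mem_singleton]
    constructor
    · rintro ⟨h6, h7⟩
      have h8 := Finset.mem_erase.1 (hod h6)
      have h9 : b ∈ d ∩ fixS x := Finset.mem_inter.2 ⟨h8.2, h7⟩
      rw [hfx, Finset.mem_insert, Finset.mem_singleton] at h9
      rcases h9 with h9 | h9
      · exact absurd h9 h8.1
      · exact h9
    · rintro rfl; exact ⟨self_mem_orbF K b, hr.2⟩
  rw [h5, Finset.card_singleton] at h4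
  have h6 := Finset.card_le_card hod
  rw [Finset.card_erase_of_mem hs, card_dodecad hd] at h6
  have h7 := card_orbF_dvd K r
  rw [hc] at h7
  have h8 : (orbF K r).card = 1 ∨ (orbF K r).card = 6 := by
    unfold Nat.ModEq at h4
    have h9 : (orbF K r).card = 1 ∨ (orbF K r).card = 6 ∨ (orbF K r).card = 11 := by omega
    rcases h9 with h9 | h9 | h9
    · exact Or.inl h9
    · exact Or.inr h9
    · rw [h9] at h7; norm_num at h7
  rcases h8 with h8 | h8
  · exact fixed_of_orb_one h8
  · exfalso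
    -- the remaining five points
    have hF5 : ((d.erase s) \ orbF K r).card = 5 := by
      rw [Finset.card_sdiff_of_subset hod, Finset.card_erase_of_mem hs, card_dodecad hd, h8]
    -- elements of order 3 have no fixed points in the orbit
    have key : ∀ z ∈ K, orderOf z = 3 → ∀ c ∈ orbF K r, z c ≠ c := by
      intro z hzK hz c hc hzc
      have h9 := dod_fix3 hd (hK hzK) hz hs (hsK z hzK)
      have h10 := fix_in_mod (x := z) (p := 3) (by norm_num) (by rw [← hz]; exact pow_orderOf_eq_one _)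
        ((d.erase s) \ orbF K r) (by
          intro b hb
          rw [Finset.mem_sdiff, Finset.mem_erase] at hb ⊢
          refine ⟨⟨fun h => hb.1.1 (z.injective (h.trans (hsK z hzK).symm)), (Mst_mem (hK hzK) b).2 hb.1.2⟩,
            fun h => hb.2 ?_⟩
          have h11 := orbF_inv (K.inv_mem hzK) _ h
          rwa [show z⁻¹ (z b) = b from z.symm_apply_apply b] at h11)
      rw [hF5] at h10
      have h11 : insert s (insert c (((d.erase s) \ orbF K r) ∩ fixS z)) ⊆ d ∩ fixS z := by
        intro b hb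
        rw [Finset.mem_insert, Finset.mem_insert] at hb
        rw [Finset.mem_inter]
        rcases hb with rfl | rfl | hb
        · exact ⟨hs, mem_fixS.2 (hsK z hzK)⟩
        · exact ⟨(Finset.mem_erase.1 (hod hc)).2, mem_fixS.2 hzc⟩
        · rw [Finset.mem_inter, Finset.mem_sdiff, Finset.mem_erase] at hb
          exact ⟨hb.1.1.2, hb.2⟩
      have h12 := Finset.card_le_card h11
      rw [h9, Finset.card_insert_of_notMem, Finset.card_insert_of_notMem] at h12
      · unfold Nat.ModEq at h10; omega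
      · rw [Finset.mem_inter, Finset.mem_sdiff]; exact fun h => h.1.2 hc
      · rw [Finset.mem_insert, not_or]
        refine ⟨fun h => (Finset.mem_erase.1 (hod hc)).1 h.symm, fun h => ?_⟩
        rw [Finset.mem_inter, Finset.mem_sdiff, Finset.mem_erase] at h
        exact h.1.1.1 rfl
    -- a subgroup of order 9
    have : Fact (Nat.Prime 3) := ⟨by norm_num⟩
    obtain ⟨T, hT⟩ := Sylow.exists_subgroup_card_pow_prime (G := K) 3 (n := 2) (by rw [hc]; norm_num)
    let T' : Subgroup (Equiv.Perm GolayPt) := T.map K.subtype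
    have hT' : Nat.card T' = 9 := by
      rw [Nat.card_congr (T.equivMapOfInjective K.subtype K.subtype_injective).toEquiv.symm, hT]; norm_num
    have hTK : T' ≤ K := by
      rintro _ ⟨t, _, rfl⟩; exact t.2
    have h9 := card_orbF_mul T' r
    have h10 : (orbF T' r).card ≤ 6 := by
      rw [← h8]
      apply Finset.card_le_card
      intro b hb
      obtain ⟨g, hg, rfl⟩ := mem_orbF.1 hb
      exact mem_orbF.2 ⟨g, hTK hg, rfl⟩
    have h11 : Nat.card (T' ⊓ MulAction.stabilizer (Equiv.Perm GolayPt) r : Subgroup _) ∣ 9 := by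
      rw [← hT', ← h9]; exact Dvd.intro_left _ rfl
    have h12 : 3 ∣ Nat.card (T' ⊓ MulAction.stabilizer (Equiv.Perm GolayPt) r : Subgroup _) := by
      have h13 : Nat.card (T' ⊓ MulAction.stabilizer (Equiv.Perm GolayPt) r : Subgroup _) ≠ 1 := by
        intro h; rw [h, hT', mul_one] at h9; omega
      have h14 : (9 : ℕ) = 3 ^ 2 := by norm_num
      rw [h14] at h11
      obtain ⟨k, hk, hk2⟩ := (Nat.dvd_prime_pow (by norm_num : Nat.Prime 3)).1 h11
      rw [hk2]
      rw [hk2] at h13
      have : k ≠ 0 := by rintro rfl; exact h13 rfl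
      exact dvd_pow_self 3 this
    obtain ⟨z, hzT, hz⟩ := exists_order (by norm_num : Nat.Prime 3) h12
    exact key z (hTK hzT.1) hz r (self_mem_orbF K r) hzT.2

theorem final_2060 : Nat.card (Out Spor.M11) = 1 := by
  apply out_card_one
  intro α
  have hd := squareDodecad_mem
  set d := Spor.squareDodecad with hdd
  have hs : (some 0 : GolayPt) ∈ d := zero_mem_square
  have c1 : ∀ p ∈ d, p ≠ some 0 → Nat.card (ptStab (Mst1 d (some 0)) p) = 720 := by
    intro p hp hps
    rw [card_ptStab]; exact card_Mst_two hd hs hp hps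
  have c2 : ∀ p, p ∉ d → Nat.card (ptStab (Mst1 d (some 0)) p) = 660 := by
    intro p hp
    rw [card_ptStab]; exact card_Mst2 hd hs hp
  -- separation
  have sep : ∀ p ∉ ({some 0} : Set GolayPt), ∀ q ∉ ({some 0} : Set GolayPt),
      (∀ g : Mst1 d (some 0), g.1 p = p ↔ g.1 q = q) → p = q := by
    intro p hp q hq h
    have hp0 : p ≠ some 0 := hp
    have hq0 : q ≠ some 0 := hq
    have heq : ptStab (Mst1 d (some 0)) p = ptStab (Mst1 d (some 0)) q := by
      ext g; exact h g
    by_cases hpd : p ∈ d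
    · by_cases hqd : q ∈ d
      · by_contra hne
        have hd' := compl_dodecad hd
        obtain ⟨r, hr, -⟩ := exists_mem_ne3 (s := dᶜ) (by rw [card_compl_dod hd]; norm_num) p p p
        obtain ⟨q', hq'd, hq'1, hq'2, hq'3⟩ := exists_mem_ne3 (s := d) (by rw [card_dodecad hd]; norm_num) q p (some 0)
        have hn : ∀ a ∈ d, a ∉ dᶜ := fun a ha => by rw [Finset.mem_compl, not_not]; exact ha
        obtain ⟨g, hg, -, h1, h2, h3⟩ := Mst_map3 hd' hr (hn _ hs) (hn p hpd) (hn q hqd) (hn _ hs) (hn p hpd)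
          (hn q' hq'd) (Ne.symm hp0) (Ne.symm hq0) hne (Ne.symm hp0) (Ne.symm hq'3) (Ne.symm hq'2)
        rw [Mst_compl] at hg
        have h4 := (h ⟨g, hg, h1⟩).1 h2
        exact hq'1 (h3.symm.trans h4)
      · exfalso
        have h1 := c1 p hpd hp0
        rw [heq, c2 q hqd] at h1
        omega
    · by_cases hqd : q ∈ d
      · exfalso
        have h1 := c1 q hqd hq0
        rw [← heq, c2 p hpd] at h1
        omega
      · by_contra hne
        obtain ⟨g, hg, h0, h1, h2⟩ := sep_same hd hpd hqd (Ne.symm hne) hs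
        exact h2 ((h ⟨g, hg, h0⟩).1 h1)
  have key : ∀ p ∉ ({some 0} : Set GolayPt), ∃ q ∉ ({some 0} : Set GolayPt), (p ∈ d ↔ q ∈ d) ∧
      ∀ g : Mst1 d (some 0), ((α : MulAut (Mst1 d (some 0))) g).1 q = q ↔ g.1 p = p := by
    intro p hp
    have hp0 : p ≠ some 0 := hp
    let α' : MulAut (Mst1 d (some 0)) := α
    have hcm : Nat.card ((ptStab (Mst1 d (some 0)) p).map α'.toMonoidHom) = Nat.card (ptStab (Mst1 d (some 0)) p) :=
      Nat.card_congr ((ptStab (Mst1 d (some 0)) p).equivMapOfInjective α'.toMonoidHom α'.injective).toEquiv.symm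
    have fin : ∀ q, q ≠ some 0 → (p ∈ d ↔ q ∈ d) → (∀ g ∈ ((ptStab (Mst1 d (some 0)) p).map α'.toMonoidHom).map
        (Mst1 d (some 0)).subtype, g q = q) → Nat.card (ptStab (Mst1 d (some 0)) q) =
          Nat.card (ptStab (Mst1 d (some 0)) p) →
        ∃ q ∉ ({some 0} : Set GolayPt), (p ∈ d ↔ q ∈ d) ∧
          ∀ g : Mst1 d (some 0), ((α : MulAut (Mst1 d (some 0))) g).1 q = q ↔ g.1 p = p := by
      intro q hq0 hpq hq hcq
      refine ⟨q, hq0, hpq, ?_⟩
      have heq : (ptStab (Mst1 d (some 0)) p).map α'.toMonoidHom = ptStab (Mst1 d (some 0)) q :=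
        Subgroup.eq_of_le_of_card_ge (le_ptStab_of hq) (by rw [hcm, hcq])
      intro g
      show ((α' g : Mst1 d (some 0)) : Equiv.Perm GolayPt) q = q ↔ _
      rw [← mem_ptStab, ← heq]
      constructor
      · rintro ⟨a, ha, hag⟩
        have : a = g := α'.injective hag
        rw [← this]; exact ha
      · intro h; exact ⟨g, h, rfl⟩
    by_cases hpd : p ∈ d
    · obtain ⟨r, hrd, hr0, hr⟩ := fix_of_720 hd (((ptStab (Mst1 d (some 0)) p).map α'.toMonoidHom).map
        (Mst1 d (some 0)).subtype) (fun g hg => (map_sub_le _ hg).1) hs (fun g hg => (map_sub_le _ hg).2)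
        (by rw [card_map_sub, hcm, c1 p hpd hp0])
      exact fin r hr0 ⟨fun _ => hrd, fun _ => hpd⟩ hr (by rw [c1 r hrd hr0, c1 p hpd hp0])
    · obtain ⟨r, hrd, hr⟩ := fix_of_660 hd (((ptStab (Mst1 d (some 0)) p).map α'.toMonoidHom).map
        (Mst1 d (some 0)).subtype) (fun g hg => (map_sub_le _ hg).1) hs (fun g hg => (map_sub_le _ hg).2)
        (by rw [card_map_sub, hcm, c2 p hpd])
      exact fin r (fun h => hrd (h ▸ hs)) ⟨fun h => absurd h hpd, fun h => absurd h hrd⟩ hr (by rw [c2 r hrd, c2 p hpd])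
  obtain ⟨π, hπ0, hπR, hπ⟩ := perm_of_key (Mst1 d (some 0)) {some 0}
    (by rintro g hg p rfl; exact hg.2) α (fun p q => p ∈ d ↔ q ∈ d) key sep
  have hπs : π (some 0) = some 0 := hπ0 _ rfl
  have hπd : π • d = d := by
    apply smul_eq_of_mem_iff
    intro p
    by_cases hp : p = some 0
    · rw [hp, hπs]
    · exact hπR p hp
  apply mem_inn_of_perm (π := π) _ hπ
  refine ⟨⟨?_, hπd⟩, hπs⟩
  apply mem_M24_of_octads4
  intro s hs' hs0 h4
  apply octad_of_conj4 hd hs' h4
  intro σ hσ hσfix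
  have h1 := hπ ⟨σ, hσ, hσfix _ hs0⟩
  have h2 : ((⟨σ, hσ, hσfix _ hs0⟩ : Mst1 d (some 0)) : Equiv.Perm GolayPt) = σ := rfl
  rw [h2] at h1
  rw [← h1]
  exact (α _).2.1.1

end Cfsg.Agent.H90
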