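import Cfsg.Agent.H90.OutMathieu
import Cfsg.Agent.H90.AutPerm2
import Cfsg.Agent.Golay.M12
import Cfsg.Agent.Golay.OrbThree

/-!
# Outer automorphism groups of `M12` and `M11` (owner: helper90)
-/

set_option autoImplicit false

namespace Cfsg.Agent.H90

open Cfsg Cfsg.Agent.Golay
open scoped Pointwise

/-- The stabilizer of a set in `M24`. -/
def Mst (d : Finset GolayPt) : Subgroup (Equiv.Perm GolayPt) :=
  M24 ⊓ MulAction.stabilizer (Equiv.Perm GolayPt) d

theorem mem_Mst {d : Finset GolayPt} {g : Equiv.Perm GolayPt} : g ∈ Mst d ↔ g ∈ M24 ∧ g • d = d := Iff.rfl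

theorem Mst_mem {d : Finset GolayPt} {g : Equiv.Perm GolayPt} (hg : g ∈ Mst d) (a : GolayPt) : g a ∈ d ↔ a ∈ d := by
  have h : g • d = d := (mem_Mst.1 hg).2
  conv_lhs => rw [← h]
  exact Finset.smul_mem_smul_finset_iff g

theorem Mst_compl (d : Finset GolayPt) : Mst dᶜ = Mst d := by
  ext g
  rw [mem_Mst, mem_Mst]
  have h : g • dᶜ = (g • d)ᶜ := by
    ext p
    rw [mem_smul_iff, Finset.mem_compl, Finset.mem_compl, mem_smul_iff]
  rw [h, compl_inj_iff]

theorem card_Mst {d : Finset GolayPt} (hd : d ∈ dodecads) : Nat.card (Mst d) = 95040 := by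
  rw [← card_stabilizer_dodecad hd]
  apply Nat.card_congr
  exact ⟨fun g => ⟨⟨g.1, g.2.1⟩, g.2.2⟩, fun g => ⟨g.1.1, g.1.2, g.2⟩, fun _ => rfl, fun _ => rfl⟩

theorem exists_fin {d : Finset GolayPt} {n : ℕ} (h : n ≤ d.card) :
    ∃ x : Fin n → GolayPt, Function.Injective x ∧ ∀ i, x i ∈ d := by
  obtain ⟨t, hts, ht⟩ := Finset.exists_subset_card_eq h
  refine ⟨fun i => (t.equivFin.symm (Fin.cast ht.symm i)).1, ?_, fun i => hts (t.equivFin.symm _).2⟩
  intro i j h
  have h1 := t.equivFin.symm.injective (Subtype.ext h)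
  exact Fin.cast_injective _ h1

theorem Mst_unique {d : Finset GolayPt} (hd : d ∈ dodecads) {g : Equiv.Perm GolayPt} (hg : g ∈ Mst d)
    (h : 5 ≤ (d ∩ fixS g).card) : g = 1 := by
  obtain ⟨x, hx, hxd⟩ := exists_fin h
  have h1 := M12_unique hd (g := ⟨g, hg.1⟩) (g' := 1) hg.2 (Subgroup.one_mem _) x
    (fun i => (Finset.mem_inter.1 (hxd i)).1) hx (by
      intro i
      show g (x i) = x i
      exact mem_fixS.1 (Finset.mem_inter.1 (hxd i)).2)
  exact congrArg Subtype.val h1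

theorem Mst_map3 {d : Finset GolayPt} (hd : d ∈ dodecads) {p : GolayPt} (hp : p ∈ d) {a b c a' b' c' : GolayPt}
    (ha : a ∉ d) (hb : b ∉ d) (hc : c ∉ d) (ha' : a' ∉ d) (hb' : b' ∉ d) (hc' : c' ∉ d)
    (hab : a ≠ b) (hac : a ≠ c) (hbc : b ≠ c) (hab' : a' ≠ b') (hac' : a' ≠ c') (hbc' : b' ≠ c') :
    ∃ g ∈ Mst d, g p = p ∧ g a = a' ∧ g b = b' ∧ g c = c' := by
  have hinj : ∀ {a b c : GolayPt}, a ≠ b → a ≠ c → b ≠ c → Function.Injective (![a, b, c] : Fin 3 → GolayPt) := by
    intro a b c h1 h2 h3 x y hxy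
    fin_cases x <;> fin_cases y <;> simp at hxy ⊢ <;> first | exact absurd hxy ‹_› | exact absurd hxy.symm ‹_›
  obtain ⟨g, hg, h⟩ := M11_map hd hp ![a, b, c] ![a', b', c'] (by intro i; fin_cases i <;> assumption)
    (by intro i; fin_cases i <;> assumption) (hinj hab hac hbc) (hinj hab' hac' hbc')
  exact ⟨g.1, ⟨g.2, hg.1⟩, hg.2, h 0, h 1, h 2⟩

theorem exists_mem_ne3 {s : Finset GolayPt} (hs : 4 ≤ s.card) (a b c : GolayPt) :
    ∃ r ∈ s, r ≠ a ∧ r ≠ b ∧ r ≠ c := by
  by_contra h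
  push Not at h
  have h1 : s ⊆ {a, b, c} := by
    intro x hx
    rw [Finset.mem_insert, Finset.mem_insert, Finset.mem_singleton]
    by_cases h2 : x = a
    · exact Or.inl h2
    · by_cases h3 : x = b
      · exact Or.inr (Or.inl h3)
      · exact Or.inr (Or.inr (h x hx h2 h3))
  have h2 := Finset.card_le_card h1
  have h3 := Finset.card_le_three (a := a) (b := b) (c := c)
  omega

theorem card_compl_dod {d : Finset GolayPt} (hd : d ∈ dodecads) : dᶜ.card = 12 := card_dodecad (compl_dodecad hd)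

/-- transitivity on pairs of points outside, with a point inside fixed -/
theorem Mst_map2 {d : Finset GolayPt} (hd : d ∈ dodecads) {p : GolayPt} (hp : p ∈ d) {a b a' b' : GolayPt}
    (ha : a ∉ d) (hb : b ∉ d) (ha' : a' ∉ d) (hb' : b' ∉ d) (hab : a ≠ b) (hab' : a' ≠ b') :
    ∃ g ∈ Mst d, g p = p ∧ g a = a' ∧ g b = b' := by
  obtain ⟨c, hc, hc1, hc2, -⟩ := exists_mem_ne3 (s := dᶜ) (by rw [card_compl_dod hd]; norm_num) a b b
  obtain ⟨c', hc', hc1', hc2', -⟩ := exists_mem_ne3 (s := dᶜ) (by rw [card_compl_dod hd]; norm_num) a' b' b'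
  rw [Finset.mem_compl] at hc hc'
  obtain ⟨g, hg, h0, h1, h2, -⟩ := Mst_map3 hd hp ha hb hc ha' hb' hc' hab (Ne.symm hc1) (Ne.symm hc2) hab'
    (Ne.symm hc1') (Ne.symm hc2')
  exact ⟨g, hg, h0, h1, h2⟩

theorem Mst_map1 {d : Finset GolayPt} (hd : d ∈ dodecads) {p : GolayPt} (hp : p ∈ d) {a a' : GolayPt}
    (ha : a ∉ d) (ha' : a' ∉ d) : ∃ g ∈ Mst d, g p = p ∧ g a = a' := by
  obtain ⟨c, hc, hc1, -⟩ := exists_mem_ne3 (s := dᶜ) (by rw [card_compl_dod hd]; norm_num) a a a
  obtain ⟨c', hc', hc1', -⟩ := exists_mem_ne3 (s := dᶜ) (by rw [card_compl_dod hd]; norm_num) a' a' a'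
  rw [Finset.mem_compl] at hc hc'
  obtain ⟨g, hg, h0, h1, -⟩ := Mst_map2 hd hp ha hc ha' hc' (Ne.symm hc1) (Ne.symm hc1')
  exact ⟨g, hg, h0, h1⟩

theorem orbF_Mst {d : Finset GolayPt} (hd : d ∈ dodecads) {p : GolayPt} (hp : p ∈ d) : orbF (Mst d) p = d := by
  ext q
  rw [mem_orbF]
  constructor
  · rintro ⟨g, hg, rfl⟩; exact (Mst_mem hg p).2 hp
  · intro hq
    obtain ⟨r, hr, -⟩ := exists_mem_ne3 (s := dᶜ) (by rw [card_compl_dod hd]; norm_num) p p p
    rw [Finset.mem_compl] at hr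
    -- use the complementary dodecad
    have hd' := compl_dodecad hd
    obtain ⟨g, hg, h0, h1⟩ := Mst_map1 hd' (p := r) (Finset.mem_compl.2 hr) (a := p) (a' := q)
      (by rw [Finset.mem_compl, not_not]; exact hp) (by rw [Finset.mem_compl, not_not]; exact hq)
    rw [Mst_compl] at hg
    exact ⟨g, hg, h1⟩

/-- the stabilizer of a point -/
def Mst1 (d : Finset GolayPt) (p : GolayPt) : Subgroup (Equiv.Perm GolayPt) :=
  Mst d ⊓ MulAction.stabilizer (Equiv.Perm GolayPt) p

theorem mem_Mst1 {d : Finset GolayPt} {p : GolayPt} {g : Equiv.Perm GolayPt} :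
    g ∈ Mst1 d p ↔ g ∈ Mst d ∧ g p = p := Iff.rfl

theorem card_Mst1 {d : Finset GolayPt} (hd : d ∈ dodecads) {p : GolayPt} (hp : p ∈ d) :
    Nat.card (Mst1 d p) = 7920 := by
  apply card_stab_general (K := Mst d) (n := 12) (m := 7920) (by rw [card_Mst hd]) (by norm_num)
  rw [orbF_Mst hd hp, card_dodecad hd]

theorem orbF_Mst1 {d : Finset GolayPt} (hd : d ∈ dodecads) {p : GolayPt} (hp : p ∈ d) {q : GolayPt} (hq : q ∉ d) :
    orbF (Mst1 d p) q = dᶜ := by
  ext r
  rw [mem_orbF, Finset.mem_compl]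
  constructor
  · rintro ⟨g, hg, rfl⟩ h; exact hq ((Mst_mem hg.1 q).1 h)
  · intro hr
    obtain ⟨g, hg, h0, h1⟩ := Mst_map1 hd hp hq hr
    exact ⟨g, ⟨hg, h0⟩, h1⟩

/-- the stabilizer of two points -/
def Mst2 (d : Finset GolayPt) (p q : GolayPt) : Subgroup (Equiv.Perm GolayPt) :=
  Mst1 d p ⊓ MulAction.stabilizer (Equiv.Perm GolayPt) q

theorem mem_Mst2 {d : Finset GolayPt} {p q : GolayPt} {g : Equiv.Perm GolayPt} :
    g ∈ Mst2 d p q ↔ (g ∈ Mst d ∧ g p = p) ∧ g q = q := Iff.rfl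

theorem card_Mst2 {d : Finset GolayPt} (hd : d ∈ dodecads) {p : GolayPt} (hp : p ∈ d) {q : GolayPt} (hq : q ∉ d) :
    Nat.card (Mst2 d p q) = 660 := by
  apply card_stab_general (K := Mst1 d p) (n := 12) (m := 660) (by rw [card_Mst1 hd hp]) (by norm_num)
  rw [orbF_Mst1 hd hp hq, card_compl_dod hd]

/-! ### Fixed points -/

theorem dod_fix_mod {d : Finset GolayPt} (hd : d ∈ dodecads) {x : Equiv.Perm GolayPt} (hx : x ∈ Mst d) {p : ℕ}
    (hp : p.Prime) (hxp : orderOf x = p) : 12 ≡ (d ∩ fixS x).card [MOD p] := by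
  have h := fix_in_mod hp (by rw [← hxp]; exact pow_orderOf_eq_one x) d (fun a ha => (Mst_mem hx a).2 ha)
  rwa [card_dodecad hd] at h

theorem dod_fix11 {d : Finset GolayPt} (hd : d ∈ dodecads) {x : Equiv.Perm GolayPt} (hx : x ∈ Mst d)
    (hxp : orderOf x = 11) : ∃ p ∈ d, ∃ q, q ∉ d ∧ fixS x = {p, q} := by
  have h1 := dod_fix_mod hd hx (by norm_num) hxp
  have h2 := dod_fix_mod (compl_dodecad hd) (x := x) (by rw [Mst_compl]; exact hx) (by norm_num) hxp
  have h3 := fix_order11 hx.1 hxp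
  have h4 : (d ∩ fixS x).card ≠ 0 := by intro h; rw [h] at h1; unfold Nat.ModEq at h1; omega
  have h5 : (dᶜ ∩ fixS x).card ≠ 0 := by intro h; rw [h] at h2; unfold Nat.ModEq at h2; omega
  obtain ⟨p, hp⟩ := Finset.card_pos.1 (Nat.pos_of_ne_zero h4)
  obtain ⟨q, hq⟩ := Finset.card_pos.1 (Nat.pos_of_ne_zero h5)
  rw [Finset.mem_inter] at hp hq
  rw [Finset.mem_compl] at hq
  refine ⟨p, hp.1, q, hq.1, ?_⟩
  symm
  apply Finset.eq_of_subset_of_card_le
  · intro a ha
    rw [Finset.mem_insert, Finset.mem_singleton] at ha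
    rcases ha with rfl | rfl
    · exact hp.2
    · exact hq.2
  · rw [h3, Finset.card_pair (fun h : p = q => hq.1 (h ▸ hp.1))]

theorem dod_fix3 {d : Finset GolayPt} (hd : d ∈ dodecads) {x : Equiv.Perm GolayPt} (hx : x ∈ Mst d)
    (hxp : orderOf x = 3) {p : GolayPt} (hp : p ∈ d) (hpx : x p = p) : (d ∩ fixS x).card = 3 := by
  have h1 := dod_fix_mod hd hx (by norm_num) hxp
  have h2 : (d ∩ fixS x).card ≠ 0 := by
    intro h
    rw [Finset.card_eq_zero] at h
    have : p ∈ d ∩ fixS x := Finset.mem_inter.2 ⟨hp, mem_fixS.2 hpx⟩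
    rw [h] at this
    exact absurd this (Finset.notMem_empty _)
  have h3 : ¬ 5 ≤ (d ∩ fixS x).card := by
    intro h
    have := Mst_unique hd hx h
    rw [this, orderOf_one] at hxp
    omega
  unfold Nat.ModEq at h1
  omega

theorem fix_order3 {x : Equiv.Perm GolayPt} (hx : x ∈ M24) (h : orderOf x = 3) {p : GolayPt} (hp : x p = p) :
    (fixS x).card = 6 := by
  obtain ⟨g, hg, hT⟩ := Orb.three_fix6 hx h (by
    intro h
    rw [Finset.card_eq_zero] at h
    have : p ∈ Finset.univ.filter fun p => x p = p := by simp [hp]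
    rw [h] at this
    exact absurd this (Finset.notMem_empty _))
  have h1 := Orb.fixCount_conj g x
  rw [Orb.fixCount_spec hT, Orb.fixCount_tab36] at h1
  exact h1.symm

theorem card_split (d : Finset GolayPt) (s : Finset GolayPt) : s.card = (d ∩ s).card + (dᶜ ∩ s).card := by
  have h1 : s = (d ∩ s) ∪ (dᶜ ∩ s) := by
    ext a
    simp only [Finset.mem_union, Finset.mem_inter, Finset.mem_compl]
    tauto
  conv_lhs => rw [h1]
  apply Finset.card_union_of_disjoint
  rw [Finset.disjoint_left]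
  intro a ha hb
  rw [Finset.mem_inter] at ha hb
  exact (Finset.mem_compl.1 hb.1) ha.1

theorem orb_in {d : Finset GolayPt} {K : Subgroup (Equiv.Perm GolayPt)} (hK : K ≤ Mst d) {p : GolayPt} (hp : p ∈ d) :
    orbF K p ⊆ d := by
  intro a ha
  obtain ⟨g, hg, rfl⟩ := mem_orbF.1 ha
  exact (Mst_mem (hK hg) p).2 hp

/-- Subgroups of order 660 fixing a point inside fix a point outside. -/
theorem fix_of_660 {d : Finset GolayPt} (hd : d ∈ dodecads) (K : Subgroup (Equiv.Perm GolayPt)) (hK : K ≤ Mst d)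
    {p : GolayPt} (hp : p ∈ d) (hpK : ∀ g ∈ K, g p = p) (hc : Nat.card K = 660) : ∃ q, q ∉ d ∧ ∀ g ∈ K, g q = q := by
  obtain ⟨x, hxK, hx⟩ := exists_order (K := K) (p := 11) (by norm_num) (by rw [hc]; norm_num)
  obtain ⟨z, hzK, hz⟩ := exists_order (K := K) (p := 3) (by norm_num) (by rw [hc]; norm_num)
  obtain ⟨p1, hp1, q, hq, hfx⟩ := dod_fix11 hd (hK hxK) hx
  refine ⟨q, hq, ?_⟩
  have hKc : K ≤ Mst dᶜ := by rw [Mst_compl]; exact hK
  have ho : orbF K q ⊆ dᶜ := orb_in hKc (Finset.mem_compl.2 hq)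
  have h1 := fix_in_mod (x := x) (p := 11) (by norm_num) (by rw [← hx]; exact pow_orderOf_eq_one _) (orbF K q)
    (orbF_inv hxK)
  have h2 : orbF K q ∩ fixS x = {q} := by
    rw [hfx]
    ext b
    rw [Finset.mem_inter, Finset.mem_insert, Finset.mem_singleton]
    constructor
    · rintro ⟨h3, h4 | h4⟩
      · rw [h4] at h3; exact absurd hp1 (Finset.mem_compl.1 (ho h3))
      · exact h4
    · rintro rfl; exact ⟨self_mem_orbF K b, Or.inr rfl⟩
  rw [h2, Finset.card_singleton] at h1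
  have h12 : (orbF K q).card ≤ 12 := by
    rw [← card_compl_dod hd]; exact Finset.card_le_card ho
  have h3 : (orbF K q).card = 1 ∨ (orbF K q).card = 12 := by unfold Nat.ModEq at h1; omega
  rcases h3 with h3 | h3
  · exact fixed_of_orb_one h3
  · exfalso
    have ho2 : orbF K q = dᶜ := Finset.eq_of_subset_of_card_le ho (by rw [h3, card_compl_dod hd])
    have h4 := dod_fix3 hd (hK hzK) hz hp (hpK z hzK)
    have h5 := fix_order3 (hK hzK).1 hz (hpK z hzK)
    rw [card_split d, h4] at h5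
    obtain ⟨q', hq'⟩ := Finset.card_pos.1 (by omega : 0 < (dᶜ ∩ fixS z).card)
    rw [Finset.mem_inter] at hq'
    have ho3 : orbF K q' = dᶜ := by
      apply Finset.eq_of_subset_of_card_le (orb_in hKc hq'.1)
      have h6 : q' ∈ orbF K q := by rw [ho2]; exact hq'.1
      obtain ⟨g, hg, hgq⟩ := mem_orbF.1 h6
      have h7 : orbF K q ⊆ orbF K q' := by
        intro a ha
        obtain ⟨h, hh, rfl⟩ := mem_orbF.1 ha
        refine mem_orbF.2 ⟨h * g⁻¹, K.mul_mem hh (K.inv_mem hg), ?_⟩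
        show h (g⁻¹ q') = h q
        rw [← hgq, show g⁻¹ (g q) = q from g.symm_apply_apply q]
      rw [← ho2]
      exact Finset.card_le_card h7
    have h6 : Nat.card (K ⊓ MulAction.stabilizer (Equiv.Perm GolayPt) q' : Subgroup _) = 55 :=
      card_stab_general (n := 12) (m := 55) (by rw [hc]) (by norm_num) (by rw [ho3, card_compl_dod hd])
    have h7 : z ∈ (K ⊓ MulAction.stabilizer (Equiv.Perm GolayPt) q' : Subgroup _) := ⟨hzK, mem_fixS.1 hq'.2⟩
    have h8 := Subgroup.orderOf_dvd_natCard _ h7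
    rw [hz, h6] at h8
    norm_num at h8

/-- Four fixed points, two inside and two outside: the group has order different from 60. -/
theorem no_pair {d : Finset GolayPt} (hd : d ∈ dodecads) (A : Subgroup (Equiv.Perm GolayPt)) (hA : A ≤ Mst d)
    {p p' q q' : GolayPt} (hp : p ∈ d) (hp' : p' ∈ d) (hq : q ∉ d) (hq' : q' ∉ d) (hpp : p ≠ p') (hqq : q ≠ q')
    (h1 : ∀ g ∈ A, g p = p) (h2 : ∀ g ∈ A, g p' = p') (h3 : ∀ g ∈ A, g q = q) (h4 : ∀ g ∈ A, g q' = q')
    (hc : Nat.card A = 60) : False := by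
  obtain ⟨y, hyA, hy⟩ := exists_order (K := A) (p := 5) (by norm_num) (by rw [hc]; norm_num)
  obtain ⟨z, hzA, hz⟩ := exists_order (K := A) (p := 3) (by norm_num) (by rw [hc]; norm_num)
  have hzd := dod_fix3 hd (hA hzA) hz hp (h1 z hzA)
  -- a third fixed point of z in d
  have hpz : p ∈ d ∩ fixS z := Finset.mem_inter.2 ⟨hp, mem_fixS.2 (h1 z hzA)⟩
  have hpz' : p' ∈ d ∩ fixS z := Finset.mem_inter.2 ⟨hp', mem_fixS.2 (h2 z hzA)⟩
  obtain ⟨a, ha, hap, hap'⟩ : ∃ a ∈ d ∩ fixS z, a ≠ p ∧ a ≠ p' := by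
    have h5 : ((d ∩ fixS z).erase p).card = 2 := by rw [Finset.card_erase_of_mem hpz, hzd]
    obtain ⟨a, ha, h⟩ := Finset.exists_mem_ne (by omega : 1 < ((d ∩ fixS z).erase p).card) p'
    exact ⟨a, Finset.mem_of_mem_erase ha, Finset.ne_of_mem_erase ha, h⟩
  rw [Finset.mem_inter] at ha
  have hdq : ∀ b ∈ d, b ≠ q ∧ b ≠ q' := fun b hb => ⟨fun h => hq (h ▸ hb), fun h => hq' (h ▸ hb)⟩
  -- the octad through the five points
  have hT : ({p, p', q, q'} : Finset GolayPt).card = 4 := by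
    rw [Finset.card_insert_of_notMem, Finset.card_insert_of_notMem, Finset.card_pair hqq]
    · simp only [Finset.mem_insert, Finset.mem_singleton, not_or]; exact hdq p' hp'
    · simp only [Finset.mem_insert, Finset.mem_singleton, not_or]; exact ⟨hpp, hdq p hp⟩
  have hTa : (insert a ({p, p', q, q'} : Finset GolayPt)).card = 5 := by
    rw [Finset.card_insert_of_notMem, hT]
    simp only [Finset.mem_insert, Finset.mem_singleton, not_or]
    exact ⟨hap, hap', hdq a ha.1⟩
  obtain ⟨O, hO, hTO⟩ := exists_octad hTa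
  have hTO' : ({p, p', q, q'} : Finset GolayPt) ⊆ O := (Finset.subset_insert _ _).trans hTO
  have haO : a ∈ O := hTO (Finset.mem_insert_self _ _)
  have hpO : p ∈ O := hTO' (by simp)
  have hpO' : p' ∈ O := hTO' (by simp)
  have hqO : q ∈ O := hTO' (by simp)
  have hqO' : q' ∈ O := hTO' (by simp)
  -- elements of A map T to T pointwise
  have hTsub : ∀ g ∈ A, ({p, p', q, q'} : Finset GolayPt) ⊆ g • O := by
    intro g hg b hb
    rw [mem_smul_iff]
    have h5 : g⁻¹ b = b := by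
      have h6 : g b = b := by
        simp only [Finset.mem_insert, Finset.mem_singleton] at hb
        rcases hb with rfl | rfl | rfl | rfl
        · exact h1 g hg
        · exact h2 g hg
        · exact h3 g hg
        · exact h4 g hg
      exact Equiv.Perm.inv_eq_iff_eq.2 h6.symm
    rw [h5]; exact hTO' hb
  -- z fixes O
  have hzO : z • O = O := by
    apply octad_eq_of_subset ((smul_mem_octads (hA hzA).1).2 hO) hO (s := insert a {p, p', q, q'}) _ hTO
      (by rw [hTa])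
    intro b hb
    rw [Finset.mem_insert] at hb
    rcases hb with rfl | hb
    · rw [mem_smul_iff]
      have h5 : z⁻¹ b = b := Equiv.Perm.inv_eq_iff_eq.2 (mem_fixS.1 ha.2).symm
      rw [h5]; exact haO
    · exact hTsub z hzA hb
  let B : Finset GolayPt := ((O ∩ d).erase p).erase p'
  have hB : ∀ b, b ∈ B ↔ b ≠ p' ∧ b ≠ p ∧ b ∈ O ∧ b ∈ d := by
    intro b
    simp only [B, Finset.mem_erase, Finset.mem_inter]
  have hBc : B.card + 2 = (O ∩ d).card := by
    show (((O ∩ d).erase p).erase p').card + 2 = (O ∩ d).card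
    have h5 : p ∈ O ∩ d := Finset.mem_inter.2 ⟨hpO, hp⟩
    have h6 : p' ∈ (O ∩ d).erase p := Finset.mem_erase.2 ⟨Ne.symm hpp, Finset.mem_inter.2 ⟨hpO', hp'⟩⟩
    have h7 := Finset.card_pos.2 ⟨p', h6⟩
    have h8 := Finset.card_pos.2 ⟨p, h5⟩
    rw [Finset.card_erase_of_mem h6]
    rw [Finset.card_erase_of_mem h5] at h7 ⊢
    omega
  have haB : a ∈ B := (hB a).2 ⟨hap', hap, haO, ha.1⟩
  have hcases := card_inter_dodecad hO hd
  have hB1 : B.card = 2 ∨ B.card = 4 := by
    have := Finset.card_pos.2 ⟨a, haB⟩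
    omega
  rcases hB1 with hB1 | hB1
  · -- the other point of B is also fixed by z
    obtain ⟨b, hb, hba⟩ := Finset.exists_mem_ne (by omega : 1 < B.card) a
    have hzb : z b ∈ B := by
      rw [hB] at hb ⊢
      refine ⟨fun h => hb.1 (z.injective (h.trans (h2 z hzA).symm)),
        fun h => hb.2.1 (z.injective (h.trans (h1 z hzA).symm)), ?_, (Mst_mem (hA hzA) b).2 hb.2.2.2⟩
      rw [← hzO]
      exact Finset.smul_mem_smul_finset hb.2.2.1
    have hzba : z b ≠ a := fun h => hba (z.injective (h.trans (mem_fixS.1 ha.2).symm))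
    have hBeq : B = {a, b} := by
      symm
      apply Finset.eq_of_subset_of_card_le
      · intro c hc
        rw [Finset.mem_insert, Finset.mem_singleton] at hc
        rcases hc with rfl | rfl
        · exact haB
        · exact hb
      · rw [hB1, Finset.card_pair (Ne.symm hba)]
    have hzb2 : z b = b := by
      rw [hBeq, Finset.mem_insert, Finset.mem_singleton] at hzb
      rcases hzb with h | h
      · exact absurd h hzba
      · exact h
    have hsub : ({p, p', a, b} : Finset GolayPt) ⊆ d ∩ fixS z := by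
      intro c hc
      simp only [Finset.mem_insert, Finset.mem_singleton] at hc
      rcases hc with rfl | rfl | rfl | rfl
      · exact hpz
      · exact hpz'
      · exact Finset.mem_inter.2 ha
      · exact Finset.mem_inter.2 ⟨((hB c).1 hb).2.2.2, mem_fixS.2 hzb2⟩
    have h5 := Finset.card_le_card hsub
    rw [hzd, Finset.card_insert_of_notMem, Finset.card_insert_of_notMem, Finset.card_pair (Ne.symm hba)] at h5
    · omega
    · simp only [Finset.mem_insert, Finset.mem_singleton, not_or]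
      exact ⟨Ne.symm hap', fun h => ((hB b).1 hb).1 h.symm⟩
    · simp only [Finset.mem_insert, Finset.mem_singleton, not_or]
      exact ⟨hpp, Ne.symm hap, fun h => ((hB b).1 hb).2.1 h.symm⟩
  · -- elements of order 5 move the octad
    have hmove : ∀ w ∈ A, orderOf w = 5 → w • O ≠ O := by
      intro w hwA hw hwO
      have h5 := fix_order5 (hA hwA).1 hw
      have hR : (O \ {p, p', q, q'}).card = 4 := by
        rw [Finset.card_sdiff_of_subset hTO', card_octad hO, hT]
      have h6 := fix_in_mod (x := w) (p := 5) (by norm_num) (by rw [← hw]; exact pow_orderOf_eq_one _)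
        (O \ {p, p', q, q'}) (by
          intro b hb
          rw [Finset.mem_sdiff] at hb ⊢
          refine ⟨?_, ?_⟩
          · have h7 : w b ∈ w • O := Finset.smul_mem_smul_finset hb.1
            rw [hwO] at h7; exact h7
          · intro h7
            apply hb.2
            simp only [Finset.mem_insert, Finset.mem_singleton] at h7 ⊢
            rcases h7 with h7 | h7 | h7 | h7
            · exact Or.inl (w.injective (h7.trans (h1 w hwA).symm))
            · exact Or.inr (Or.inl (w.injective (h7.trans (h2 w hwA).symm)))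
            · exact Or.inr (Or.inr (Or.inl (w.injective (h7.trans (h3 w hwA).symm))))
            · exact Or.inr (Or.inr (Or.inr (w.injective (h7.trans (h4 w hwA).symm)))))
      rw [hR] at h6
      have h7 : ((O \ {p, p', q, q'}) ∩ fixS w).card ≠ 0 := by
        intro h; rw [h] at h6; unfold Nat.ModEq at h6; omega
      obtain ⟨b, hb⟩ := Finset.card_pos.1 (Nat.pos_of_ne_zero h7)
      rw [Finset.mem_inter, Finset.mem_sdiff] at hb
      have h8 : insert b ({p, p', q, q'} : Finset GolayPt) ⊆ fixS w := by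
        intro c hc
        simp only [Finset.mem_insert, Finset.mem_singleton] at hc
        rw [mem_fixS]
        rcases hc with rfl | rfl | rfl | rfl | rfl
        · exact mem_fixS.1 hb.2
        · exact h1 w hwA
        · exact h2 w hwA
        · exact h3 w hwA
        · exact h4 w hwA
      have h9 := Finset.card_le_card h8
      rw [h5, Finset.card_insert_of_notMem hb.1.2, hT] at h9
      omega
    -- disjointness
    have hdisj : ∀ w ∈ A, orderOf w = 5 → Disjoint B (w • B) := by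
      intro w hwA hw
      rw [Finset.disjoint_left]
      intro b hb hwb
      rw [mem_smul_iff] at hwb
      apply hmove w hwA hw
      apply octad_eq_of_subset ((smul_mem_octads (hA hwA).1).2 hO) hO (s := insert b {p, p', q, q'})
      · intro c hc
        rw [Finset.mem_insert] at hc
        rcases hc with rfl | hc
        · rw [mem_smul_iff]; exact ((hB _).1 hwb).2.2.1
        · exact hTsub w hwA hc
      · intro c hc
        rw [Finset.mem_insert] at hc
        rcases hc with rfl | hc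
        · exact ((hB c).1 hb).2.2.1
        · exact hTO' hc
      · rw [Finset.card_insert_of_notMem, hT]
        have hb' := (hB b).1 hb
        simp only [Finset.mem_insert, Finset.mem_singleton, not_or]
        exact ⟨hb'.2.1, hb'.1, hdq b hb'.2.2.2⟩
    have hy2 : orderOf (y * y) = 5 := by
      rw [← pow_two, Nat.Coprime.orderOf_pow]
      · exact hy
      · rw [hy]; norm_num
    have hy2A : y * y ∈ A := A.mul_mem hyA hyA
    have d1 := hdisj y hyA hy
    have d2 := hdisj (y * y) hy2A hy2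
    have d3 : Disjoint (y • B) ((y * y) • B) := by
      rw [mul_smul, Finset.disjoint_left]
      intro b hb hb2
      rw [mem_smul_iff] at hb hb2
      exact (Finset.disjoint_left.1 d1) hb hb2
    have hsub : (B ∪ y • B) ∪ (y * y) • B ⊆ (d.erase p).erase p' := by
      have hBin : ∀ w ∈ A, w • B ⊆ (d.erase p).erase p' := by
        intro w hwA b hb
        rw [mem_smul_iff, hB] at hb
        rw [Finset.mem_erase, Finset.mem_erase]
        have hwb : w (w⁻¹ b) = b := w.apply_symm_apply b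
        refine ⟨fun h => hb.1 ?_, fun h => hb.2.1 ?_, ?_⟩
        · rw [h]; exact Equiv.Perm.inv_eq_iff_eq.2 (h2 w hwA).symm
        · rw [h]; exact Equiv.Perm.inv_eq_iff_eq.2 (h1 w hwA).symm
        · rw [← hwb]; exact (Mst_mem (hA hwA) _).2 hb.2.2.2
      have h5 := hBin 1 A.one_mem
      rw [one_smul] at h5
      exact Finset.union_subset (Finset.union_subset h5 (hBin y hyA)) (hBin (y * y) hy2A)
    have h5 := Finset.card_le_card hsub
    rw [Finset.card_union_of_disjoint (Finset.disjoint_union_left.2 ⟨d2, d3⟩),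
      Finset.card_union_of_disjoint d1, card_smul_eq, card_smul_eq, hB1,
      Finset.card_erase_of_mem (Finset.mem_erase.2 ⟨Ne.symm hpp, hp'⟩), Finset.card_erase_of_mem hp,
      card_dodecad hd] at h5
    omega

theorem orb_one_or {d : Finset GolayPt} (hd : d ∈ dodecads) {K : Subgroup (Equiv.Perm GolayPt)} (hK : K ≤ Mst d)
    {x : Equiv.Perm GolayPt} (hxK : x ∈ K) (hx : orderOf x = 11) {p q : GolayPt} (hp : p ∈ d) (hq : q ∉ d)
    (hfx : fixS x = {p, q}) : (orbF K p).card = 1 ∨ (orbF K p).card = 12 := by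
  have ho : orbF K p ⊆ d := orb_in hK hp
  have h1 := fix_in_mod (x := x) (p := 11) (by norm_num) (by rw [← hx]; exact pow_orderOf_eq_one _) (orbF K p)
    (orbF_inv hxK)
  have h2 : orbF K p ∩ fixS x = {p} := by
    rw [hfx]
    ext b
    rw [Finset.mem_inter, Finset.mem_insert, Finset.mem_singleton, Finset.mem_singleton]
    constructor
    · rintro ⟨h3, h4 | h4⟩
      · exact h4
      · rw [h4] at h3; exact absurd (ho h3) hq
    · rintro rfl; exact ⟨self_mem_orbF K b, Or.inl rfl⟩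
  rw [h2, Finset.card_singleton] at h1
  have h12 : (orbF K p).card ≤ 12 := by
    rw [← card_dodecad hd]; exact Finset.card_le_card ho
  unfold Nat.ModEq at h1; omega

/-- Subgroups of index 12 of `M12` fix a point. -/
theorem fix_of_index12 {d : Finset GolayPt} (hd : d ∈ dodecads) (K : Subgroup (Equiv.Perm GolayPt)) (hK : K ≤ Mst d)
    (hc : Nat.card K = 7920) : ∃ r, ∀ g ∈ K, g r = r := by
  obtain ⟨x, hxK, hx⟩ := exists_order (K := K) (p := 11) (by norm_num) (by rw [hc]; norm_num)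
  obtain ⟨p, hp, q, hq, hfx⟩ := dod_fix11 hd (hK hxK) hx
  have hKc : K ≤ Mst dᶜ := by rw [Mst_compl]; exact hK
  have hxp : x p = p := mem_fixS.1 (by rw [hfx]; simp)
  have hxq : x q = q := mem_fixS.1 (by rw [hfx]; simp)
  rcases orb_one_or hd hK hxK hx hp hq hfx with h1 | h1
  · exact ⟨p, fixed_of_orb_one h1⟩
  rcases orb_one_or (compl_dodecad hd) hKc hxK hx (p := q) (q := p) (Finset.mem_compl.2 hq)
    (by rw [Finset.mem_compl, not_not]; exact hp) (by rw [hfx, Finset.pair_comm]) with h2 | h2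
  · exact ⟨q, fixed_of_orb_one h2⟩
  exfalso
  -- stabilizers
  have hcp : Nat.card (K ⊓ MulAction.stabilizer (Equiv.Perm GolayPt) p : Subgroup _) = 660 :=
    card_stab_general (n := 12) (m := 660) (by rw [hc]) (by norm_num) h1
  have hcq : Nat.card (K ⊓ MulAction.stabilizer (Equiv.Perm GolayPt) q : Subgroup _) = 660 :=
    card_stab_general (n := 12) (m := 660) (by rw [hc]) (by norm_num) h2
  set Kp := K ⊓ MulAction.stabilizer (Equiv.Perm GolayPt) p with hKp
  set Kq := K ⊓ MulAction.stabilizer (Equiv.Perm GolayPt) q with hKq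
  obtain ⟨r, hr, hrfix⟩ := fix_of_660 hd Kp (fun g hg => hK hg.1) hp (fun g hg => hg.2) hcp
  have hrq : r = q := by
    have h3 : r ∈ fixS x := mem_fixS.2 (hrfix x ⟨hxK, hxp⟩)
    rw [hfx, Finset.mem_insert, Finset.mem_singleton] at h3
    rcases h3 with h3 | h3
    · exact absurd (h3 ▸ hp) hr
    · exact h3
  rw [hrq] at hrfix
  have hle : Kp ≤ Kq := fun g hg => ⟨hg.1, hrfix g hg⟩
  have heq : Kp = Kq := Subgroup.eq_of_le_of_card_ge hle (by rw [hcp, hcq])
  have hM2 : Kp = Mst2 d p q := by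
    apply Subgroup.eq_of_le_of_card_ge
    · intro g hg; exact ⟨⟨hK hg.1, hg.2⟩, hrfix g hg⟩
    · rw [hcp, card_Mst2 hd hp hq]
  -- a second point
  obtain ⟨p', hp', hpp, -⟩ := exists_mem_ne3 (s := d) (by rw [card_dodecad hd]; norm_num) p p p
  have hod : orbF K p = d := Finset.eq_of_subset_of_card_le (orb_in hK hp) (by rw [h1, card_dodecad hd])
  obtain ⟨k, hk, hkp⟩ := mem_orbF.1 (by rw [hod]; exact hp' : p' ∈ orbF K p)
  have hk' := K.inv_mem hk
  have hq' : k q ∉ d := fun h => hq ((Mst_mem (hK hk) q).1 h)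
  have hqq : q ≠ k q := by
    intro h
    have h3 : k ∈ Kq := ⟨hk, h.symm⟩
    rw [← heq] at h3
    exact hpp (by rw [← hkp]; exact h3.2)
  have hfix' : ∀ g ∈ K, g p' = p' → g (k q) = k q := by
    intro g hg hgp
    have h3 : k⁻¹ * g * k ∈ Kp := by
      refine ⟨K.mul_mem (K.mul_mem hk' hg) hk, ?_⟩
      show k⁻¹ (g (k p)) = p
      rw [hkp, hgp]
      exact Equiv.Perm.inv_eq_iff_eq.2 hkp.symm
    have h4 : k⁻¹ (g (k q)) = q := hrfix _ h3
    exact (Equiv.Perm.inv_eq_iff_eq.1 h4)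
  -- the group A
  have hxM : x ∈ Mst2 d p q := ⟨⟨hK hxK, hxp⟩, hxq⟩
  have hcA : Nat.card (Mst2 d p q ⊓ MulAction.stabilizer (Equiv.Perm GolayPt) p' : Subgroup _) = 60 := by
    apply card_stab_general (n := 11) (m := 60) (by rw [card_Mst2 hd hp hq]) (by norm_num)
    have h3 := fix_in_mod (x := x) (p := 11) (by norm_num) (by rw [← hx]; exact pow_orderOf_eq_one _)
      (orbF (Mst2 d p q) p') (orbF_inv hxM)
    have h4 : orbF (Mst2 d p q) p' ⊆ d.erase p := by
      intro b hb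
      obtain ⟨g, hg, rfl⟩ := mem_orbF.1 hb
      rw [Finset.mem_erase]
      refine ⟨fun h => hpp ?_, (Mst_mem hg.1.1 p').2 hp'⟩
      exact g.injective (h.trans hg.1.2.symm)
    have h5 : orbF (Mst2 d p q) p' ∩ fixS x = ∅ := by
      rw [hfx, Finset.eq_empty_iff_forall_notMem]
      intro b hb
      rw [Finset.mem_inter, Finset.mem_insert, Finset.mem_singleton] at hb
      have h6 := Finset.mem_erase.1 (h4 hb.1)
      rcases hb.2 with h7 | h7
      · exact h6.1 h7
      · exact hq (h7 ▸ h6.2)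
    rw [h5, Finset.card_empty] at h3
    have h6 := Finset.card_le_card h4
    rw [Finset.card_erase_of_mem hp, card_dodecad hd] at h6
    have h7 := Finset.card_pos.2 ⟨p', self_mem_orbF (Mst2 d p q) p'⟩
    unfold Nat.ModEq at h3
    omega
  apply no_pair hd (Mst2 d p q ⊓ MulAction.stabilizer (Equiv.Perm GolayPt) p') (fun g hg => hg.1.1.1) hp hp' hq hq'
    (Ne.symm hpp) hqq (fun g hg => hg.1.1.2) (fun g hg => hg.2) (fun g hg => hg.1.2) _ hcA
  intro g hg
  have h3 : g ∈ Kp := by rw [hM2]; exact hg.1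
  exact hfix' g h3.1 hg.2

/-! ### Octads meeting the dodecad in four points -/

theorem octad4_unique {d O O' : Finset GolayPt} (hd : d ∈ dodecads) (hO : O ∈ octads) (hO' : O' ∈ octads)
    (h : O ∩ d = O' ∩ d) (h4 : (O ∩ d).card = 4) : O = O' := by
  by_contra hne
  have h1 : 4 ≤ (O ∩ O').card := by
    rw [← h4]
    apply Finset.card_le_card
    intro a ha
    rw [Finset.mem_inter]
    refine ⟨(Finset.mem_inter.1 ha).1, ?_⟩
    rw [h] at ha
    exact (Finset.mem_inter.1 ha).1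
  have h2 : (O ∩ O').card = 4 := by
    rcases octad_inter_cases hO hO' hne with h3 | h3 | h3 <;> omega
  have h3 := card_symmDiff_add O O'
  rw [card_octad hO, card_octad hO', h2] at h3
  have h5 : symmDiff O O' ∈ octads := mem_octads_of_card (symmDiff_mem_supports hO.1 hO'.1) (by omega)
  have h6 := card_inter_dodecad h5 hd
  have h7 : symmDiff O O' ∩ d = ∅ := by
    rw [symmDiff_inter_right, h, symmDiff_self]; rfl
  rw [h7, Finset.card_empty] at h6
  omega

theorem Mst_map5 {d : Finset GolayPt} (hd : d ∈ dodecads) (x y : Fin 5 → GolayPt) (hxD : ∀ i, x i ∈ d)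
    (hyD : ∀ i, y i ∈ d) (hx : Function.Injective x) (hy : Function.Injective y) : ∃ g ∈ Mst d, ∀ i, g (x i) = y i := by
  obtain ⟨g, hg, h⟩ := M12_map hd x y hxD hyD hx hy
  exact ⟨g.1, ⟨g.2, hg⟩, h⟩

theorem inv_of_octad4 {d O : Finset GolayPt} (hd : d ∈ dodecads) (hO : O ∈ octads) (h4 : (O ∩ d).card = 4) :
    ∃ σ ∈ Mst d, fixS σ = O ∧ σ * σ = 1 ∧ σ ≠ 1 := by
  obtain ⟨a, b, c, e, hab, hac, hae, hbc, hbe, hce, hS⟩ := Finset.card_eq_four.1 h4
  have hd4 : ∀ u ∈ ({a, b, c, e} : Finset GolayPt), u ∈ d := fun u hu => by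
    rw [← hS] at hu; exact (Finset.mem_inter.1 hu).2
  -- the pointwise stabilizer
  let N : Subgroup (Equiv.Perm GolayPt) := (((Mst d ⊓ MulAction.stabilizer (Equiv.Perm GolayPt) a) ⊓
    MulAction.stabilizer (Equiv.Perm GolayPt) b) ⊓ MulAction.stabilizer (Equiv.Perm GolayPt) c) ⊓
    MulAction.stabilizer (Equiv.Perm GolayPt) e
  have hN : ∀ g, g ∈ N ↔ (((g ∈ Mst d ∧ g a = a) ∧ g b = b) ∧ g c = c) ∧ g e = e := fun g => Iff.rfl
  obtain ⟨t, ht, hta⟩ : ∃ t ∈ d, t ∉ ({a, b, c, e} : Finset GolayPt) := by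
    by_contra h
    push Not at h
    have h1 := Finset.card_le_card (show d ⊆ {a, b, c, e} from h)
    rw [card_dodecad hd, ← hS, h4] at h1
    omega
  have hinj : ∀ t : GolayPt, t ∉ ({a, b, c, e} : Finset GolayPt) →
      Function.Injective (![a, b, c, e, t] : Fin 5 → GolayPt) := by
    intro t ht
    simp only [Finset.mem_insert, Finset.mem_singleton, not_or] at ht
    obtain ⟨t1, t2, t3, t4⟩ := ht
    intro x y hxy
    fin_cases x <;> fin_cases y <;> simp at hxy ⊢ <;> first | exact absurd hxy ‹_› | exact absurd hxy.symm ‹_›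
  have hmem : ∀ t ∈ d, ∀ i : Fin 5, (![a, b, c, e, t] : Fin 5 → GolayPt) i ∈ d := by
    intro t ht i
    fin_cases i
    · exact hd4 a (by simp)
    · exact hd4 b (by simp)
    · exact hd4 c (by simp)
    · exact hd4 e (by simp)
    · exact ht
  have horb : orbF N t = d \ {a, b, c, e} := by
    ext u
    rw [mem_orbF, Finset.mem_sdiff]
    constructor
    · rintro ⟨g, hg, rfl⟩
      rw [hN] at hg
      refine ⟨(Mst_mem hg.1.1.1.1 t).2 ht, fun h => hta ?_⟩
      simp only [Finset.mem_insert, Finset.mem_singleton] at h ⊢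
      rcases h with h | h | h | h
      · exact Or.inl (g.injective (h.trans hg.1.1.1.2.symm))
      · exact Or.inr (Or.inl (g.injective (h.trans hg.1.1.2.symm)))
      · exact Or.inr (Or.inr (Or.inl (g.injective (h.trans hg.1.2.symm))))
      · exact Or.inr (Or.inr (Or.inr (g.injective (h.trans hg.2.symm))))
    · rintro ⟨hu, hu2⟩
      obtain ⟨g, hg, h⟩ := Mst_map5 hd _ _ (hmem t ht) (hmem u hu) (hinj t hta) (hinj u hu2)
      exact ⟨g, (hN g).2 ⟨⟨⟨⟨hg, h 0⟩, h 1⟩, h 2⟩, h 3⟩, h 4⟩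
  have h8 : (orbF N t).card = 8 := by
    rw [horb, Finset.card_sdiff_of_subset hd4, card_dodecad hd, ← hS, h4]
  have h2 : 2 ∣ Nat.card N := by
    have := card_orbF_dvd N t
    rw [h8] at this
    exact (by norm_num : 2 ∣ 8).trans this
  obtain ⟨σ, hσN, hσ⟩ := exists_order Nat.prime_two h2
  rw [hN] at hσN
  have hσ2 : σ * σ = 1 := by rw [← pow_two, ← hσ]; exact pow_orderOf_eq_one _
  have hσ1 : σ ≠ 1 := by intro h; rw [h, orderOf_one] at hσ; omega
  have hoct := inv_fix_octad hσN.1.1.1.1.1 hσ2 hσ1 hσN.1.1.1.2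
  refine ⟨σ, hσN.1.1.1.1, ?_, hσ2, hσ1⟩
  have hsub : O ∩ d ⊆ fixS σ ∩ d := by
    rw [hS]
    intro u hu
    rw [Finset.mem_inter]
    refine ⟨?_, hd4 u hu⟩
    simp only [Finset.mem_insert, Finset.mem_singleton] at hu
    rw [mem_fixS]
    rcases hu with rfl | rfl | rfl | rfl
    · exact hσN.1.1.1.2
    · exact hσN.1.1.2
    · exact hσN.1.2
    · exact hσN.2
  have h5 : ¬ 5 ≤ (fixS σ ∩ d).card := by
    intro h
    rw [Finset.inter_comm] at h
    exact hσ1 (Mst_unique hd hσN.1.1.1.1 h)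
  have h6 : O ∩ d = fixS σ ∩ d := Finset.eq_of_subset_of_card_le hsub (by omega)
  exact (octad4_unique hd hO hoct h6 h4).symm

theorem octad_of_conj4 {d O : Finset GolayPt} (hd : d ∈ dodecads) (hO : O ∈ octads) (h4 : (O ∩ d).card = 4)
    {π : Equiv.Perm GolayPt} (h : ∀ σ ∈ Mst d, (∀ p ∈ O, σ p = p) → π * σ * π⁻¹ ∈ M24) : π • O ∈ octads := by
  obtain ⟨σ, hσ, hfix, h2, hne⟩ := inv_of_octad4 hd hO h4
  obtain ⟨p, hp⟩ : O.Nonempty := by rw [← Finset.card_pos, card_octad hO]; norm_num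
  rw [← hfix, ← fixS_conj]
  have hσfix : ∀ p ∈ O, σ p = p := fun p hp => mem_fixS.1 (by rw [hfix]; exact hp)
  apply inv_fix_octad (h σ hσ hσfix) (p := π p)
  · have : π * σ * π⁻¹ * (π * σ * π⁻¹) = π * (σ * σ) * π⁻¹ := by group
    rw [this, h2]; group
  · intro h5
    apply hne
    have : σ = π⁻¹ * (π * σ * π⁻¹) * π := by group
    rw [this, h5]; group
  · show π (σ (π⁻¹ (π p))) = π p
    rw [show π⁻¹ (π p) = p from π.symm_apply_apply p, hσfix p hp]

/-- octads through a point of the square dodecad, meeting it in four points, that span the code -/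
def gens11 : List ℕ := [15777, 18147, 52005, 118953, 133817, 153797, 298027, 542009, 1075305, 2115979, 4216883,
  8391797]

def ns11 : List ℕ := [50, 51, 2, 6, 62, 16, 70, 130, 305, 514, 1072, 2048]

theorem gens11_span : codeBasis = ns11.map (lin gens11) := by decide +kernel

theorem gens11_octad : ∀ b ∈ gens11, b < 2 ^ 24 ∧ b ∈ octadList ∧ b.testBit 0 = true ∧ pop (b &&& 340831) = 4 := by
  decide +kernel

theorem squareDodecad_eq : Spor.squareDodecad = ofMask 340831 := support_qrWord 0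

theorem squareDodecad_mem : Spor.squareDodecad ∈ dodecads := by
  rw [squareDodecad_eq]; exact d0_mem

theorem zero_mem_square : (some 0 : GolayPt) ∈ Spor.squareDodecad := by
  rw [squareDodecad_eq, mem_ofMask]; decide

theorem mem_M24_of_octads4 (π : Equiv.Perm GolayPt)
    (h : ∀ s ∈ octads, some 0 ∈ s → (s ∩ Spor.squareDodecad).card = 4 → π • s ∈ octads) : π ∈ M24 := by
  rw [mem_M24_iff]
  apply span_induct (P := fun s => π • s ∈ cS) _ _ gens11 _ ns11 gens11_span
  · rw [Finset.smul_finset_empty]; exact empty_mem_supports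
  · intro s t hs ht
    rw [smul_symmDiff]; exact symmDiff_mem_supports hs ht
  · intro b hb
    obtain ⟨h1, h2, h3, h4⟩ := gens11_octad b hb
    refine (h _ ((ofMask_mem_octads_iff h1).2 h2) (by rw [mem_ofMask]; exact h3) ?_).1
    rw [squareDodecad_eq, ← ofMask_and, card_ofMask, h4]

/-! ### Automorphisms of `M12` -/

theorem sep_same {d : Finset GolayPt} (hd : d ∈ dodecads) {p q : GolayPt} (hp : p ∉ d) (hq : q ∉ d) (hqp : q ≠ p)
    {s : GolayPt} (hs : s ∈ d) : ∃ g ∈ Mst d, g s = s ∧ g p = p ∧ g q ≠ q := by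
  obtain ⟨r, hr, hr1, hr2, -⟩ := exists_mem_ne3 (s := dᶜ) (by rw [card_compl_dod hd]; norm_num) p q q
  rw [Finset.mem_compl] at hr
  obtain ⟨g, hg, h0, h1, h2⟩ := Mst_map2 hd hs hp hq hp hr (Ne.symm hqp) (Ne.symm hr1)
  exact ⟨g, hg, h0, h1, by rw [h2]; exact hr2⟩

theorem sep_Mst {d : Finset GolayPt} (hd : d ∈ dodecads) {p q : GolayPt} (hqp : q ≠ p) :
    ∃ g ∈ Mst d, g p = p ∧ g q ≠ q := by
  have hd' := compl_dodecad hd
  have hne : ∀ {e : Finset GolayPt}, e ∈ dodecads → ∃ s, s ∈ e := by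
    intro e he
    have : e.Nonempty := by rw [← Finset.card_pos, card_dodecad he]; norm_num
    exact this
  by_cases hp : p ∈ d
  · by_cases hq : q ∈ d
    · obtain ⟨s, hs⟩ := hne hd'
      obtain ⟨g, hg, -, h1, h2⟩ := sep_same hd' (p := p) (q := q) (by rw [Finset.mem_compl, not_not]; exact hp)
        (by rw [Finset.mem_compl, not_not]; exact hq) hqp hs
      rw [Mst_compl] at hg
      exact ⟨g, hg, h1, h2⟩
    · obtain ⟨r, hr, hr1, -⟩ := exists_mem_ne3 (s := dᶜ) (by rw [card_compl_dod hd]; norm_num) q q q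
      rw [Finset.mem_compl] at hr
      obtain ⟨g, hg, h1, h2⟩ := Mst_map1 hd hp hq hr
      exact ⟨g, hg, h1, by rw [h2]; exact hr1⟩
  · by_cases hq : q ∈ d
    · obtain ⟨r, hr, hr1, -⟩ := exists_mem_ne3 (s := d) (by rw [card_dodecad hd]; norm_num) q q q
      obtain ⟨g, hg, h1, h2⟩ := Mst_map1 hd' (p := p) (a := q) (a' := r) (Finset.mem_compl.2 hp)
        (by rw [Finset.mem_compl, not_not]; exact hq) (by rw [Finset.mem_compl, not_not]; exact hr)
      rw [Mst_compl] at hg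
      exact ⟨g, hg, h1, by rw [h2]; exact hr1⟩
    · obtain ⟨s, hs⟩ := hne hd
      obtain ⟨g, hg, -, h1, h2⟩ := sep_same hd hp hq hqp hs
      exact ⟨g, hg, h1, h2⟩

theorem Mst_eq_M12 : Mst Spor.squareDodecad = Spor.M12 := rfl

theorem Mst1_eq_M11 : Mst1 Spor.squareDodecad (some 0) = Spor.M11 := rfl

/-- `α` maps the stabilizer of `p` to the stabilizer of `r`. -/
def Im {G : Subgroup (Equiv.Perm GolayPt)} (α : MulAut G) (p r : GolayPt) : Prop :=
  ∀ g : G, (α g).1 r = r ↔ g.1 p = p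

theorem Im.mul {G : Subgroup (Equiv.Perm GolayPt)} {α β : MulAut G} {p r s : GolayPt} (h : Im α p r)
    (h' : Im β r s) : Im (β * α) p s := by
  intro g
  show (β (α g)).1 s = s ↔ _
  rw [h' (α g), h g]

theorem Im.conj {G : Subgroup (Equiv.Perm GolayPt)} {α : MulAut G} {p r : GolayPt} (h : Im α p r) (k : G) :
    Im α (k.1 p) ((α k).1 r) := by
  intro g
  have h1 := h (k⁻¹ * g * k)
  rw [map_mul, map_mul, map_inv] at h1
  have h2 : ((k⁻¹ * g * k : G) : Equiv.Perm GolayPt) p = p ↔ g.1 (k.1 p) = k.1 p := by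
    show k.1⁻¹ (g.1 (k.1 p)) = p ↔ _
    exact Equiv.Perm.inv_eq_iff_eq.trans (by constructor <;> exact fun h => h)
  have h3 : (((α k)⁻¹ * α g * α k : G) : Equiv.Perm GolayPt) r = r ↔ (α g).1 ((α k).1 r) = (α k).1 r := by
    show (α k).1⁻¹ ((α g).1 ((α k).1 r)) = r ↔ _
    exact Equiv.Perm.inv_eq_iff_eq.trans (by constructor <;> exact fun h => h)
  rw [← h3, h1, h2]

theorem exists_Im_M12 {d : Finset GolayPt} (hd : d ∈ dodecads) (α : MulAut (Mst d)) (p : GolayPt) :
    ∃ r, Im α p r := by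
  have hcard : ∀ q, Nat.card (ptStab (Mst d) q) = 7920 := by
    intro q
    rw [card_ptStab]
    by_cases hq : q ∈ d
    · exact card_Mst1 hd hq
    · have h1 := card_Mst1 (compl_dodecad hd) (p := q) (Finset.mem_compl.2 hq)
      unfold Mst1 at h1
      rw [Mst_compl] at h1
      exact h1
  have hcm : Nat.card ((ptStab (Mst d) p).map α.toMonoidHom) = 7920 := by
    rw [Nat.card_congr ((ptStab (Mst d) p).equivMapOfInjective α.toMonoidHom α.injective).toEquiv.symm]
    exact hcard p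
  obtain ⟨r, hr⟩ := fix_of_index12 hd (((ptStab (Mst d) p).map α.toMonoidHom).map (Mst d).subtype)
    (fun g hg => map_sub_le _ hg) (by rw [card_map_sub, hcm])
  refine ⟨r, ?_⟩
  have hle : (ptStab (Mst d) p).map α.toMonoidHom ≤ ptStab (Mst d) r := le_ptStab_of hr
  have heq : (ptStab (Mst d) p).map α.toMonoidHom = ptStab (Mst d) r :=
    Subgroup.eq_of_le_of_card_ge hle (by rw [hcm, hcard r])
  intro g
  rw [← mem_ptStab, ← heq]
  constructor
  · rintro ⟨a, ha, hag⟩
    have : a = g := α.injective hag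
    rw [← this]; exact ha
  · intro h; exact ⟨g, h, rfl⟩

theorem sep_iff {d : Finset GolayPt} (hd : d ∈ dodecads) {p q : GolayPt}
    (h : ∀ g : Mst d, g.1 p = p ↔ g.1 q = q) : p = q := by
  by_contra hne
  obtain ⟨g, hg, h1, h2⟩ := sep_Mst hd (p := p) (q := q) (Ne.symm hne)
  exact h2 ((h ⟨g, hg⟩).1 h1)

theorem Im_unique {d : Finset GolayPt} (hd : d ∈ dodecads) {α : MulAut (Mst d)} {p r r' : GolayPt} (h : Im α p r)
    (h' : Im α p r') : r = r' := by
  apply sep_iff hd
  intro k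
  obtain ⟨g, rfl⟩ := α.surjective k
  rw [h g, h' g]

theorem Im_unique' {d : Finset GolayPt} (hd : d ∈ dodecads) {α : MulAut (Mst d)} {p p' r : GolayPt} (h : Im α p r)
    (h' : Im α p' r) : p = p' := by
  apply sep_iff hd
  intro g
  rw [← h g, ← h' g]

theorem trans_Mst {d : Finset GolayPt} (hd : d ∈ dodecads) {p q : GolayPt} (hp : p ∈ d) (hq : q ∈ d) :
    ∃ k : Mst d, k.1 p = q := by
  obtain ⟨g, hg, h⟩ := mem_orbF.1 (by rw [orbF_Mst hd hp]; exact hq : q ∈ orbF (Mst d) p)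
  exact ⟨⟨g, hg⟩, h⟩

theorem smul_eq_of_mem_iff {d : Finset GolayPt} {π : Equiv.Perm GolayPt} (h : ∀ p, p ∈ d ↔ π p ∈ d) : π • d = d := by
  ext p
  rw [mem_smul_iff, h (π⁻¹ p), show π (π⁻¹ p) = p from π.apply_symm_apply p]

theorem aut_M12_aux (α : MulAut Spor.M12) {p0 r0 : GolayPt} (hp0 : p0 ∈ Spor.squareDodecad)
    (hr0 : r0 ∈ Spor.squareDodecad) (h0 : Im α p0 r0) :
    ∃ π ∈ Spor.M12, ∀ g : Spor.M12, ((α g : Spor.M12) : Equiv.Perm GolayPt) = π * g * π⁻¹ := by
  have hd := squareDodecad_mem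
  obtain ⟨π, -, hπR, hπ⟩ := perm_of_key (Mst Spor.squareDodecad) ∅ (fun _ _ _ h => absurd h (Set.notMem_empty _))
    α (fun p q => p ∈ Spor.squareDodecad ↔ q ∈ Spor.squareDodecad)
    (by
      intro p _
      obtain ⟨r, hr⟩ := exists_Im_M12 hd α p
      refine ⟨r, Set.notMem_empty _, ?_, hr⟩
      constructor
      · intro hp
        obtain ⟨k, hk⟩ := trans_Mst hd hp0 hp
        have h1 := Im.conj h0 k
        have h1' : Im α p ((α k).1 r0) := by
          have h2 : k.1 p0 = p := hk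
          rw [← h2]; exact h1
        have h2 : r = (α k).1 r0 := Im_unique hd hr h1'
        rw [h2]; exact (Mst_mem (α k).2 r0).2 hr0
      · intro hrd
        obtain ⟨k', hk'⟩ := trans_Mst hd hr0 hrd
        obtain ⟨k, rfl⟩ := α.surjective k'
        have h1 : Im α (k.1 p0) ((α k).1 r0) := Im.conj h0 k
        have h1' : Im α (k.1 p0) r := by
          have h2 : (α k).1 r0 = r := hk'
          rw [h2] at h1; exact h1
        have h2 : p = k.1 p0 := Im_unique' hd hr h1'
        rw [h2]; exact (Mst_mem k.2 p0).2 hp0)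
    (fun p _ q _ h => sep_iff hd h)
  have hπd : π • Spor.squareDodecad = Spor.squareDodecad := smul_eq_of_mem_iff (fun p => hπR p (Set.notMem_empty _))
  refine ⟨π, ⟨?_, hπd⟩, hπ⟩
  apply mem_M24_of_octads4
  intro s hs _ h4
  apply octad_of_conj4 hd hs h4
  intro σ hσ _
  have h1 := hπ ⟨σ, hσ⟩
  have h2 : ((⟨σ, hσ⟩ : Mst Spor.squareDodecad) : Equiv.Perm GolayPt) = σ := rfl
  rw [h2] at h1
  rw [← h1]
  exact (α _).2.1

theorem final_2061 : Nat.card (Out Spor.M12) = 2 := by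
  show (Inn Spor.M12).index = 2
  have hd := squareDodecad_mem
  rw [Subgroup.index_eq_two_iff']
  obtain ⟨ρ, hρ, hρd⟩ := M24_dodecad_transitive hd (compl_dodecad hd)
  have hρ1 : ∀ p, ρ p ∈ Spor.squareDodecad ↔ p ∉ Spor.squareDodecad := by
    intro p
    have h1 : ρ p ∈ Spor.squareDodecadᶜ ↔ p ∈ Spor.squareDodecad := by
      rw [← hρd, mem_smul_iff, show ρ⁻¹ (ρ p) = p from ρ.symm_apply_apply p]
    rw [Finset.mem_compl] at h1
    tauto
  have hρ2 : ∀ p, ρ⁻¹ p ∈ Spor.squareDodecad ↔ p ∉ Spor.squareDodecad := by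
    intro p
    have h1 := hρ1 (ρ⁻¹ p)
    rw [show ρ (ρ⁻¹ p) = p from ρ.apply_symm_apply p] at h1
    tauto
  have hmem : ∀ g ∈ Mst Spor.squareDodecad, ρ * g * ρ⁻¹ ∈ Mst Spor.squareDodecad := by
    intro g hg
    refine ⟨M24.mul_mem (M24.mul_mem hρ hg.1) (M24.inv_mem hρ), smul_eq_of_mem_iff (fun p => ?_)⟩
    show p ∈ Spor.squareDodecad ↔ ρ (g (ρ⁻¹ p)) ∈ Spor.squareDodecad
    rw [hρ1, Mst_mem hg, hρ2, not_not]
  have hmem' : ∀ g ∈ Mst Spor.squareDodecad, ρ⁻¹ * g * ρ ∈ Mst Spor.squareDodecad := by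
    intro g hg
    refine ⟨M24.mul_mem (M24.mul_mem (M24.inv_mem hρ) hg.1) hρ, smul_eq_of_mem_iff (fun p => ?_)⟩
    show p ∈ Spor.squareDodecad ↔ ρ⁻¹ (g (ρ p)) ∈ Spor.squareDodecad
    rw [hρ2, Mst_mem hg, hρ1, not_not]
  let β : MulAut Spor.M12 :=
    { toFun := fun g => ⟨ρ * g.1 * ρ⁻¹, hmem g.1 g.2⟩
      invFun := fun g => ⟨ρ⁻¹ * g.1 * ρ, hmem' g.1 g.2⟩
      left_inv := fun g => Subtype.ext (by
        show ρ⁻¹ * (ρ * g.1 * ρ⁻¹) * ρ = g.1
        group)
      right_inv := fun g => Subtype.ext (by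
        show ρ * (ρ⁻¹ * g.1 * ρ) * ρ⁻¹ = g.1
        group)
      map_mul' := fun g h => Subtype.ext (by
        show ρ * (g.1 * h.1) * ρ⁻¹ = (ρ * g.1 * ρ⁻¹) * (ρ * h.1 * ρ⁻¹)
        group) }
  have hβIm : ∀ p, Im β p (ρ p) := by
    intro p g
    show ρ (g.1 (ρ⁻¹ (ρ p))) = ρ p ↔ _
    rw [show ρ⁻¹ (ρ p) = p from ρ.symm_apply_apply p, ρ.injective.eq_iff]
  have hβout : β ∉ Inn Spor.M12 := by
    rintro ⟨h, hh⟩
    have h1 : Im β (some 0) (h.1 (some 0)) := by
      intro g
      rw [← hh]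
      show h.1 (g.1 (h.1⁻¹ (h.1 (some 0)))) = h.1 (some 0) ↔ _
      rw [show h.1⁻¹ (h.1 (some 0)) = some 0 from h.1.symm_apply_apply _, h.1.injective.eq_iff]
    have h2 : ρ (some 0) = h.1 (some 0) := Im_unique hd (hβIm (some 0)) h1
    have h3 : h.1 (some 0) ∈ Spor.squareDodecad := (Mst_mem h.2 _).2 zero_mem_square
    rw [← h2] at h3
    exact (hρ1 _).1 h3 zero_mem_square
  refine ⟨β, fun γ => ?_⟩
  obtain ⟨r, hr⟩ := exists_Im_M12 hd γ (some 0)
  by_cases hrd : r ∈ Spor.squareDodecad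
  · obtain ⟨π, hπ, h1⟩ := aut_M12_aux γ zero_mem_square hrd hr
    have hin : γ ∈ Inn Spor.M12 := mem_inn_of_perm hπ h1
    right
    refine ⟨hin, fun h => hβout ?_⟩
    have h3 := Subgroup.mul_mem _ h (Subgroup.inv_mem _ hin)
    rwa [mul_inv_cancel_right] at h3
  · obtain ⟨π, hπ, h1⟩ := aut_M12_aux (β * γ) zero_mem_square ((hρ1 r).2 hrd) (Im.mul hr (hβIm r))
    have hin : β * γ ∈ Inn Spor.M12 := mem_inn_of_perm hπ h1
    left
    refine ⟨hin, fun h => hβout ?_⟩
    have h3 := Subgroup.mul_mem _ hin (Subgroup.inv_mem _ h)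
    rwa [mul_inv_cancel_right] at h3

end Cfsg.Agent.H90
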