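import Cfsg.Agent.H90.CoTrans

/-!
# Transfer of the order of the outer automorphism group (owner: helper90)
-/

set_option autoImplicit false

namespace Cfsg.Agent.H90.Co

open Cfsg

theorem card_out_congr {G H : Type*} [Group G] [Group H] (e : G ≃* H) : Nat.card (Out G) = Nat.card (Out H) := by
  show (Inn G).index = (Inn H).index
  have h1 : (Inn G).map (MulAut.congr e).toMonoidHom = Inn H := by
    ext β
    constructor
    · rintro ⟨_, ⟨g, rfl⟩, rfl⟩
      refine ⟨e g, ?_⟩
      ext x
      show e g * x * (e g)⁻¹ = e (g * e.symm x * g⁻¹)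
      rw [map_mul, map_mul, MulEquiv.apply_symm_apply, map_inv]
    · rintro ⟨h, rfl⟩
      refine ⟨MulAut.conj (e.symm h), ⟨_, rfl⟩, ?_⟩
      ext x
      show e (e.symm h * e.symm x * (e.symm h)⁻¹) = h * x * h⁻¹
      rw [map_mul, map_mul, MulEquiv.apply_symm_apply, map_inv, MulEquiv.apply_symm_apply, MulEquiv.apply_symm_apply]
  rw [← h1]
  exact (Subgroup.index_map_equiv (Inn G) (MulAut.congr e)).symm

end Cfsg.Agent.H90.Co
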