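import Cfsg.Agent.H90.Extraspecial

/-!
# The squaring and commutator forms of an extraspecial 2-subgroup, with values in `ZMod 2` (owner: helper90)
-/

set_option autoImplicit false

namespace Cfsg.Agent.H90

open Cfsg

/-- 0 if `x ^ 2 = 1`, 1 otherwise -/
noncomputable def qf {G : Type*} [Group G] (x : G) : ZMod 2 := by
  classical exact if x * x = 1 then 0 else 1

/-- 0 if `x`, `y` commute, 1 otherwise -/
noncomputable def bf {G : Type*} [Group G] (x y : G) : ZMod 2 := by
  classical exact if x * y = y * x then 0 else 1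

section
variable {G : Type*} [Group G] {Q : Subgroup G} {z : G}

theorem qf_eq_zero {x : G} : qf x = 0 ↔ x * x = 1 := by
  unfold qf; split_ifs with h <;> simp [h]

theorem bf_eq_zero {x y : G} : bf x y = 0 ↔ x * y = y * x := by
  unfold bf; split_ifs with h <;> simp [h]

theorem eq_of_zero_iff {a b : ZMod 2} (h : a = 0 ↔ b = 0) : a = b := by
  revert h; revert a b; decide

theorem qf_conj (x g : G) : qf (g * x * g⁻¹) = qf x := by
  apply eq_of_zero_iff
  rw [qf_eq_zero, qf_eq_zero]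
  have : g * x * g⁻¹ * (g * x * g⁻¹) = g * (x * x) * g⁻¹ := by group
  rw [this, mul_inv_eq_one]
  constructor
  · intro h; exact mul_left_cancel (a := g) (by rw [h, mul_one])
  · intro h; rw [h, mul_one]

theorem XS.pw (h : XS Q z) (a : ZMod 2) (b : ZMod 2) : z ^ a.val * z ^ b.val = z ^ (a + b).val := by
  revert a b
  intro a b
  have h2 : z ^ 2 = 1 := by rw [pow_two]; exact h.sq
  fin_cases a <;> fin_cases b
  · show z ^ 0 * z ^ 0 = z ^ 0; simp
  · show z ^ 0 * z ^ 1 = z ^ 1; simp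
  · show z ^ 1 * z ^ 0 = z ^ 1; simp
  · show z ^ 1 * z ^ 1 = z ^ 0; rw [← pow_add, h2, pow_zero]

theorem XS.pw_inj (h : XS Q z) {a b : ZMod 2} (hab : z ^ a.val = z ^ b.val) : a = b := by
  have h1 := h.ne_one
  fin_cases a <;> fin_cases b
  · rfl
  · have h2 : z ^ 0 = z ^ 1 := hab
    exact absurd (by simpa using h2.symm) h1
  · have h2 : z ^ 1 = z ^ 0 := hab
    exact absurd (by simpa using h2) h1
  · rfl

theorem XS.qf_spec (h : XS Q z) {x : G} (hx : x ∈ Q) : x * x = z ^ (qf x).val := by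
  rcases h.sqr hx with h1 | h1
  · have : qf x = 0 := qf_eq_zero.2 h1
    rw [this, h1]; simp
  · have : qf x = 1 := by
      unfold qf; rw [if_neg]; rw [h1]; exact h.ne_one
    rw [this, h1]
    show z = z ^ 1
    rw [pow_one]

theorem XS.bf_spec (h : XS Q z) {x y : G} (hx : x ∈ Q) (hy : y ∈ Q) :
    x * y = z ^ (bf x y).val * (y * x) := by
  rcases h.comm x hx y hy with h1 | h1
  · have : bf x y = 0 := bf_eq_zero.2 h1
    rw [this, h1]; simp
  · have : bf x y = 1 := by
      unfold bf; rw [if_neg]; rw [h1]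
      intro h2
      exact h.ne_one (mul_right_cancel (b := y * x) (by rw [h2, one_mul]))
    rw [this, h1]
    show _ = z ^ 1 * _
    rw [pow_one]

theorem XS.cen (h : XS Q z) {x : G} (hx : x ∈ Q) (n : ℕ) : x * z ^ n = z ^ n * x := by
  have h1 : Commute x z := h.central x hx
  exact (h1.pow_right n)

theorem XS.qf_mul (h : XS Q z) {x y : G} (hx : x ∈ Q) (hy : y ∈ Q) :
    qf (x * y) = qf x + qf y + bf y x := by
  apply h.pw_inj
  rw [← h.qf_spec (Q.mul_mem hx hy), ← h.pw, ← h.pw, ← h.qf_spec hx, ← h.qf_spec hy]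
  calc x * y * (x * y) = x * (y * x) * y := by group
    _ = x * (z ^ (bf y x).val * (x * y)) * y := by rw [h.bf_spec hy hx]
    _ = (x * z ^ (bf y x).val) * x * (y * y) := by group
    _ = (z ^ (bf y x).val * x) * x * (y * y) := by rw [h.cen hx]
    _ = z ^ (bf y x).val * (x * x * (y * y)) := by group
    _ = x * x * (y * y) * z ^ (bf y x).val :=
        (h.cen (Q.mul_mem (Q.mul_mem hx hx) (Q.mul_mem hy hy)) _).symm

theorem XS.bf_symm (h : XS Q z) (x y : G) : bf x y = bf y x := by
  have _ := h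
  apply eq_of_zero_iff
  rw [bf_eq_zero, bf_eq_zero]
  exact ⟨Eq.symm, Eq.symm⟩

theorem XS.bf_mul (h : XS Q z) {x y w : G} (hx : x ∈ Q) (hy : y ∈ Q) (hw : w ∈ Q) :
    bf (x * y) w = bf x w + bf y w := by
  apply h.pw_inj
  rw [← h.pw]
  apply mul_right_cancel (b := w * (x * y))
  rw [← h.bf_spec (Q.mul_mem hx hy) hw]
  calc x * y * w = x * (y * w) := by group
    _ = x * (z ^ (bf y w).val * (w * y)) := by rw [h.bf_spec hy hw]
    _ = (x * z ^ (bf y w).val) * (w * y) := by group
    _ = z ^ (bf y w).val * (x * w) * y := by rw [h.cen hx]; group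
    _ = z ^ (bf y w).val * (z ^ (bf x w).val * (w * x)) * y := by rw [h.bf_spec hx hw]
    _ = (z ^ (bf y w).val * z ^ (bf x w).val) * (w * (x * y)) := by group
    _ = (z ^ (bf x w).val * z ^ (bf y w).val) * (w * (x * y)) := by
        rw [h.pw, h.pw, add_comm]

theorem XS.qf_mul_z (h : XS Q z) {x c : G} (hx : x ∈ Q) (hc : c = 1 ∨ c = z) : qf (x * c) = qf x := by
  rcases hc with rfl | rfl
  · rw [mul_one]
  · rw [h.qf_mul hx h.mem, bf_eq_zero.2 (h.central x hx).symm, qf_eq_zero.2 h.sq]; simp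

theorem XS.bf_mul_z (h : XS Q z) {x y c : G} (hx : x ∈ Q) (hy : y ∈ Q) (hc : c = 1 ∨ c = z) :
    bf (x * c) y = bf x y := by
  rcases hc with rfl | rfl
  · rw [mul_one]
  · rw [h.bf_mul hx h.mem hy, bf_eq_zero.2 (h.central y hy).symm, add_zero]

end

end Cfsg.Agent.H90
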