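import Cfsg.Agent.H90.Sift2Sift

/-!
Kernel-checked solution of conjugation equations in permutation groups, second engine: assembly (owner: helper90).
-/

set_option autoImplicit false

namespace Cfsg.Agent.H90.Sift2

open Cfsg.Agent.CosetEnum Cfsg.Agent.H90.Sift Subgroup

local notation "sel(" c ", " a ", " b ")" => @Bool.rec (fun _ => Bool) b a c
local notation "selN(" c ", " a ", " b ")" => @Bool.rec (fun _ => Nat) b a c

/-- the old letters as words in the new ones, on the base -/
noncomputable def genB (P Q : Par) (ws : List (Nat × Nat)) (bs : List Nat) : Bool :=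
  @List.rec (Nat × Nat) (fun _ => Bool) true (fun t _ ih => sel(eqB (act Q t.1) (run P t.2) bs, ih, false)) ws

/-- products of the first old letter with the others as words in the new letters, on the base -/
noncomputable def genB2 (P Q : Par) (ws : List (Nat × Nat)) (bs : List Nat) : Bool :=
  @List.rec (Nat × Nat) (fun _ => Bool) true (fun t _ ih =>
    sel(eqB (fun b => forceN (act Q 1 b) (act Q t.1)) (run P t.2) bs, ih, false)) ws

/-- the words of a list do not solve the equation -/
noncomputable def filC (X Y : Nat → Nat) (m : Nat) (r : Nat → Nat → Nat) (gp : List (Nat × Nat)) : Bool :=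
  @List.rec (Nat × Nat) (fun _ => Bool) true (fun t _ ih => sel(Nat.ble m t.2, false,
    sel(Nat.beq (forceN (X t.2) (r t.1)) (forceN (r t.1 t.2) Y), false, ih))) gp

section

variable {G : Type*} [Group G] {P Q : Par} [MulAction G (Fin P.m)]

theorem is_run {g : ℕ → G} (h : RA P g) (w : ℕ) : Is P (run P w) (elt g w) := fun i => run_sound h w i

theorem is_act {g : ℕ → G} (h : RA P g) {x : ℕ} (hx : x < 8) : Is P (act P x) (g x) := fun i => (h x hx i).symm

theorem genB_sound {g f : ℕ → G} (h : RA P g) {ws : List (ℕ × ℕ)} (hQ : ∀ t ∈ ws, Is P (act Q t.1) (f t.1))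
    {l : List (ℕ × ℕ × ℕ)} (hx : ExP G P l []) (hc : genB P Q ws (l.map fun t => t.1) = true) :
    ∀ t ∈ ws, f t.1 = elt g t.2 := by
  induction ws with
  | nil => simp
  | cons t ws ih =>
    obtain ⟨h1, h2⟩ := sel_true_left (show sel(eqB (act Q t.1) (run P t.2) (l.map fun t => t.1),
      genB P Q ws (l.map fun t => t.1), false) = true from hc)
    intro s hs
    rcases List.mem_cons.1 hs with rfl | hs
    · exact eq_of_eqB hx h1 (fun i => hQ s (by simp) i) (fun i => run_sound h s.2 i)
    · exact ih (fun t ht => hQ t (by simp [ht])) h2 s hs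

theorem genB2_sound {g f : ℕ → G} (h : RA P g) {ws : List (ℕ × ℕ)} (hQ1 : Is P (act Q 1) (f 1))
    (hQ : ∀ t ∈ ws, Is P (act Q t.1) (f t.1))
    {l : List (ℕ × ℕ × ℕ)} (hx : ExP G P l []) (hc : genB2 P Q ws (l.map fun t => t.1) = true) :
    ∀ t ∈ ws, f 1 * f t.1 = elt g t.2 := by
  induction ws with
  | nil => simp
  | cons t ws ih =>
    obtain ⟨h1, h2⟩ := sel_true_left (show sel(eqB (fun b => forceN (act Q 1 b) (act Q t.1)) (run P t.2)
      (l.map fun t => t.1), genB2 P Q ws (l.map fun t => t.1), false) = true from hc)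
    intro s hs
    rcases List.mem_cons.1 hs with rfl | hs
    · refine eq_of_eqB hx h1 (fun i => ?_) (fun i => run_sound h s.2 i)
      rw [forceN_eq]
      exact Is.comp hQ1 (hQ s (by simp)) i
    · exact ih (fun t ht => hQ t (by simp [ht])) h2 s hs

theorem gen_top {g f : ℕ → G} (h : LettersOK P g) {ws : List (ℕ × ℕ)} {ng : ℕ}
    (hQ : ∀ t ∈ ws, Is P (act Q t.1) (f t.1)) {l : List (ℕ × ℕ × ℕ)} (hx : ExP G P l [])
    (hc : genB P Q ws (l.map fun t => t.1) = true) (hcov : ∀ j, isLet ng j = true → j ∈ ws.map Prod.fst)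
    (htop : Cl f ng = ⊤) : closure ({g 1, g 3, g 5} : Set G) = ⊤ := by
  rw [eq_top_iff, ← htop]
  unfold Cl
  rw [closure_le]
  rintro _ ⟨j, hj, rfl⟩
  obtain ⟨t, ht, rfl⟩ := List.mem_map.1 (hcov j hj)
  rw [SetLike.mem_coe, genB_sound h.ra hQ hx hc t ht]
  exact elt_mem h.mem _

theorem filC_sound {X Y : ℕ → ℕ} {x y : G} (hX : Is P X x) (hY : Is P Y y) {r : ℕ → ℕ → ℕ} {er : ℕ → G}
    (hr : ∀ w, Is P (r w) (er w)) {gp : List (ℕ × ℕ)} (hc : filC X Y P.m r gp = true) :
    ∀ w ∈ gp.map Prod.fst, x * er w ≠ er w * y := by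
  induction gp with
  | nil => simp
  | cons t gp ih =>
    obtain ⟨h1, h2⟩ := sel_true_right (show sel(Nat.ble P.m t.2, false,
      sel(Nat.beq (forceN (X t.2) (r t.1)) (forceN (r t.1 t.2) Y), false, filC X Y P.m r gp)) = true
      from hc)
    obtain ⟨h3, h4⟩ := sel_true_right h2
    intro w hw
    rw [List.map_cons] at hw
    rcases List.mem_cons.1 hw with rfl | hw
    · intro h5
      apply beq_false h3
      rw [forceN_eq, forceN_eq]
      have h6 := Is.comp hX (hr t.1) (⟨t.2, ble_false h1⟩ : Fin P.m)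
      have h7 := Is.comp (hr t.1) hY (⟨t.2, ble_false h1⟩ : Fin P.m)
      rw [h5] at h6
      exact h6.trans h7.symm
    · exact ih h4 w hw

/-- removal of spurious solutions -/
theorem ptok_filter {x y : G} {gs os : Set G} {b i : ℕ} (h : PtOK P x y (gs ∪ os) b i)
    (ho : ∀ z ∈ os, x * z ≠ z * y) : PtOK P x y gs b i := by
  rcases h with h | h
  · exact Or.inl h
  · refine Or.inr fun z hz hb => ?_
    rcases h z hz hb with h1 | h1
    · exact h1
    · exact absurd hz (ho z h1)

theorem pow_inv_of {u : G} {n s e q : ℕ} (hn : u ^ n = 1) (he : s * e = n * q + 1) : (u ^ s) ^ e = u := by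
  rw [← pow_mul, he, pow_add, pow_mul, hn, one_pow, one_mul, pow_one]

end

end Cfsg.Agent.H90.Sift2
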