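import Cfsg.Agent.H90.Sift2Main

/-!
Kernel-checked solution of conjugation equations in permutation groups, second engine: the kernel of a sign character
(owner: helper90).
-/

set_option autoImplicit false

namespace Cfsg.Agent.H90.Sift2

open Cfsg.Agent.CosetEnum Cfsg.Agent.H90.Sift Subgroup

/-- parity of a coded word: `true` if the number of digits `≤ ny` is odd -/
def oddD (s k ny : ℕ) : ℕ → ℕ → Bool
  | 0, _ => false
  | n + 1, c => if Nat.beq (Nat.land c k) 0 = true then false else
      Bool.xor (Nat.ble (Nat.land c k) ny) (oddD s k ny n (Nat.shiftRight c s))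

/-- all words of a list are odd -/
def allOdd (s k ny : ℕ) (l : List ℕ) : Bool := l.all fun c => oddD s k ny 1000 c

local notation "sel(" c ", " a ", " b ")" => @Bool.rec (fun _ => Bool) b a c

/-- products of the first old letter with the others as products of words in the new letters, on the base -/
noncomputable def genB3 (P Q : Par) (ws : List (Nat × List Nat)) (bs : List Nat) : Bool :=
  @List.rec (Nat × List Nat) (fun _ => Bool) true (fun t _ ih =>
    sel(eqB (fun b => forceN (act Q 1 b) (act Q t.1)) (runL P (fun c => c) t.2) bs, ih, false)) ws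

theorem genB3_sound {G : Type*} [Group G] {P Q : Par} [MulAction G (Fin P.m)] {g f : ℕ → G} (h : RA P g)
    {ws : List (ℕ × List ℕ)} (hQ1 : Is P (act Q 1) (f 1)) (hQ : ∀ t ∈ ws, Is P (act Q t.1) (f t.1))
    {l : List (ℕ × ℕ × ℕ)} (hx : ExP G P l []) (hc : genB3 P Q ws (l.map fun t => t.1) = true) :
    ∀ t ∈ ws, f 1 * f t.1 = (t.2.map fun c => elt g c).prod := by
  induction ws with
  | nil => simp
  | cons t ws ih =>
    obtain ⟨h1, h2⟩ := sel_true_left (show sel(eqB (fun b => forceN (act Q 1 b) (act Q t.1))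
      (runL P (fun c => c) t.2) (l.map fun t => t.1), genB3 P Q ws (l.map fun t => t.1), false) = true from hc)
    intro s hs
    rcases List.mem_cons.1 hs with rfl | hs
    · refine eq_of_eqB hx h1 (fun i => ?_) (fun i => runL_sound h s.2 i)
      rw [forceN_eq]
      exact Is.comp hQ1 (hQ s (by simp)) i
    · exact ih (fun t ht => hQ t (by simp [ht])) h2 s hs

section

variable {G : Type*} [Group G]

theorem sgn_wordE {σ : G →* ℤˣ} {f : ℕ → G} {ny nl : ℕ} (hσ : ∀ d, d ≠ 0 → d ≤ ny → σ (f d) = -1) {y : G}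
    (hy : σ y = 1) (hn : ny ≤ nl) (s k n c : ℕ) :
    σ (wordE (mixE f ny y) s k nl n c) = if oddD s k ny n c = true then -1 else 1 := by
  induction n generalizing c with
  | zero => simp [wordE, oddD]
  | succ n ih =>
    rw [wordE, oddD]
    by_cases h0 : Nat.beq (Nat.land c k) 0 = true
    · rw [if_pos h0, if_pos h0, map_one]
      simp
    · rw [if_neg h0, if_neg h0, map_mul, ih]
      have hne : Nat.land c k ≠ 0 := fun h => h0 (by rw [h]; rfl)
      by_cases h1 : Nat.ble (Nat.land c k) ny = true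
      · have h2 : Nat.land c k ≤ ny := Nat.le_of_ble_eq_true h1
        have h3 : Nat.ble (Nat.land c k) nl = true := Nat.ble_eq_true_of_le (h2.trans hn)
        rw [if_pos h3, mixE, if_pos h1, hσ _ hne h2, h1]
        cases oddD s k ny n (Nat.shiftRight c s) <;> simp
      · have h1' : Nat.ble (Nat.land c k) ny = false := by
          cases hb : Nat.ble (Nat.land c k) ny
          · rfl
          · exact absurd hb h1
        have h4 : σ (if Nat.ble (Nat.land c k) nl = true then mixE f ny y (Nat.land c k) else 1) = 1 := by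
          split_ifs with h5
          · rw [mixE, if_neg h1]
            split_ifs
            · exact hy
            · rw [map_inv, hy, inv_one]
          · exact map_one σ
        rw [h4, h1', one_mul]
        simp

theorem sgn_prod {σ : G →* ℤˣ} {f : ℕ → G} {ny : ℕ} (hσ : ∀ d, d ≠ 0 → d ≤ ny → σ (f d) = -1) {w : List ℕ}
    (hw : ∀ d ∈ w, d ≠ 0 ∧ d ≤ ny) : σ ((w.map f).prod) = (-1) ^ w.length := by
  induction w with
  | nil => simp
  | cons a w ih =>
    rw [List.map_cons, List.prod_cons, map_mul, ih (fun d hd => hw d (by simp [hd])), hσ a (hw a (by simp)).1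
      (hw a (by simp)).2, List.length_cons, pow_succ']

variable {P : Par} [MulAction G (Fin P.m)] (K : Subgroup G)

theorem _root_.Cfsg.Agent.H90.Sift.ExP.sub {l : List (ℕ × ℕ × ℕ)} {F : List ℕ} (h : ExP G P l F) : ExP K P l F := by
  induction l generalizing F with
  | nil => exact fun k hk => Subtype.ext (h (k : G) (fun c hc => hk c hc))
  | cons t l ih =>
    obtain ⟨⟨h1, h2⟩, h3⟩ := h
    exact ⟨⟨h1, fun k hk b hb => h2 (k : G) (fun c hc => hk c hc) b hb⟩, ih h3⟩

variable {K}

theorem _root_.Cfsg.Agent.H90.Sift.PtOK.sub {x y : G} {x' y' : K} (hx : (x' : G) = x) (hy : (y' : G) = y)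
    {gs : Set G} {gs' : Set K} (hgs : ∀ z : K, (z : G) ∈ gs → z ∈ gs') {b i : ℕ} (h : PtOK P x y gs b i) :
    PtOK P x' y' gs' b i := by
  subst hx; subst hy
  rcases h with ⟨j, hj⟩ | h
  · refine Or.inl ⟨j, fun i' hi' => ?_⟩
    have h1 := hj i' hi'
    have h2 : ((y' : G) ^ j)⁻¹ • i' = ((y' ^ j)⁻¹ : K) • i' := by
      rw [Subgroup.smul_def]
      simp
    rw [h2] at h1
    exact h1
  · exact Or.inr fun z hz hb => hgs z (h (z : G) (congrArg Subtype.val hz) (fun b' hb' => hb b' hb'))

theorem elt_sub {g : ℕ → G} {g' : ℕ → K} (hg : ∀ x, ((g' x : K) : G) = g x) (c : ℕ) :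
    ((elt g' c : K) : G) = elt g c := by
  have h : ∀ n c, ((eltF g' n c : K) : G) = eltF g n c := by
    intro n
    induction n with
    | zero => intro c; rfl
    | succ n ih =>
      intro c
      rw [eltF, eltF]
      split_ifs
      · rfl
      · rw [Subgroup.coe_mul, hg, ih]
  exact h 1000 c

theorem letters_sub {g : ℕ → G} {g' : ℕ → K} (hg : ∀ x, ((g' x : K) : G) = g x) (h : LettersOK P g) :
    LettersOK P g' where
  ra x hx i := by
    rw [← h.ra x hx i, Subgroup.smul_def]
    simp [hg]
  h0 := Subtype.ext (by rw [hg, h.h0]; rfl)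
  h7 := Subtype.ext (by rw [hg, h.h7]; rfl)
  h2 := Subtype.ext (by rw [hg, h.h2, Subgroup.coe_inv, hg])
  h4 := Subtype.ext (by rw [hg, h.h4, Subgroup.coe_inv, hg])
  h6 := Subtype.ext (by rw [hg, h.h6, Subgroup.coe_inv, hg])

/-- the kernel of the sign is generated by the new letters -/
theorem par_top {σ : G →* ℤˣ} (hK : ∀ z, z ∈ K ↔ σ z = 1) {f g : ℕ → G} {g' : ℕ → K}
    (hg : ∀ x, ((g' x : K) : G) = g x) {ny : ℕ} (hf : ∀ d, isLet ny d = true → f d * f d = 1) (h1 : σ (f 1) = -1)
    {a b c : ℕ} (hgen : ∀ d, isLet ny d = true → f 1 * f d ∈ closure ({g a, g b, g c} : Set G))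
    (htop : Cl f ny = ⊤) : closure ({g' a, g' b, g' c} : Set K) = ⊤ := by
  set H := closure ({g a, g b, g c} : Set G) with hH
  have hHK : H ≤ K := by
    rw [hH, closure_le]
    rintro z hz
    simp only [Set.mem_insert_iff, Set.mem_singleton_iff] at hz
    rcases hz with rfl | rfl | rfl
    · rw [← hg]; exact (g' a).2
    · rw [← hg]; exact (g' b).2
    · rw [← hg]; exact (g' c).2
  have key : ∀ z : G, ∀ w : G, (w ∈ H ∨ f 1 * w ∈ H) ↔ (z * w ∈ H ∨ f 1 * (z * w) ∈ H) := by
    have step : ∀ d, isLet ny d = true → ∀ w : G, (w ∈ H ∨ f 1 * w ∈ H) → (f d * w ∈ H ∨ f 1 * (f d * w) ∈ H) := by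
      intro d hd w hw
      rcases hw with hw | hw
      · right
        rw [← mul_assoc]
        exact H.mul_mem (hgen d hd) hw
      · left
        have h2 := H.mul_mem (H.inv_mem (hgen d hd)) hw
        have h3 : (f 1 * f d)⁻¹ * (f 1 * w) = f d * w := by
          have h4 : (f d)⁻¹ = f d := inv_eq_of_mul_eq_one_left (hf d hd)
          rw [mul_inv_rev, h4]
          group
        rwa [h3] at h2
    have : ∀ z ∈ Cl f ny, ∀ w : G, (w ∈ H ∨ f 1 * w ∈ H) ↔ (z * w ∈ H ∨ f 1 * (z * w) ∈ H) := by
      intro z hz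
      unfold Cl at hz
      induction hz using Subgroup.closure_induction with
      | mem z hz =>
        obtain ⟨d, hd, rfl⟩ := hz
        intro w
        refine ⟨step d hd w, fun h => ?_⟩
        have h2 := step d hd (f d * w) h
        rwa [← mul_assoc, hf d hd, one_mul] at h2
      | one => intro w; rw [one_mul]
      | mul z z' _ _ ih ih' =>
        intro w
        rw [ih' w, ih (z' * w), mul_assoc]
      | inv z _ ih =>
        intro w
        have h2 := ih (z⁻¹ * w)
        rw [mul_inv_cancel_left] at h2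
        exact h2.symm
    intro z
    exact this z (by rw [htop]; exact mem_top z)
  have hKH : K ≤ H := by
    intro z hz
    have h2 := (key z 1).1 (Or.inl H.one_mem)
    rw [mul_one] at h2
    rcases h2 with h2 | h2
    · exact h2
    · exfalso
      have h3 := (hK _).1 (hHK h2)
      rw [map_mul, h1, (hK z).1 hz] at h3
      exact absurd h3 (by decide)
  rw [eq_top_iff]
  intro z _
  have h2 : (closure ({g' a, g' b, g' c} : Set K)).map K.subtype = H := by
    rw [MonoidHom.map_closure, hH]
    congr 1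
    simp [Set.image_insert_eq, hg]
  have h3 : (z : G) ∈ (closure ({g' a, g' b, g' c} : Set K)).map K.subtype := by
    rw [h2]
    exact hKH z.2
  obtain ⟨w, hw, hwz⟩ := h3
  have h4 : w = z := Subtype.ext hwz
  rwa [← h4]

/-- the outer automorphism group of the kernel of the sign -/
theorem par_two [Finite G] {σ : G →* ℤˣ} (hK : ∀ z, z ∈ K ↔ σ z = 1) {g : ℕ → G} {g' : ℕ → K}
    (hg : ∀ x, ((g' x : K) : G) = g x) {bA : ℕ} (hbA : bA < P.m)
    (sA : ∀ i < P.m, PtOK P (elt g 1) (elt g 1) {z | ∃ w ∈ [0], z = elt g w} bA i) {u v y' v' : K} {B : Prop}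
    (hc : Concl K (g' 1) u v y' v' B) (hS : closure ({g' 1, u, v} : Set K) = ⊤) {t : G} (ht : σ t = -1) :
    Nat.card (Cfsg.Out K) = 2 := by
  have hn : K.Normal := by
    have : K = σ.ker := by
      ext z
      rw [hK, MonoidHom.mem_ker]
    rw [this]
    infer_instance
  refine hc.two hS (MulAut.conjNormal t⁻¹) ?_
  intro z hz
  have d1 : elt g 1 = g 1 := elt_digit (by norm_num) (by norm_num)
  have h1 : g 1 * (z : G) = z * (t⁻¹ * g 1 * t) := by
    have h2 := congrArg (fun x : K => (x : G)) hz
    simp only [Subgroup.coe_mul, MulAut.conjNormal_apply, hg, inv_inv] at h2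
    exact h2
  have h2 : g 1 * ((z : G) * t⁻¹) = ((z : G) * t⁻¹) * g 1 := by
    rw [← mul_assoc, h1]
    group
  obtain ⟨j, w, hw, hj⟩ := PtOK.solve hbA sA ((z : G) * t⁻¹) (by rw [d1]; exact h2)
  rw [List.mem_singleton] at hw
  rw [hw, elt_zero, d1] at hj
  have h3 := congrArg σ hj
  have h4 : σ (g 1) = 1 := by rw [← hK, ← hg]; exact (g' 1).2
  rw [map_mul, map_mul, map_pow, map_inv, (hK _).1 z.2, ht, h4, one_pow, map_one] at h3
  exact absurd h3 (by decide)

end

end Cfsg.Agent.H90.Sift2
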