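import Cfsg.Agent.H90.LargePair
import Cfsg.Agent.FStar.Layer

/-!
# Extraspecial centralizer settings: transport to the ambient group (owner: helper90)
-/

set_option autoImplicit false

namespace Cfsg.Agent.H90

open Cfsg

theorem XS.map_subtype {G : Type*} [Group G] {H : Subgroup G} {Q : Subgroup H} {ζ : H} (h : XS Q ζ) :
    XS (Q.map H.subtype) (ζ : G) where
  mem := ⟨ζ, h.mem, rfl⟩
  ne_one := fun h1 => h.ne_one (Subtype.ext h1)
  sq := by rw [← Subgroup.coe_mul, h.sq]; rfl
  central := by
    rintro _ ⟨q, hq, rfl⟩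
    exact congrArg Subtype.val (h.central q hq)
  comm := by
    rintro _ ⟨x, hx, rfl⟩ _ ⟨y, hy, rfl⟩
    rcases h.comm x hx y hy with h1 | h1
    · left; exact congrArg Subtype.val h1
    · right; exact congrArg Subtype.val h1
  nondeg := by
    rintro _ ⟨x, hx, rfl⟩ h1
    rcases h.nondeg x hx (fun y hy => Subtype.ext (h1 _ ⟨y, hy, rfl⟩)) with h2 | h2
    · left; rw [h2]; rfl
    · right; rw [h2]; rfl

/-- `z` generates the centre of `Q`. -/
theorem xs_of_setting {G : Type*} [Group G] [Finite G] {z : G}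
    {Q : Subgroup (Subgroup.centralizer ({z} : Set G))} {w : ℕ}
    (h : IsExtraspecialCentralizerSetting z Q w) :
    ∃ hz : z ∈ Subgroup.centralizer ({z} : Set G),
      XS Q (⟨z, hz⟩ : Subgroup.centralizer ({z} : Set G)) := by
  obtain ⟨h2, hF, hX, hcard, -⟩ := h
  obtain ⟨ζ, hζ, -⟩ := XS.of_isExtraspecial hX
  have hzC : z ∈ Subgroup.centralizer ({z} : Set G) := by
    rw [Subgroup.mem_centralizer_singleton_iff]
  have hc : ∀ c : Subgroup.centralizer ({z} : Set G),
      c * (⟨z, hzC⟩ : Subgroup.centralizer ({z} : Set G)) = ⟨z, hzC⟩ * c := by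
    intro c
    apply Subtype.ext
    have := Subgroup.mem_centralizer_singleton_iff.1 c.2
    exact this
  have h1 : (⟨z, hzC⟩ : Subgroup.centralizer ({z} : Set G)) ∈ Q := by
    rw [← hF]
    apply FStar.centralizer_generalizedFitting_le
    rw [Subgroup.mem_centralizer_iff]
    intro c _
    exact hc c
  refine ⟨hzC, ?_⟩
  rcases hζ.nondeg _ h1 (fun y _ => (hc y).symm) with h3 | h3
  · exfalso
    have : z = 1 := congrArg Subtype.val h3
    rw [this, orderOf_one] at h2
    omega
  · rw [h3]; exact hζ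

theorem pl_of_setting {G : Type*} [Group G] [Finite G] {z : G}
    {Q : Subgroup (Subgroup.centralizer ({z} : Set G))} [hn : Q.Normal] {w : ℕ}
    (h : IsExtraspecialCentralizerSetting z Q w) :
    PL (Q.map (Subgroup.centralizer ({z} : Set G)).subtype) z := by
  obtain ⟨hzC, hX⟩ := xs_of_setting h
  have hX' := hX.map_subtype
  refine { toXS := hX', cent := fun g hg => ?_, norm := fun g hg => ?_ }
  · have hgC : g ∈ Subgroup.centralizer ({z} : Set G) := by
      rw [Subgroup.mem_centralizer_singleton_iff]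
      have := hg z hX'.mem
      exact this
    have h1 : (⟨g, hgC⟩ : Subgroup.centralizer ({z} : Set G)) ∈ Q := by
      rw [← h.2.1]
      apply FStar.centralizer_generalizedFitting_le
      rw [Subgroup.mem_centralizer_iff]
      intro c hc
      rw [h.2.1] at hc
      apply Subtype.ext
      exact (hg c ⟨c, hc, rfl⟩).symm
    exact hX'.nondeg g ⟨_, h1, rfl⟩ hg
  · rintro _ ⟨q, hq, rfl⟩
    have hgC : g ∈ Subgroup.centralizer ({z} : Set G) := by
      rw [Subgroup.mem_centralizer_singleton_iff]
      exact hg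
    exact ⟨_, hn.conj_mem q hq ⟨g, hgC⟩, rfl⟩

theorem card_of_setting {G : Type*} [Group G] [Finite G] {z : G}
    {Q : Subgroup (Subgroup.centralizer ({z} : Set G))} {w : ℕ}
    (h : IsExtraspecialCentralizerSetting z Q w) :
    Nat.card ↥(Q.map (Subgroup.centralizer ({z} : Set G)).subtype) = 2 ^ (2 * w + 1) := by
  rw [← h.2.2.2.1]
  exact (Nat.card_congr (Q.equivMapOfInjective _ (Subgroup.subtype_injective _)).toEquiv).symm

end Cfsg.Agent.H90
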