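import Cfsg.Agent.H90.SiftDef

/-!
Kernel-checked solution of conjugation equations in permutation groups, second engine: the checks (owner: helper90).

The levels of a base are checked by descents (every point of an orbit other than the least one is moved to a smaller one by
a short word that fixes the previous base points), the tables of new letters by relations.
-/

set_option autoImplicit false

namespace Cfsg.Agent.H90.Sift2

open Cfsg.Agent.CosetEnum Cfsg.Agent.H90.Sift

local notation "sel(" c ", " a ", " b ")" => @Bool.rec (fun _ => Bool) b a c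
local notation "selN(" c ", " a ", " b ")" => @Bool.rec (fun _ => Nat) b a c

/-- image of `i` under a coded word: digits of `s` bits (mask `k`), the letter `d` acts by `a d`, the letters above `nl` are
the identity -/
noncomputable def runF (a : Nat → Nat → Nat) (s k nl fuel : Nat) (c i : Nat) : Nat :=
  @Nat.rec (fun _ => Nat → Nat → Nat) (fun _ i => i)
    (fun _ ih c i => forceN (Nat.land c k) fun d => selN(Nat.beq d 0, i,
      forceN (Nat.shiftRight c s) fun c' => forceN (selN(Nat.ble d nl, a d i, i)) fun i' => ih c' i')) fuel c i

/-- words in a list of coded words -/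
noncomputable def runG (r : Nat → Nat → Nat) (gens : List Nat) (fuel c i : Nat) : Nat :=
  runF (fun d i => forceN (nth gens (Nat.pred d)) fun w => r w i) 4 15 15 fuel c i

/-- letters: those up to `ny` act by `Q`, the following ones by the letters `1, 2, …` of `P` -/
noncomputable def mixA (Q P : Par) (ny d i : Nat) : Nat :=
  selN(Nat.ble d ny, act Q d i, act P (Nat.sub d ny) i)

/-- the words of a list fix the points of `F` -/
noncomputable def fixA (r : Nat → Nat → Nat) (ws F : List Nat) : Bool :=
  allL (fun w => allL (fun f => Nat.beq (r w f) f) F) ws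

/-- the set bits of `ms` (shifted by `j`), `n` of them: the stream gives the gaps (`D` bits), `gp` checks the gaps and `f` the
points; all below `hi` -/
noncomputable def bitsB (D DM hi : Nat) (gp : Nat → Nat → Bool) (f : Nat → Nat → (Nat → Bool) → Bool)
    (n v ms j : Nat) : Bool :=
  @Nat.rec (fun _ => Nat → Nat → Nat → Bool)
    (fun _ ms j => sel(Nat.beq ms 0, gp j (Nat.sub hi j), false))
    (fun _ ih v ms j => force (Nat.land v DM) fun d => force (Nat.shiftRight v D) fun v1 =>
      sel(Nat.beq (Nat.land ms (Nat.pred (Nat.shiftLeft 2 d))) (Nat.shiftLeft 1 d),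
        sel(gp j d, force (Nat.shiftRight ms (Nat.succ d)) fun ms' => force (Nat.add j d) fun j' =>
          f j' v1 (fun v2 => ih v2 ms' (Nat.succ j')), false), false)) n v ms j

/-- the points of the mask between `lo` and `hi` -/
noncomputable def chunkB (D DM : Nat) (gp : Nat → Nat → Bool) (f : Nat → Nat → (Nat → Bool) → Bool)
    (mask n v lo hi : Nat) : Bool :=
  force (Nat.land (Nat.shiftRight mask lo) (Nat.pred (Nat.shiftLeft 1 (Nat.sub hi lo)))) fun ms =>
    bitsB D DM hi gp f n v ms lo

/-- no check of the gaps -/
noncomputable def noGap (_ _ : Nat) : Bool := true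

/-- descents -/
noncomputable def dscB (app : Nat → Nat → Nat) (W WM : Nat) (mt : Nat → Bool) (root : Nat) (j v : Nat)
    (k : Nat → Bool) : Bool :=
  force (Nat.land v WM) fun w => force (app w j) fun x => force (Nat.shiftRight v W) fun v' =>
    sel(Nat.beq x j, sel(Nat.beq j root, k v', false), sel(Nat.ble j x, false, sel(mt x, k v', false)))

/-- some image of `c` under iterates of `a` is smaller than `i` -/
noncomputable def walkA (a : Nat → Nat) (i fuel c : Nat) : Bool :=
  @Nat.rec (fun _ => Nat → Bool) (fun _ => false)
    (fun _ ih c => force (a c) fun c' => sel(Nat.ble i c', ih c', true)) fuel c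

/-- all points of a gap are not minimal -/
noncomputable def wGap (a : Nat → Nat) (j d : Nat) : Bool :=
  allR (fun i => walkA a i 100 i) j d

noncomputable def skipB (_ v : Nat) (k : Nat → Bool) : Bool := k v

/-- direct check of the letter `x` -/
noncomputable def dirB (P : Par) (x : Nat) (r : Nat → Nat) (j v : Nat) (k : Nat → Bool) : Bool :=
  sel(Nat.beq (r j) (act P x j), k v, false)

/-- iterate of a map -/
noncomputable def itA (a : Nat → Nat) (n i : Nat) : Nat :=
  @Nat.rec (fun _ => Nat → Nat) (fun i => i) (fun _ ih i => forceN (a i) ih) n i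

/-- the table of the new letters -/
noncomputable def newC (P Q : Par) (wy : List Nat) (r x s i : Nat) : Bool :=
  force (act P 1 i) fun a => force (act P 3 i) fun b => force (act P 5 i) fun c =>
    sel(Nat.beq (act P 0 i) i, sel(Nat.beq (act P 7 i) i,
    sel(Nat.beq (act P 2 a) i, sel(Nat.beq (act P 4 b) i, sel(Nat.beq (act P 6 c) i,
    sel(Nat.beq (act P 3 a) (itA (act P 1) r b), sel(Nat.beq (act P 5 b) (itA (act P x) s c), Nat.beq (actW Q wy i) a,
      false), false), false), false), false), false), false)

/-- the relations of the new letters on the base -/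
noncomputable def relC (P : Par) (ru rv : Nat → Nat) (r x s : Nat) (bs : List Nat) : Bool :=
  sel(eqB (fun b => forceN (act P 1 b) ru) (fun b => forceN (ru b) (itA (act P 1) r)) bs,
    eqB (fun b => forceN (act P 3 b) rv) (fun b => forceN (rv b) (itA (act P x) s)) bs, false)

/-- level data: base points, masks, applications -/
inductive LA
  | nil
  | cons (b mask : Nat) (app : Nat → Nat → Nat) (l : LA)

/-- the tuple `V c, V (Y c), V (Y (Y c)), …` is not an image of the base -/
noncomputable def badB (Y : Nat → Nat) (W WM : Nat) (cont : Nat → Bool) (Ls : LA) : (Nat → Nat) → Nat → Nat → Bool :=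
  @LA.rec (fun _ => (Nat → Nat) → Nat → Nat → Bool) (fun _ _ _ => false)
    (fun b mask app _ ih V c v => force (V c) fun c' => sel(tb mask c',
      force (Nat.land v WM) fun w => force (Nat.shiftRight v W) fun v' =>
        sel(Nat.beq (app w c') b, force (Y c) fun c1 => ih (fun i => forceN (V i) (app w)) c1 v', false),
      cont v)) Ls

/-- `h` sends the base to the tuple `c, Y c, …` -/
noncomputable def goodB (Y h : Nat → Nat) (Ls : LA) (c : Nat) : Bool :=
  @LA.rec (fun _ => Nat → Bool) (fun _ => true)
    (fun b _ _ _ ih c => sel(Nat.beq (h b) c, force (Y c) ih, false)) Ls c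

/-- one point: excluded, or an element of the list `goods` (kind 1, coded for `r`) or `odds` (kind 2, coded for `r'`) -/
noncomputable def sftB (Y : Nat → Nat) (W WM : Nat) (r r' : Nat → Nat → Nat) (goods odds : List Nat) (Ls : LA) (j v : Nat)
    (k : Nat → Bool) : Bool :=
  force (Nat.land v 3) fun kd => force (Nat.shiftRight v 2) fun v' =>
    sel(Nat.beq kd 0, badB Y W WM k Ls (fun x => x) j v',
    force (Nat.land v' 255) fun w => force (Nat.shiftRight v' 8) fun v'' =>
      sel(Nat.beq kd 1, sel(goodB Y (r (nth goods w)) Ls j, sel(Nat.ble (List.length goods) w, false, k v''), false),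
      sel(goodB Y (r' (nth odds w)) Ls j, sel(Nat.ble (List.length odds) w, false, k v''), false)))

/-- chunks put together -/
inductive Chs (D DM : Nat) (gp : Nat → Nat → Bool) (f : Nat → Nat → (Nat → Bool) → Bool) (mask : Nat) :
    Nat → Nat → Nat → Prop
  | one {n v lo hi : Nat} : chunkB D DM gp f mask n v lo hi = true → Nat.ble lo hi = true → Chs D DM gp f mask n lo hi
  | app {n n' lo mid hi : Nat} : Chs D DM gp f mask n lo mid → Chs D DM gp f mask n' mid hi →
      Chs D DM gp f mask (Nat.add n n') lo hi

theorem Chs.cast {D DM : Nat} {gp : Nat → Nat → Bool} {f : Nat → Nat → (Nat → Bool) → Bool} {mask n lo hi : Nat}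
    (h : Chs D DM gp f mask n lo hi) {n' : Nat} (hn : Nat.beq n n' = true) : Chs D DM gp f mask n' lo hi := by
  rw [← Nat.eq_of_beq_eq_true hn]
  exact h

/-- intervals put together -/
inductive CovI (f : Nat → Bool) : Nat → Nat → Prop
  | one {lo c hi : Nat} : allR f lo c = true → Nat.beq (Nat.add lo c) hi = true → CovI f lo hi
  | app {lo mid hi : Nat} : CovI f lo mid → CovI f mid hi → CovI f lo hi

end Cfsg.Agent.H90.Sift2
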