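import Cfsg.Agent.H90.Sift2Tab

/-!
Kernel-checked solution of conjugation equations in permutation groups, second engine: solutions of the equations
(owner: helper90).
-/

set_option autoImplicit false

namespace Cfsg.Agent.H90.Sift2

open Cfsg.Agent.CosetEnum Cfsg.Agent.H90.Sift Subgroup

local notation "sel(" c ", " a ", " b ")" => @Bool.rec (fun _ => Bool) b a c
local notation "selN(" c ", " a ", " b ")" => @Bool.rec (fun _ => Nat) b a c

/-- list form of the level data -/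
def LAl : List ((ℕ × ℕ × ℕ) × (ℕ → ℕ → ℕ)) → LA
  | [] => .nil
  | t :: l => .cons t.1.1 t.1.2.1 t.2 (LAl l)

section

variable {G : Type*} [Group G] {P : Par} [MulAction G (Fin P.m)]

/-- the applications of the levels -/
def AOK (G : Type*) [Group G] (P : Par) [MulAction G (Fin P.m)] : List ((ℕ × ℕ × ℕ) × (ℕ → ℕ → ℕ)) → List ℕ → Prop
  | [], _ => True
  | t :: l, F => AppOK P (⊤ : Subgroup G) F t.2 ∧ AOK G P l (t.1.1 :: F)

/-- `b_{i+1}` is the image of `b_i` -/
def BasedF (X : ℕ → ℕ) : List ((ℕ × ℕ × ℕ) × (ℕ → ℕ → ℕ)) → Prop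
  | [] => True
  | [_] => True
  | t :: t' :: l => X t.1.1 = t'.1.1 ∧ BasedF X (t' :: l)

theorem BasedF.tail {X : ℕ → ℕ} {s : (ℕ × ℕ × ℕ) × (ℕ → ℕ → ℕ)} {l : List ((ℕ × ℕ × ℕ) × (ℕ → ℕ → ℕ))}
    (h : BasedF X (s :: l)) : BasedF X l := by
  cases l with
  | nil => trivial
  | cons s' l => exact h.2

/-- the next base point -/
theorem next_base {X Y : ℕ → ℕ} {x y z : G} (hX : Is P X x) (hY : Is P Y y) (hz : x * z = z * y) {b b' c : ℕ}
    (hb : b < P.m) (hbb : X b = b') (hc : ∀ i : Fin P.m, (i : ℕ) = b → ((z⁻¹ • i : Fin P.m) : ℕ) = c)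
    (i : Fin P.m) (hi : (i : ℕ) = b') : ((z⁻¹ • i : Fin P.m) : ℕ) = Y c := by
  have h10 := hX (⟨b, hb⟩ : Fin P.m)
  have h11 : i = x⁻¹ • (⟨b, hb⟩ : Fin P.m) := by
    apply Fin.ext
    rw [← h10, hi, ← hbb]
  rw [h11, ← mul_smul, ← mul_inv_rev, hz, mul_inv_rev, mul_smul, ← hY, hc ⟨b, hb⟩ rfl]

theorem badB_sound {X Y : ℕ → ℕ} {x y : G} (hX : Is P X x) (hY : Is P Y y) {W WM : ℕ} {cont : ℕ → Bool}
    {l : List ((ℕ × ℕ × ℕ) × (ℕ → ℕ → ℕ))} {F : List ℕ} {V : ℕ → ℕ} {c v : ℕ} (hx : ExP G P (l.map Prod.fst) F)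
    (ha : AOK G P l F) (hB : BasedF X l) (hb : badB Y W WM cont (LAl l) V c v = true) (t : G) (hV : Is P V t) :
    (∃ v', cont v' = true) ∧ ∀ z : G, x * z = z * y →
      (∀ f : Fin P.m, (f : ℕ) ∈ F → (z * t)⁻¹ • f = f) →
      (∀ t1 ∈ l.head?, ∀ b : Fin P.m, (b : ℕ) = t1.1.1 → ((z⁻¹ • b : Fin P.m) : ℕ) = c) → False := by
  induction l generalizing F V c v t with
  | nil => exact absurd hb (by simp [badB, LAl])
  | cons s l ih =>
    have hb' : (force (V c) fun c' => sel(tb s.1.2.1 c',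
      force (Nat.land v WM) fun w => force (Nat.shiftRight v W) fun v' =>
        sel(Nat.beq (s.2 w c') s.1.1, force (Y c) fun c1 =>
          badB Y W WM cont (LAl l) (fun i => forceN (V i) (s.2 w)) c1 v', false), cont v)) = true := hb
    simp only [force_eq] at hb'
    obtain ⟨⟨hsm, h1⟩, h2⟩ := hx
    rcases sel_true hb' with ⟨h3, h4⟩ | ⟨h3, h4⟩
    · set w := Nat.land v WM with hw
      obtain ⟨h5, h8⟩ := sel_true_left h4
      obtain ⟨k, _, hk, hkF⟩ := ha.1 w
      have hV' : Is P (fun i => forceN (V i) (s.2 w)) (t * k) := by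
        intro i
        show forceN (V i) (s.2 w) = _
        rw [forceN_eq]
        exact Is.comp hV hk i
      have ih' := ih h2 ha.2 hB.tail h8 (t * k) hV'
      refine ⟨ih'.1, fun z hz hF hc => ih'.2 z hz ?_ ?_⟩
      · intro f hf
        have e1 : (z * (t * k))⁻¹ • f = k⁻¹ • ((z * t)⁻¹ • f) := by
          rw [← mul_smul]
          congr 1
          group
        rw [e1]
        rcases List.mem_cons.1 hf with hf | hf
        · apply Fin.ext
          rw [← hk]
          have h9 := hc s (by simp) f hf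
          have h10 : (((z * t)⁻¹ • f : Fin P.m) : ℕ) = V c := by
            rw [← h9, hV, mul_inv_rev, mul_smul]
          rw [h10, hf]
          exact beq_true h5
        · rw [hF f hf]
          exact hkF f hf
      · intro t1 ht1 b hb1
        cases l with
        | nil => simp at ht1
        | cons s' l =>
          simp only [List.head?_cons, Option.mem_def, Option.some.injEq] at ht1
          subst ht1
          exact next_base hX hY hz hsm hB.1 (fun i hi => hc s (by simp) i hi) b hb1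
    · refine ⟨⟨v, h4⟩, fun z hz hF hc => ?_⟩
      have h9 := hc s (by simp) ⟨s.1.1, hsm⟩ rfl
      have h10 : (((z * t)⁻¹ • (⟨s.1.1, hsm⟩ : Fin P.m) : Fin P.m) : ℕ) = V c := by
        rw [← h9, hV, mul_inv_rev, mul_smul]
      have h11 := h1 (z * t)⁻¹ hF ⟨s.1.1, hsm⟩ rfl
      rw [h10, tb_false h3] at h11
      exact absurd h11 (by decide)

theorem goodB_sound {X Y : ℕ → ℕ} {x y : G} (hX : Is P X x) (hY : Is P Y y)
    {l : List ((ℕ × ℕ × ℕ) × (ℕ → ℕ → ℕ))} {c : ℕ} (hB : BasedF X l)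
    (hlt : ∀ t ∈ l, t.1.1 < P.m) {h : ℕ → ℕ} {e : G} (he : Is P h e) (hb : goodB Y h (LAl l) c = true) (z : G)
    (hz : x * z = z * y) (hc : ∀ t1 ∈ l.head?, ∀ b : Fin P.m, (b : ℕ) = t1.1.1 → ((z⁻¹ • b : Fin P.m) : ℕ) = c) :
    ∀ t ∈ l, ∀ b : Fin P.m, (b : ℕ) = t.1.1 → z⁻¹ • b = e⁻¹ • b := by
  induction l generalizing c with
  | nil => simp
  | cons s l ih =>
    have hb' : sel(Nat.beq (h s.1.1) c, force (Y c) (goodB Y h (LAl l)), false) = true := hb
    obtain ⟨h1, h2⟩ := sel_true_left hb'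
    rw [force_eq] at h2
    have hsm := hlt s (by simp)
    have ih' := ih hB.tail (fun t ht => hlt t (by simp [ht])) h2 (by
      intro t1 ht1 b hb1
      cases l with
      | nil => simp at ht1
      | cons s' l =>
        simp only [List.head?_cons, Option.mem_def, Option.some.injEq] at ht1
        subst ht1
        exact next_base hX hY hz hsm hB.1 (fun i hi => hc s (by simp) i hi) b hb1)
    intro t ht b hbt
    rcases List.mem_cons.1 ht with rfl | ht
    · apply Fin.ext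
      rw [hc t (by simp) b hbt, ← he, hbt]
      exact (beq_true h1).symm
    · exact ih' t ht b hbt

theorem nth_mem_lt {L : List ℕ} {x : ℕ} (h : x < L.length) : nth L x ∈ L := by
  induction L generalizing x with
  | nil => simp at h
  | cons a L ih =>
    have h1 : nth (a :: L) x = selN(Nat.beq x 0, a, nth L (Nat.pred x)) := rfl
    rw [h1, selN_eq]
    split
    · simp
    · next h2 =>
      have h3 : x ≠ 0 := by
        rintro rfl
        exact h2 rfl
      apply List.mem_cons_of_mem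
      apply ih
      rw [List.length_cons] at h
      rw [Nat.pred_eq_sub_one]
      omega

/-- the solutions that send `b` to `i` -/
def Sol (P : Par) [MulAction G (Fin P.m)] (x y : G) (gs : Set G) (b i : ℕ) : Prop :=
  ∀ z : G, x * z = z * y → (∀ b' : Fin P.m, (b' : ℕ) = b → ((z⁻¹ • b' : Fin P.m) : ℕ) = i) → z ∈ gs

theorem sftB_sound {X Y : ℕ → ℕ} {x y : G} (hX : Is P X x) (hY : Is P Y y) {r r' : ℕ → ℕ → ℕ} {er er' : ℕ → G}
    (hr : ∀ w, Is P (r w) (er w)) (hr' : ∀ w, Is P (r' w) (er' w)) {goods odds : List ℕ}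
    {s : (ℕ × ℕ × ℕ) × (ℕ → ℕ → ℕ)} {l : List ((ℕ × ℕ × ℕ) × (ℕ → ℕ → ℕ))}
    (hx : ExP G P ((s :: l).map Prod.fst) []) (ha : AOK G P (s :: l) []) (hlt : ∀ t ∈ s :: l, t.1.1 < P.m)
    (hB : BasedF X (s :: l)) {W WM : ℕ} (j v : ℕ) (k : ℕ → Bool)
    (h : sftB Y W WM r r' goods odds (LAl (s :: l)) j v k = true) :
    Sol P x y ({z | ∃ w ∈ goods, z = er w} ∪ {z | ∃ w ∈ odds, z = er' w}) s.1.1 j ∧ ∃ v', k v' = true := by
  unfold sftB at h
  simp only [force_eq] at h
  have key : ∀ {hf : ℕ → ℕ} {e : G}, Is P hf e → goodB Y hf (LAl (s :: l)) j = true → ∀ z : G, x * z = z * y →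
      (∀ b' : Fin P.m, (b' : ℕ) = s.1.1 → ((z⁻¹ • b' : Fin P.m) : ℕ) = j) → z = e := by
    intro hf e he hg z hz hb
    have h11 := goodB_sound hX hY hB hlt he hg z hz (by
      intro t1 ht1 b' hb'
      simp only [List.head?_cons, Option.mem_def, Option.some.injEq] at ht1
      subst ht1
      exact hb b' hb')
    have h12 := hx.eq (x := z⁻¹) (y := e⁻¹) (by simp) (fun t ht b hb => by
      obtain ⟨t', ht', rfl⟩ := List.mem_map.1 ht
      exact h11 t' ht' b hb)
    exact inv_injective h12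
  rcases sel_true h with ⟨h1, h2⟩ | ⟨h1, h2⟩
  · obtain ⟨h5, h6⟩ := badB_sound hX hY hx ha hB h2 1 (by intro i; rw [inv_one, one_smul])
    refine ⟨fun z hz hb => ?_, h5⟩
    exfalso
    refine h6 z hz (by simp) ?_
    intro t1 ht1 b' hb'
    simp only [List.head?_cons, Option.mem_def, Option.some.injEq] at ht1
    subst ht1
    exact hb b' hb'
  · rcases sel_true h2 with ⟨h3, h4⟩ | ⟨h3, h4⟩
    · obtain ⟨h5, h6⟩ := sel_true_left h4
      obtain ⟨h7, h8⟩ := sel_true_right h6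
      refine ⟨fun z hz hb => Or.inl ⟨_, nth_mem_lt (ble_false h7), key (hr _) h5 z hz hb⟩, _, h8⟩
    · obtain ⟨h5, h6⟩ := sel_true_left h4
      obtain ⟨h7, h8⟩ := sel_true_right h6
      refine ⟨fun z hz hb => Or.inr ⟨_, nth_mem_lt (ble_false h7), key (hr' _) h5 z hz hb⟩, _, h8⟩

theorem NM.of_pow {y z : G} {i e : ℕ} (h : NM P y i) (he : z ^ e = y) : NM P z i := by
  intro i' hi'
  obtain ⟨j, hj⟩ := h i' hi'
  refine ⟨e * j, ?_⟩
  rw [pow_mul, he]
  exact hj

theorem ptok_of {x y y0 : G} {gs : Set G} {b e mask n n' : ℕ} {Pr Gr : ℕ → Prop} (he : y ^ e = y0)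
    (hw : CK Pr (NM P y0) mask n 0 P.m) (hs : CK (Sol P x y gs b) Gr mask n' 0 P.m) :
    ∀ i < P.m, PtOK P x y gs b i := by
  intro i hi
  by_cases hm : mask.testBit i = true
  · exact Or.inr ((hs.2.1 i (Nat.zero_le _) hi).1 hm)
  · have hm' : mask.testBit i = false := by
      cases hb : mask.testBit i
      · rfl
      · exact absurd hb hm
    have h1 := ((hw.2.1 i (Nat.zero_le _) hi).2 hm').of_pow he
    obtain ⟨j, hj⟩ := h1 ⟨i, hi⟩ rfl
    refine Or.inl ⟨j, fun i' hi' => ?_⟩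
    have : i' = ⟨i, hi⟩ := Fin.ext hi'
    rw [this]
    exact hj

theorem _root_.Cfsg.Agent.H90.Sift.PtOK.mono2 {x y : G} {gs gs' : Set G} {b i : ℕ} (h : PtOK P x y gs b i) (hs : gs ⊆ gs') :
    PtOK P x y gs' b i := by
  rcases h with h | h
  · exact Or.inl h
  · exact Or.inr fun z hz hb => hs (h z hz hb)

end

end Cfsg.Agent.H90.Sift2
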