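import Cfsg.Agent.H90.SiftMain
import Cfsg.Agent.H90.Sift2Def

/-!
Kernel-checked solution of conjugation equations in permutation groups, second engine: soundness (owner: helper90).
-/

set_option autoImplicit false

namespace Cfsg.Agent.H90.Sift2

open Cfsg.Agent.CosetEnum Cfsg.Agent.H90.Sift Subgroup

local notation "sel(" c ", " a ", " b ")" => @Bool.rec (fun _ => Bool) b a c
local notation "selN(" c ", " a ", " b ")" => @Bool.rec (fun _ => Nat) b a c

/-! ### Applications -/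

section

variable {G : Type*} [Group G] {P : Par} [MulAction G (Fin P.m)]

/-- every code acts as an element of `K` that fixes the points of `F` -/
def AppOK (P : Par) [MulAction G (Fin P.m)] (K : Subgroup G) (F : List ℕ) (app : ℕ → ℕ → ℕ) : Prop :=
  ∀ w, ∃ k ∈ K, (∀ i : Fin P.m, app w i = ((k⁻¹ • i : Fin P.m) : ℕ)) ∧ ∀ c : Fin P.m, (c : ℕ) ∈ F → k⁻¹ • c = c

/-- the map is the action of an element -/
def Is (P : Par) [MulAction G (Fin P.m)] (f : ℕ → ℕ) (z : G) : Prop := ∀ i : Fin P.m, f i = ((z⁻¹ • i : Fin P.m) : ℕ)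

theorem runF_succ (a : ℕ → ℕ → ℕ) (s k nl n c i : ℕ) : runF a s k nl (n + 1) c i =
    selN(Nat.beq (Nat.land c k) 0, i, runF a s k nl n (Nat.shiftRight c s) (selN(Nat.ble (Nat.land c k) nl,
      a (Nat.land c k) i, i))) := by
  unfold runF
  simp only [forceN_eq]

theorem runF_ok {K : Subgroup G} {F : List ℕ} {a : ℕ → ℕ → ℕ} {s k nl : ℕ}
    (ha : ∀ d, d ≠ 0 → d ≤ nl → ∃ kk ∈ K, Is P (a d) kk ∧ ∀ c : Fin P.m, (c : ℕ) ∈ F → kk⁻¹ • c = c) (fuel : ℕ) :
    AppOK P K F (runF a s k nl fuel) := by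
  intro c
  induction fuel generalizing c with
  | zero => exact ⟨1, K.one_mem, fun i => by rw [inv_one, one_smul]; rfl, fun c _ => by simp⟩
  | succ n ih =>
    by_cases hd : Nat.beq (Nat.land c k) 0 = true
    · refine ⟨1, K.one_mem, fun i => ?_, fun c _ => by simp⟩
      rw [inv_one, one_smul, runF_succ, hd]
    · have hd' : Nat.beq (Nat.land c k) 0 = false := by
        cases hb : Nat.beq (Nat.land c k) 0
        · rfl
        · exact absurd hb hd
      obtain ⟨k2, hk2, h2, h2'⟩ := ih (Nat.shiftRight c s)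
      by_cases hl : Nat.ble (Nat.land c k) nl = true
      · obtain ⟨k1, hk1, h1, h1'⟩ := ha (Nat.land c k) (beq_false hd') (ble_true hl)
        refine ⟨k1 * k2, K.mul_mem hk1 hk2, fun i => ?_, fun b hb => ?_⟩
        · rw [runF_succ, selN_eq, if_neg (by rw [hd']; decide), mul_inv_rev, mul_smul, ← h2, ← h1, selN_eq, if_pos hl]
        · rw [mul_inv_rev, mul_smul, h1' b hb, h2' b hb]
      · refine ⟨k2, hk2, fun i => ?_, h2'⟩
        rw [runF_succ, selN_eq, if_neg (by rw [hd']; decide), selN_eq, if_neg hl, ← h2]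

theorem AppOK.mono {K K' : Subgroup G} {F : List ℕ} {app : ℕ → ℕ → ℕ} (h : AppOK P K F app) (hK : K ≤ K') :
    AppOK P K' F app := fun w => by
  obtain ⟨k, hk, h1, h2⟩ := h w
  exact ⟨k, hK hk, h1, h2⟩

theorem run_ok {g : ℕ → G} (h : RA P g) {K : Subgroup G} (hK : ∀ x < 8, g x ∈ K) : AppOK P K [] (run P) := fun w =>
  ⟨elt g w, elt_mem hK w, fun i => run_sound h w i, fun c hc => by simp at hc⟩

theorem fixA_sound {r : ℕ → ℕ → ℕ} {ws F : List ℕ} (h : fixA r ws F = true) {w f : ℕ} (hw : w ∈ ws) (hf : f ∈ F) :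
    r w f = f := beq_true (allL_sound (allL_sound h w hw) f hf)

theorem nth_mem {L : List ℕ} {x : ℕ} : nth L x = 0 ∨ nth L x ∈ L := by
  induction L generalizing x with
  | nil => exact Or.inl rfl
  | cons a L ih =>
    have h1 : nth (a :: L) x = selN(Nat.beq x 0, a, nth L (Nat.pred x)) := rfl
    rw [h1, selN_eq]
    split
    · exact Or.inr (by simp)
    · rcases ih (x := Nat.pred x) with h | h
      · exact Or.inl h
      · exact Or.inr (List.mem_cons_of_mem _ h)

theorem runG_ok {K : Subgroup G} {F : List ℕ} {r : ℕ → ℕ → ℕ} {gens : List ℕ} (hr : AppOK P K [] r)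
    (h : fixA r (0 :: gens) F = true) (fuel : ℕ) : AppOK P K F (runG r gens fuel) := by
  unfold runG
  apply runF_ok
  intro d _ _
  obtain ⟨k, hk, h1, _⟩ := hr (nth gens (Nat.pred d))
  refine ⟨k, hk, fun i => ?_, fun c hc => ?_⟩
  · show forceN (nth gens (Nat.pred d)) (fun w => r w i) = _
    rw [forceN_eq]
    exact h1 i
  · apply Fin.ext
    rw [← h1]
    apply fixA_sound h _ hc
    rcases nth_mem (L := gens) (x := Nat.pred d) with h2 | h2
    · rw [h2]; simp
    · exact List.mem_cons_of_mem _ h2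

end

/-! ### Set bits -/

/-- shift of the natural numbers -/
def shE (a : ℕ) : ℕ ↪ ℕ := ⟨fun i => a + i, fun x y h => Nat.add_left_cancel h⟩

theorem shE_apply (a x : ℕ) : shE a x = a + x := rfl

theorem bitsB_sound {D DM hi : ℕ} {gp : ℕ → ℕ → Bool} {f : ℕ → ℕ → (ℕ → Bool) → Bool} {Pr Gr : ℕ → Prop}
    (hgp : ∀ j d, gp j d = true → ∀ i, j ≤ i → i < j + d → Gr i)
    (hf : ∀ j v k, f j v k = true → Pr j ∧ ∃ v', k v' = true) (n : ℕ) :
    ∀ v ms j, bitsB D DM hi gp f n v ms j = true →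
      (∀ i, (ms.testBit i = true → Pr (j + i)) ∧ (ms.testBit i = false → j + i < hi → Gr (j + i))) ∧
      ∃ S : Finset ℕ, S.card = n ∧ ∀ i ∈ S, ms.testBit i = true := by
  unfold bitsB
  simp only [force_eq]
  induction n with
  | zero =>
    intro v ms j h
    obtain ⟨h1, h2⟩ := sel_true_left h
    have h3 : ms = 0 := beq_true h1
    subst h3
    refine ⟨fun i => ⟨fun h => by simp at h, fun _ hi' => ?_⟩, ∅, rfl, by simp⟩
    refine hgp _ _ h2 (j + i) (by omega) ?_
    show j + i < j + (hi - j)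
    omega
  | succ n ih =>
    intro v ms j h
    set d := Nat.land v DM with hd
    obtain ⟨h1, h2⟩ := sel_true_left h
    obtain ⟨h3, h4⟩ := sel_true_left h2
    obtain ⟨h5, v', h6⟩ := hf _ _ _ h4
    obtain ⟨h7, S, hS, hS'⟩ := ih _ _ _ h6
    have h8 : ms % 2 ^ (d + 1) = 2 ^ d := by
      have h9 := beq_true h1
      have h10 : Nat.pred (Nat.shiftLeft 2 d) = 2 ^ (d + 1) - 1 := by
        show 2 <<< d - 1 = _
        rw [Nat.shiftLeft_eq, pow_succ']
      have h11 : Nat.shiftLeft 1 d = 2 ^ d := by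
        show 1 <<< d = _
        rw [Nat.shiftLeft_eq, one_mul]
      rw [h10, h11] at h9
      have h12 : Nat.land ms (2 ^ (d + 1) - 1) = ms % 2 ^ (d + 1) := Nat.and_two_pow_sub_one_eq_mod _ _
      rw [h12] at h9
      exact h9
    have hlow : ∀ i, i ≤ d → ms.testBit i = decide (i = d) := by
      intro i hi
      have h9 : (ms % 2 ^ (d + 1)).testBit i = ms.testBit i := by
        rw [Nat.testBit_mod_two_pow, decide_eq_true (by omega : i < d + 1), Bool.true_and]
      rw [← h9, h8, Nat.testBit_two_pow]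
      by_cases h : i = d
      · simp [h]
      · simp [h, Ne.symm h]
    have hhigh : ∀ i, (Nat.shiftRight ms (Nat.succ d)).testBit i = ms.testBit (d + 1 + i) := by
      intro i
      show (ms >>> (d + 1)).testBit i = _
      rw [Nat.testBit_shiftRight]
    refine ⟨fun i => ?_, insert d (S.map (shE (d + 1))), ?_, ?_⟩
    · rcases lt_trichotomy i d with hi | hi | hi
      · have h9 := hlow i hi.le
        rw [decide_eq_false (by omega)] at h9
        refine ⟨fun h => by rw [h9] at h; exact absurd h (by decide), fun _ _ => ?_⟩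
        exact hgp _ _ h3 (j + i) (by omega) (by omega)
      · rw [hi]
        refine ⟨fun _ => h5, fun h _ => ?_⟩
        have h9 := hlow d le_rfl
        rw [h, decide_eq_true rfl] at h9
        exact absurd h9 (by decide)
      · obtain ⟨e, rfl⟩ : ∃ e, i = d + 1 + e := ⟨i - (d + 1), by omega⟩
        have h9 := h7 e
        rw [hhigh] at h9
        have h10 : Nat.succ (Nat.add j d) + e = j + (d + 1 + e) := by
          show j + d + 1 + e = _
          omega
        rw [h10] at h9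
        exact h9
    · rw [Finset.card_insert_of_notMem, Finset.card_map, hS]
      intro hmem
      obtain ⟨x, _, hx⟩ := Finset.mem_map.1 hmem
      rw [shE_apply] at hx
      omega
    · intro i hi
      rcases Finset.mem_insert.1 hi with hi | hi
      · rw [hi, hlow d le_rfl, decide_eq_true rfl]
      · obtain ⟨x, hx, rfl⟩ := Finset.mem_map.1 hi
        have := hS' x hx
        rw [hhigh] at this
        exact this

/-- the result of a chunk -/
def CK (Pr Gr : ℕ → Prop) (mask n lo hi : ℕ) : Prop := lo ≤ hi ∧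
  (∀ i, lo ≤ i → i < hi → (mask.testBit i = true → Pr i) ∧ (mask.testBit i = false → Gr i)) ∧
  ∃ S : Finset ℕ, S.card = n ∧ ∀ i ∈ S, lo ≤ i ∧ i < hi ∧ mask.testBit i = true

theorem chunkB_sound {D DM : ℕ} {gp : ℕ → ℕ → Bool} {f : ℕ → ℕ → (ℕ → Bool) → Bool} {Pr Gr : ℕ → Prop}
    (hgp : ∀ j d, gp j d = true → ∀ i, j ≤ i → i < j + d → Gr i)
    (hf : ∀ j v k, f j v k = true → Pr j ∧ ∃ v', k v' = true) {mask n v lo hi : ℕ} (hle : lo ≤ hi)
    (h : chunkB D DM gp f mask n v lo hi = true) : CK Pr Gr mask n lo hi := by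
  unfold chunkB at h
  rw [force_eq] at h
  obtain ⟨h1, S, hS, hS'⟩ := bitsB_sound hgp hf n _ _ _ h
  have h2 : ∀ i, (Nat.land (Nat.shiftRight mask lo) (Nat.pred (Nat.shiftLeft 1 (Nat.sub hi lo)))).testBit i =
      (decide (i < hi - lo) && mask.testBit (lo + i)) := by
    intro i
    have h10 : Nat.pred (Nat.shiftLeft 1 (Nat.sub hi lo)) = 2 ^ (hi - lo) - 1 := by
      show 1 <<< (hi - lo) - 1 = _
      rw [Nat.shiftLeft_eq, one_mul]
    rw [h10]
    have h12 : Nat.land (Nat.shiftRight mask lo) (2 ^ (hi - lo) - 1) = (mask >>> lo) % 2 ^ (hi - lo) :=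
      Nat.and_two_pow_sub_one_eq_mod _ _
    rw [h12, Nat.testBit_mod_two_pow, Nat.testBit_shiftRight]
  refine ⟨hle, fun i h3 h4 => ?_, S.map (shE lo), by rw [Finset.card_map, hS], ?_⟩
  · have h5 := h1 (i - lo)
    rw [h2, show lo + (i - lo) = i by omega, decide_eq_true (by omega : i - lo < hi - lo), Bool.true_and] at h5
    exact ⟨h5.1, fun h6 => h5.2 h6 h4⟩
  · intro i hi'
    obtain ⟨x, hx, rfl⟩ := Finset.mem_map.1 hi'
    have h3 := hS' x hx
    rw [h2, Bool.and_eq_true, decide_eq_true_eq] at h3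
    rw [shE_apply]
    exact ⟨by omega, by omega, h3.2⟩

theorem CK.trans {Pr Gr : ℕ → Prop} {mask n n' lo mid hi : ℕ} (h : CK Pr Gr mask n lo mid)
    (h' : CK Pr Gr mask n' mid hi) : CK Pr Gr mask (n + n') lo hi := by
  obtain ⟨h1, h2, S, hS, hS'⟩ := h
  obtain ⟨h3, h4, T, hT, hT'⟩ := h'
  refine ⟨h1.trans h3, fun i h5 h6 => ?_, S ∪ T, ?_, ?_⟩
  · rcases Nat.lt_or_ge i mid with h7 | h7
    · exact h2 i h5 h7
    · exact h4 i h7 h6
  · rw [Finset.card_union_of_disjoint, hS, hT]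
    rw [Finset.disjoint_left]
    intro j hj hj'
    have := (hS' j hj).2.1
    have := (hT' j hj').1
    omega
  · intro j hj
    rcases Finset.mem_union.1 hj with hj | hj
    · obtain ⟨h5, h6, h7⟩ := hS' j hj
      exact ⟨h5, by omega, h7⟩
    · obtain ⟨h5, h6, h7⟩ := hT' j hj
      exact ⟨by omega, h6, h7⟩

theorem Chs.sound {D DM : ℕ} {gp : ℕ → ℕ → Bool} {f : ℕ → ℕ → (ℕ → Bool) → Bool} {Pr Gr : ℕ → Prop}
    (hgp : ∀ j d, gp j d = true → ∀ i, j ≤ i → i < j + d → Gr i)
    (hf : ∀ j v k, f j v k = true → Pr j ∧ ∃ v', k v' = true) {mask n lo hi : ℕ} (h : Chs D DM gp f mask n lo hi) :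
    CK Pr Gr mask n lo hi := by
  induction h with
  | one h1 h2 => exact chunkB_sound hgp hf (ble_true h2) h1
  | app _ _ ih1 ih2 => exact ih1.trans ih2

theorem CovI.sound {f : ℕ → Bool} {lo hi : ℕ} (h : CovI f lo hi) : Cov f lo hi := by
  induction h with
  | one h1 h2 => exact Cov.of h1 (beq_true h2)
  | app _ _ ih1 ih2 => exact ih1.trans ih2

theorem noGap_sound (j d : ℕ) (_ : noGap j d = true) (i : ℕ) (_ : j ≤ i) (_ : i < j + d) : True := trivial

/-! ### Levels -/

section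

variable {G : Type*} [Group G] {P : Par} [MulAction G (Fin P.m)]

/-- the point is the root or an element of `K` that fixes `F` moves it to a smaller point of the mask -/
def Red (P : Par) [MulAction G (Fin P.m)] (K : Subgroup G) (F : List ℕ) (mask root j : ℕ) : Prop :=
  ∀ j' : Fin P.m, (j' : ℕ) = j → j = root ∨ ∃ k ∈ K, (∀ c : Fin P.m, (c : ℕ) ∈ F → k • c = c) ∧
    ((k • j' : Fin P.m) : ℕ) < j ∧ mask.testBit ((k • j' : Fin P.m) : ℕ) = true

theorem dscB_sound {K : Subgroup G} {F : List ℕ} {app : ℕ → ℕ → ℕ} (ha : AppOK P K F app) {mask : ℕ} {mt : ℕ → Bool}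
    (hmt : ∀ x < P.m, mt x = true → mask.testBit x = true) {W WM root j v : ℕ} {k : ℕ → Bool}
    (h : dscB app W WM mt root j v k = true) : Red P K F mask root j ∧ ∃ v', k v' = true := by
  unfold dscB at h
  simp only [force_eq] at h
  obtain ⟨z, hz, h1, h2⟩ := ha (Nat.land v WM)
  rcases sel_true h with ⟨h3, h4⟩ | ⟨h3, h4⟩
  · obtain ⟨h5, h6⟩ := sel_true_left h4
    exact ⟨fun _ _ => Or.inl (beq_true h5), _, h6⟩
  · obtain ⟨h5, h6⟩ := sel_true_right h4
    obtain ⟨h7, h8⟩ := sel_true_left h6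
    refine ⟨fun j' hj' => Or.inr ⟨z⁻¹, K.inv_mem hz, h2, ?_, ?_⟩, _, h8⟩
    · rw [← h1, hj']
      exact ble_false h5
    · apply hmt _ (Fin.is_lt _)
      rw [← h1, hj']
      exact h7

theorem red_root {K : Subgroup G} {F : List ℕ} {mask root : ℕ}
    (h : ∀ j < P.m, mask.testBit j = true → Red P K F mask root j) : ∀ n : ℕ, ∀ j : Fin P.m, (j : ℕ) = n →
      mask.testBit n = true → ∃ k ∈ K, (∀ c : Fin P.m, (c : ℕ) ∈ F → k • c = c) ∧ ((k • j : Fin P.m) : ℕ) = root := by
  intro n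
  induction n using Nat.strong_induction_on with
  | _ n ih =>
    intro j hj hm
    rcases h n (by rw [← hj]; exact j.2) hm j hj with h1 | ⟨k, hk, h1, h2, h3⟩
    · exact ⟨1, K.one_mem, fun c _ => one_smul _ c, by rw [one_smul, hj, h1]⟩
    · obtain ⟨k', hk', h4, h5⟩ := ih _ h2 (k • j) rfl h3
      refine ⟨k' * k, K.mul_mem hk' hk, fun c hc => ?_, ?_⟩
      · rw [mul_smul, h1 c hc, h4 c hc]
      · rw [mul_smul, h5]

theorem lev_of {K : Subgroup G} {F : List ℕ} {Gr : ℕ → Prop} {b mask root n : ℕ}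
    (hbm : mask.testBit b = true) (h : CK (Red P K F mask root) Gr mask n 0 P.m) : Lev P K F b mask n 0 P.m := by
  obtain ⟨_, h2, S, hS, hS'⟩ := h
  have hred : ∀ j < P.m, mask.testBit j = true → Red P K F mask root j := fun j hj hm => (h2 j (Nat.zero_le _) hj).1 hm
  refine ⟨S.attach.map ⟨fun x => (⟨x.1, (hS' x.1 x.2).2.1⟩ : Fin P.m), fun a b h => ?_⟩, ?_, ?_⟩
  · apply Subtype.ext
    have := congrArg Fin.val h
    exact this
  · rw [Finset.card_map, Finset.card_attach, hS]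
  · intro j hj
    obtain ⟨x, _, rfl⟩ := Finset.mem_map.1 hj
    have hx := hS' x.1 x.2
    refine ⟨Nat.zero_le _, hx.2.1, hx.2.2, ?_⟩
    have hxlt := hx.2.1
    obtain ⟨k, hk, h3, h4⟩ := red_root hred x.1 ⟨x.1, hxlt⟩ rfl hx.2.2
    by_cases hb : b < P.m
    · obtain ⟨k', hk', h5, h6⟩ := red_root hred b ⟨b, hb⟩ rfl hbm
      refine ⟨k⁻¹ * k', K.mul_mem (K.inv_mem hk) hk', fun b' hb' => ?_, fun c hc => ?_⟩
      · rw [mul_smul, inv_smul_eq_iff]
        apply Fin.ext
        have h7 : b' = ⟨b, hb⟩ := Fin.ext hb'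
        rw [h7, h6]
        exact h4.symm
      · rw [mul_smul, h5 c hc, inv_smul_eq_iff, h3 c hc]
    · refine ⟨k, hk, fun b' hb' => ?_, fun c hc => h3 c hc⟩
      exact absurd (hb' ▸ b'.2) hb

/-! ### Minimal points of cycles -/

theorem walkA_sound {a : ℕ → ℕ} {y : G} (h : Is P a y) {i fuel c : ℕ} (hc : c < P.m) (hw : walkA a i fuel c = true) :
    ∃ j : ℕ, (((y ^ j)⁻¹ • (⟨c, hc⟩ : Fin P.m) : Fin P.m) : ℕ) < i := by
  induction fuel generalizing c with
  | zero => exact absurd hw (by simp [walkA])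
  | succ n ih =>
    have hw' : (force (a c) fun c' => sel(Nat.ble i c', walkA a i n c', true)) = true := hw
    rw [force_eq] at hw'
    have h1' : a c = ((y⁻¹ • (⟨c, hc⟩ : Fin P.m) : Fin P.m) : ℕ) := h ⟨c, hc⟩
    have hlt : a c < P.m := by rw [h1']; exact Fin.is_lt _
    rcases sel_true hw' with ⟨h2, h3⟩ | ⟨h2, h3⟩
    · obtain ⟨j, hj⟩ := ih hlt h3
      refine ⟨j + 1, ?_⟩
      have h4 : (⟨a c, hlt⟩ : Fin P.m) = y⁻¹ • (⟨c, hc⟩ : Fin P.m) := Fin.ext h1'
      rw [h4, ← mul_smul, ← mul_inv_rev] at hj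
      rw [pow_succ']
      exact hj
    · refine ⟨1, ?_⟩
      rw [pow_one, ← h1']
      exact ble_false h2

/-- the point is not minimal in its cycle -/
def NM (P : Par) [MulAction G (Fin P.m)] (y : G) (i : ℕ) : Prop :=
  ∀ i' : Fin P.m, (i' : ℕ) = i → ∃ j : ℕ, (((y ^ j)⁻¹ • i' : Fin P.m) : ℕ) < i

theorem wGap_sound {a : ℕ → ℕ} {y : G} (h : Is P a y) (j d : ℕ) (hg : wGap a j d = true) (i : ℕ) (h1 : j ≤ i)
    (h2 : i < j + d) : NM P y i := by
  intro i' hi'
  have h3 : walkA a i 100 i = true := allR_sound hg i h1 h2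
  obtain ⟨e, he⟩ := walkA_sound h (by rw [← hi']; exact i'.2) h3
  have : (⟨i, by rw [← hi']; exact i'.2⟩ : Fin P.m) = i' := Fin.ext hi'.symm
  rw [this] at he
  exact ⟨e, he⟩

theorem skipB_sound (j v : ℕ) (k : ℕ → Bool) (h : skipB j v k = true) : True ∧ ∃ v', k v' = true := ⟨trivial, v, h⟩

theorem dirB_sound {x : ℕ} {r : ℕ → ℕ} (j v : ℕ) (k : ℕ → Bool) (h : dirB P x r j v k = true) :
    (r j = act P x j) ∧ ∃ v', k v' = true := by
  obtain ⟨h1, h2⟩ := sel_true_left (show sel(Nat.beq (r j) (act P x j), k v, false) = true from h)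
  exact ⟨beq_true h1, v, h2⟩


end

end Cfsg.Agent.H90.Sift2
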