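import Cfsg.Agent.H90.Sift2Sound

/-!
Kernel-checked solution of conjugation equations in permutation groups, second engine: the table of the new letters
(owner: helper90).
-/

set_option autoImplicit false

namespace Cfsg.Agent.H90.Sift2

open Cfsg.Agent.CosetEnum Cfsg.Agent.H90.Sift Subgroup

local notation "sel(" c ", " a ", " b ")" => @Bool.rec (fun _ => Bool) b a c
local notation "selN(" c ", " a ", " b ")" => @Bool.rec (fun _ => Nat) b a c

/-- the element of a coded word -/
def wordE {G : Type*} [Group G] (h : ℕ → G) (s k nl : ℕ) : ℕ → ℕ → G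
  | 0, _ => 1
  | n + 1, c => if Nat.beq (Nat.land c k) 0 = true then 1 else
      (if Nat.ble (Nat.land c k) nl = true then h (Nat.land c k) else 1) * wordE h s k nl n (Nat.shiftRight c s)

/-- letters, then a new letter and its inverse -/
def mixE {G : Type*} [Group G] (f : ℕ → G) (ny : ℕ) (y : G) (d : ℕ) : G :=
  if Nat.ble d ny = true then f d else if Nat.beq (Nat.sub d ny) 1 = true then y else y⁻¹

/-- the new letters -/
def gN {G : Type*} [Group G] (y u v : G) (x : ℕ) : G :=
  if x = 1 then y else if x = 2 then y⁻¹ else if x = 3 then u else if x = 4 then u⁻¹ else if x = 5 then v else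
    if x = 6 then v⁻¹ else 1

section

variable {G : Type*} [Group G] {P Q : Par} [MulAction G (Fin P.m)]

theorem Is.lt {f : ℕ → ℕ} {z : G} (h : Is P f z) {i : ℕ} (hi : i < P.m) : f i < P.m := by
  rw [show f i = _ from h ⟨i, hi⟩]
  exact Fin.is_lt _

theorem Is.comp {f f' : ℕ → ℕ} {z z' : G} (h : Is P f z) (h' : Is P f' z') (i : Fin P.m) :
    f' (f i) = (((z * z')⁻¹ • i : Fin P.m) : ℕ) := by
  rw [h i, h', mul_inv_rev, mul_smul]

theorem Is.inv {f f' : ℕ → ℕ} {z : G} (h : Is P f z) (h' : ∀ i < P.m, f' (f i) = i) : Is P f' z⁻¹ := by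
  intro i
  have h1 := h' ((z • i : Fin P.m) : ℕ) (Fin.is_lt _)
  rw [h, inv_smul_smul] at h1
  rw [h1, inv_inv]

theorem wordE_is {a : ℕ → ℕ → ℕ} {h : ℕ → G} {s k nl : ℕ} (ha : ∀ d, d ≠ 0 → d ≤ nl → Is P (a d) (h d)) (fuel c : ℕ) :
    Is P (runF a s k nl fuel c) (wordE h s k nl fuel c) := by
  induction fuel generalizing c with
  | zero => intro i; rw [wordE, inv_one, one_smul]; rfl
  | succ n ih =>
    intro i
    rw [runF_succ, wordE]
    by_cases hd : Nat.beq (Nat.land c k) 0 = true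
    · rw [if_pos hd, hd, inv_one, one_smul]
    · have hd' : Nat.beq (Nat.land c k) 0 = false := by
        cases hb : Nat.beq (Nat.land c k) 0
        · rfl
        · exact absurd hb hd
      rw [if_neg hd, selN_eq, if_neg hd, selN_eq]
      by_cases hl : Nat.ble (Nat.land c k) nl = true
      · rw [if_pos hl, if_pos hl, ha _ (beq_false hd') (ble_true hl), ih, mul_inv_rev, mul_smul]
      · rw [if_neg hl, if_neg hl, ih, one_mul]

theorem wordE_mem {h : ℕ → G} {s k nl : ℕ} {K : Subgroup G} (hK : ∀ d, d ≠ 0 → d ≤ nl → h d ∈ K) (fuel c : ℕ) :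
    wordE h s k nl fuel c ∈ K := by
  induction fuel generalizing c with
  | zero => exact K.one_mem
  | succ n ih =>
    rw [wordE]
    split
    · exact K.one_mem
    · next h1 =>
      refine K.mul_mem ?_ (ih _)
      split
      · next h2 =>
        have hd' : Nat.beq (Nat.land c k) 0 = false := by
          cases hb : Nat.beq (Nat.land c k) 0
          · rfl
          · exact absurd hb h1
        exact hK _ (beq_false hd') (ble_true h2)
      · exact K.one_mem

theorem itA_is {a : ℕ → ℕ} {y : G} (h : Is P a y) (n : ℕ) : Is P (itA a n) (y ^ n) := by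
  intro i
  induction n generalizing i with
  | zero => simp [itA]
  | succ n ih =>
    have h1 : itA a (n + 1) i = itA a n (a i) := by
      show forceN (a i) (itA a n) = _
      rw [forceN_eq]
    rw [h1, h i, ih, pow_succ', mul_inv_rev, mul_smul]

theorem mixA_is {f : ℕ → G} {ny : ℕ} {y : G} (hQ : ∀ d, d ≠ 0 → d ≤ ny → Is P (act Q d) (f d)) (h1 : Is P (act P 1) y)
    (h2 : Is P (act P 2) y⁻¹) : ∀ d, d ≠ 0 → d ≤ ny + 2 → Is P (mixA Q P ny d) (mixE f ny y d) := by
  intro d hd0 hd2 i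
  unfold mixA mixE
  rw [selN_eq]
  by_cases h : Nat.ble d ny = true
  · rw [if_pos h, if_pos h]
    exact hQ d hd0 (ble_true h) i
  · rw [if_neg h, if_neg h]
    have h3 : ¬ d ≤ ny := fun h4 => h (Nat.ble_eq_true_of_le h4)
    have h5 : Nat.sub d ny = d - ny := rfl
    rw [h5]
    have h4 : d - ny = 1 ∨ d - ny = 2 := by omega
    rcases h4 with h4 | h4
    · rw [h4, if_pos (show Nat.beq 1 1 = true by decide)]
      exact h1 i
    · rw [h4, if_neg (by decide)]
      exact h2 i

theorem actW_is {f : ℕ → G} {ny : ℕ} (hQ : ∀ d, d ≠ 0 → d ≤ ny → Is P (act Q d) (f d)) {w : List ℕ}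
    (hw : ∀ x ∈ w, x ≠ 0 ∧ x ≤ ny) : Is P (actW Q w) ((w.map f).prod) := by
  induction w with
  | nil => intro i; simp [actW]
  | cons x w ih =>
    intro i
    have h1 : actW Q (x :: w) i = actW Q w (act Q x i) := by
      show forceN (act Q x i) (actW Q w) = _
      rw [forceN_eq]
    rw [h1, hQ x (hw x (by simp)).1 (hw x (by simp)).2 i, ih (fun z hz => hw z (by simp [hz])), List.map_cons,
      List.prod_cons, mul_inv_rev, mul_smul]

/-- A table agrees with an element everywhere if it agrees on the minimal points of the cycles of `y` and both satisfy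
the same relation. -/
theorem table_of_rel [Finite G] {y u t : G} (hrel : y * u = u * t) {a b c : ℕ → ℕ} (ha : Is P a y) (hc : Is P c t)
    (hstep : ∀ i < P.m, b (a i) = c (b i)) {mask : ℕ} (hw : ∀ i < P.m, mask.testBit i = false → NM P y i)
    (hd : ∀ i < P.m, mask.testBit i = true → ∀ i' : Fin P.m, (i' : ℕ) = i → b i = ((u⁻¹ • i' : Fin P.m) : ℕ)) :
    Is P b u := by
  have h1 : ∀ i : Fin P.m, b i = ((u⁻¹ • i : Fin P.m) : ℕ) → b ((y⁻¹ • i : Fin P.m) : ℕ) =
      ((u⁻¹ • (y⁻¹ • i) : Fin P.m) : ℕ) := by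
    intro i hi
    rw [← ha, hstep i i.2, hi, hc, ← mul_smul, ← mul_smul, ← mul_inv_rev, ← mul_inv_rev, hrel]
  have h2 : ∀ n : ℕ, ∀ i : Fin P.m, b i = ((u⁻¹ • i : Fin P.m) : ℕ) → b (((y ^ n)⁻¹ • i : Fin P.m) : ℕ) =
      ((u⁻¹ • ((y ^ n)⁻¹ • i) : Fin P.m) : ℕ) := by
    intro n
    induction n with
    | zero => intro i hi; simpa using hi
    | succ n ih =>
      intro i hi
      have h3 := h1 _ (ih i hi)
      rw [← mul_smul y⁻¹, ← mul_inv_rev, ← pow_succ] at h3
      exact h3
  have h3 : ∀ n : ℕ, ∀ i : Fin P.m, (i : ℕ) = n → b i = ((u⁻¹ • i : Fin P.m) : ℕ) := by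
    intro n
    induction n using Nat.strong_induction_on with
    | _ n ih =>
      intro i hi
      have hlt : n < P.m := by rw [← hi]; exact i.2
      by_cases hm : mask.testBit n = true
      · have := hd n hlt hm i hi
        rw [← this, hi]
      · have hm' : mask.testBit n = false := by
          cases hb : mask.testBit n
          · rfl
          · exact absurd hb hm
        obtain ⟨j, hj⟩ := hw n hlt hm' i hi
        have h4 := ih _ hj ((y ^ j)⁻¹ • i) rfl
        have h5 := h2 ((orderOf y - 1) * j) _ h4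
        have h6 : (y ^ ((orderOf y - 1) * j))⁻¹ • (y ^ j)⁻¹ • i = i := by
          rw [← mul_smul, ← mul_inv_rev, ← pow_add]
          have h7 : j + (orderOf y - 1) * j = orderOf y * j := by
            have h8 : 0 < orderOf y := orderOf_pos y
            obtain ⟨N, hN⟩ : ∃ N, orderOf y = N + 1 := ⟨orderOf y - 1, by omega⟩
            rw [hN, Nat.add_sub_cancel]
            ring
          rw [h7, pow_mul, pow_orderOf_eq_one, one_pow, inv_one, one_smul]
        rw [h6] at h5
        exact h5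
  intro i
  exact h3 i i rfl

theorem newC_sound {wy : List ℕ} {r x s i : ℕ} (h : newC P Q wy r x s i = true) :
    act P 0 i = i ∧ act P 7 i = i ∧ act P 2 (act P 1 i) = i ∧ act P 4 (act P 3 i) = i ∧ act P 6 (act P 5 i) = i ∧
    act P 3 (act P 1 i) = itA (act P 1) r (act P 3 i) ∧ act P 5 (act P 3 i) = itA (act P x) s (act P 5 i) ∧
    actW Q wy i = act P 1 i := by
  unfold newC at h
  simp only [force_eq] at h
  obtain ⟨h1, h⟩ := sel_true_left h
  obtain ⟨h2, h⟩ := sel_true_left h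
  obtain ⟨h3, h⟩ := sel_true_left h
  obtain ⟨h4, h⟩ := sel_true_left h
  obtain ⟨h5, h⟩ := sel_true_left h
  obtain ⟨h6, h⟩ := sel_true_left h
  obtain ⟨h7, h⟩ := sel_true_left h
  exact ⟨beq_true h1, beq_true h2, beq_true h3, beq_true h4, beq_true h5, beq_true h6, beq_true h7, beq_true h⟩

/-- first stage: the letters `1` and `2` -/
theorem stage1 {f : ℕ → G} {ny : ℕ} (hQ : ∀ d, d ≠ 0 → d ≤ ny → Is P (act Q d) (f d)) {wy : List ℕ}
    (hwy : ∀ x ∈ wy, x ≠ 0 ∧ x ≤ ny) {r x s : ℕ} (hc : Cov (newC P Q wy r x s) 0 P.m) :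
    Is P (act P 1) ((wy.map f).prod) ∧ Is P (act P 2) ((wy.map f).prod)⁻¹ := by
  have hn := fun i (hi : i < P.m) => newC_sound (hc i (Nat.zero_le _) hi)
  have h1 : Is P (act P 1) ((wy.map f).prod) := by
    intro i
    rw [← (hn i i.2).2.2.2.2.2.2.2]
    exact actW_is hQ hwy i
  exact ⟨h1, h1.inv fun i hi => (hn i hi).2.2.1⟩

theorem stage2 [Finite G] {f : ℕ → G} {ny : ℕ} (hQ : ∀ d, d ≠ 0 → d ≤ ny → Is P (act Q d) (f d)) {wy : List ℕ}
    (hwy : ∀ x ∈ wy, x ≠ 0 ∧ x ≤ ny) {r x s cu cv fuel : ℕ} (hc : Cov (newC P Q wy r x s) 0 P.m)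
    {l : List (ℕ × ℕ × ℕ)} (hx : ExP G P l []) (hxs : x = 3 ∨ x = 4)
    (hr : relC P (runF (mixA Q P ny) 4 15 (ny + 2) fuel cu) (runF (mixA Q P ny) 4 15 (ny + 2) fuel cv) r x s
      (l.map fun t => t.1) = true)
    {maskY maskU nY nU nY' nU' : ℕ}
    (wY : CK (fun _ => True) (NM P ((wy.map f).prod)) maskY nY 0 P.m)
    (dU : CK (fun i => runF (mixA Q P ny) 4 15 (ny + 2) fuel cu i = act P 3 i) (fun _ => True) maskY nY' 0 P.m)
    (wU : Is P (act P 3) (wordE (mixE f ny ((wy.map f).prod)) 4 15 (ny + 2) fuel cu) →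
      CK (fun _ => True) (NM P (wordE (mixE f ny ((wy.map f).prod)) 4 15 (ny + 2) fuel cu)) maskU nU 0 P.m)
    (dV : CK (fun i => runF (mixA Q P ny) 4 15 (ny + 2) fuel cv i = act P 5 i) (fun _ => True) maskU nU' 0 P.m) :
    LettersOK P (gN ((wy.map f).prod) (wordE (mixE f ny ((wy.map f).prod)) 4 15 (ny + 2) fuel cu)
      (wordE (mixE f ny ((wy.map f).prod)) 4 15 (ny + 2) fuel cv)) := by
  have hn := fun i (hi : i < P.m) => newC_sound (hc i (Nat.zero_le _) hi)
  obtain ⟨h1, h2⟩ := stage1 hQ hwy hc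
  set y := (wy.map f).prod with hy
  set u := wordE (mixE f ny y) 4 15 (ny + 2) fuel cu with hu
  set v := wordE (mixE f ny y) 4 15 (ny + 2) fuel cv with hv
  have hmix := mixA_is hQ h1 h2
  have ru : Is P (runF (mixA Q P ny) 4 15 (ny + 2) fuel cu) u := wordE_is hmix fuel cu
  have rv : Is P (runF (mixA Q P ny) 4 15 (ny + 2) fuel cv) v := wordE_is hmix fuel cv
  obtain ⟨hr1, hr2⟩ := sel_true_left hr
  have e1 : y * u = u * y ^ r := by
    refine eq_of_eqB hx hr1 (fun i => ?_) (fun i => ?_)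
    · rw [forceN_eq]
      exact h1.comp ru i
    · rw [forceN_eq]
      exact ru.comp (itA_is h1 r) i
  have h3 : Is P (act P 3) u := by
    refine table_of_rel e1 h1 (itA_is h1 r) (fun i hi => (hn i hi).2.2.2.2.2.1)
      (fun i hi hm => (wY.2.1 i (Nat.zero_le _) hi).2 hm) (fun i hi hm i' hi' => ?_)
    rw [← (dU.2.1 i (Nat.zero_le _) hi).1 hm, ← ru, hi']
  have h4 : Is P (act P 4) u⁻¹ := h3.inv fun i hi => (hn i hi).2.2.2.1
  obtain ⟨t, ht⟩ : ∃ t : G, Is P (act P x) t := by
    rcases hxs with rfl | rfl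
    · exact ⟨_, h3⟩
    · exact ⟨_, h4⟩
  have e2 : u * v = v * t ^ s := by
    refine eq_of_eqB hx hr2 (fun i => ?_) (fun i => ?_)
    · rw [forceN_eq]
      exact h3.comp rv i
    · rw [forceN_eq]
      exact rv.comp (itA_is ht s) i
  have wU' := wU h3
  have h5 : Is P (act P 5) v := by
    refine table_of_rel e2 h3 (itA_is ht s) (fun i hi => (hn i hi).2.2.2.2.2.2.1)
      (fun i hi hm => (wU'.2.1 i (Nat.zero_le _) hi).2 hm) (fun i hi hm i' hi' => ?_)
    rw [← (dV.2.1 i (Nat.zero_le _) hi).1 hm, ← rv, hi']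
  have h6 : Is P (act P 6) v⁻¹ := h5.inv fun i hi => (hn i hi).2.2.2.2.1
  have h0 : Is P (act P 0) (1 : G) := fun i => by rw [(hn i i.2).1, inv_one, one_smul]
  have h7 : Is P (act P 7) (1 : G) := fun i => by rw [(hn i i.2).2.1, inv_one, one_smul]
  refine ⟨?_, ?_, ?_, ?_, ?_, ?_⟩
  · intro z hz i
    interval_cases z
    · exact (h0 i).symm
    · exact (h1 i).symm
    · exact (h2 i).symm
    · exact (h3 i).symm
    · exact (h4 i).symm
    · exact (h5 i).symm
    · exact (h6 i).symm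
    · exact (h7 i).symm
  · simp [gN]
  · simp [gN]
  · simp [gN]
  · simp [gN]
  · simp [gN]

end

end Cfsg.Agent.H90.Sift2
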